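import Cfsg.Agent.Lib.LocalEven.BlockSection
import Cfsg.Agent.Lib.Solv.Component
import Cfsg.Prelude.Def_BaumannBlocks
import Mathlib.GroupTheory.SpecificGroups.Alternating.Simple
import Mathlib.LinearAlgebra.Projectivization.PSL.PSL2

/-!
The groups occurring in blocks: non-commuting pairs on the natural modules, quasisimplicity of the large ones,
and the arithmetic of the two small ones.
-/

set_option autoImplicit false

open scoped commutatorElement

namespace Cfsg.Agent.LocalEven.SubnBlock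

open Cfsg.Agent.LocalEven.Block

section SL

variable {F : Type*} [Field F] [Fintype F]

local notation "SL2" => Matrix.SpecialLinearGroup (Fin 2) F

omit [Fintype F] in
theorem comm_mulVec (x : F) (v : Fin 2 → F) :
    ((⁅weylW (F := F), trU x⁆ : SL2) : Matrix (Fin 2) (Fin 2) F).mulVec v =
      ![v 0 - x * v 1, -x * v 0 + (1 + x * x) * v 1] := by
  rw [commutatorElement_def, Matrix.SpecialLinearGroup.coe_mul, Matrix.SpecialLinearGroup.coe_mul,
    Matrix.SpecialLinearGroup.coe_mul, Matrix.SpecialLinearGroup.coe_inv, Matrix.SpecialLinearGroup.coe_inv]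
  simp only [weylW, trU, Matrix.adjugate_fin_two_of]
  ext i
  fin_cases i <;> simp [Matrix.mulVec, dotProduct, Fin.sum_univ_two, Matrix.mul_apply] <;> ring_nf <;> simp

theorem sl2_noncommuting (h : 3 ≤ Fintype.card F) :
    ∃ M ∈ commutator SL2, ∃ N ∈ commutator SL2, ∃ v : Fin 2 → F,
      (M : Matrix (Fin 2) (Fin 2) F).mulVec ((N : Matrix (Fin 2) (Fin 2) F).mulVec v) ≠
        (N : Matrix (Fin 2) (Fin 2) F).mulVec ((M : Matrix (Fin 2) (Fin 2) F).mulVec v) := by
  classical
  have hx : ∀ x : F, ⁅weylW (F := F), trU x⁆ ∈ commutator SL2 := fun x =>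
    Subgroup.commutator_mem_commutator (Subgroup.mem_top _) (Subgroup.mem_top _)
  obtain ⟨y, hy0, hy1⟩ : ∃ y : F, y ≠ 0 ∧ y ≠ 1 := by
    by_contra hc
    push Not at hc
    have hsub : (Finset.univ : Finset F) ⊆ {0, 1} := fun z _ => by
      by_cases hz : z = 0
      · simp [hz]
      · simp [hc z hz]
    have := (Finset.card_le_card hsub).trans Finset.card_le_two
    rw [Finset.card_univ] at this
    omega
  have e1 := comm_mulVec (F := F)
  refine ⟨_, hx 1, _, hx y, ![0, 1], fun he => ?_⟩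
  have h0 := congrFun he 0
  rw [e1, e1, e1, e1] at h0
  simp at h0
  exact mul_ne_zero hy0 (sub_ne_zero.2 hy1) (by linear_combination -h0)

theorem sl2_quasisimple (h : 4 ≤ Fintype.card F) :
    commutator SL2 = ⊤ ∧ Cfsg.IsQuasisimple SL2 := by
  classical
  obtain ⟨a, ha0, ha1, ha2⟩ : ∃ a : F, a ≠ 0 ∧ a ≠ 1 ∧ a ≠ -1 := by
    by_contra hc
    push Not at hc
    have hsub : (Finset.univ : Finset F) ⊆ {0, 1, -1} := fun z _ => by
      by_cases hz : z = 0
      · simp [hz]
      by_cases hz1 : z = 1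
      · simp [hz1]
      · simp [hc z hz hz1]
    have := (Finset.card_le_card hsub).trans Finset.card_le_three
    rw [Finset.card_univ] at this
    omega
  have hsq : a ^ 2 ≠ 1 := fun hh => by
    rcases sq_eq_one_iff.1 hh with h1 | h1
    · exact ha1 h1
    · exact ha2 h1
  have htop : commutator SL2 = ⊤ := Matrix.SL2.commutator_eq_top ha0 hsq
  exact ⟨htop, ⟨htop⟩, Matrix.ProjectiveSpecialLinearGroup.rank_two_simple
    (by rw [Nat.card_eq_fintype_card]; omega)⟩

end SL

section Alt

open Equiv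

theorem alt_noncommuting {n : ℕ} (h : 5 ≤ n) :
    ∃ σ ∈ alternatingGroup (Fin n), ∃ τ ∈ alternatingGroup (Fin n), σ * τ ≠ τ * σ := by
  set a : Fin n := ⟨0, by omega⟩ with ha
  set b : Fin n := ⟨1, by omega⟩ with hb
  set c : Fin n := ⟨2, by omega⟩ with hc
  set d : Fin n := ⟨3, by omega⟩ with hd
  have hab : a ≠ b := by simp [ha, hb]
  have hbc : b ≠ c := by simp [hb, hc]
  have hcd : c ≠ d := by simp [hc, hd]
  have hac : a ≠ c := by simp [ha, hc]
  have had : a ≠ d := by simp [ha, hd]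
  have hbd : b ≠ d := by simp [hb, hd]
  refine ⟨swap a b * swap b c, ?_, swap b c * swap c d, ?_, fun he => ?_⟩
  · rw [Perm.mem_alternatingGroup, map_mul, Perm.sign_swap hab, Perm.sign_swap hbc]; rfl
  · rw [Perm.mem_alternatingGroup, map_mul, Perm.sign_swap hbc, Perm.sign_swap hcd]; rfl
  · have h1 := congrArg (fun g : Perm (Fin n) => g a) he
    simp [swap_apply_of_ne_of_ne, hab, hab.symm, hac, hac.symm, had, had.symm, hbc, hbc.symm, hbd,
      hbd.symm, hcd, hcd.symm] at h1

/-- Non-commuting permutations move some even-weight vector differently. -/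
theorem perm_witness {n : ℕ} (hn : 3 ≤ n) {g h : Perm (Fin n)} (hne : g ≠ h) :
    ∃ v : Fin n → ZMod 2, ∑ i, v i = 0 ∧ (fun l => v (g⁻¹ l)) ≠ fun l => v (h⁻¹ l) := by
  obtain ⟨l, hl⟩ : ∃ l, g⁻¹ l ≠ h⁻¹ l := by
    by_contra hc
    push Not at hc
    exact hne (inv_injective (Perm.ext hc))
  obtain ⟨c, hc1, hc2⟩ : ∃ c, c ≠ g⁻¹ l ∧ c ≠ h⁻¹ l := by
    by_contra hc
    push Not at hc
    have hsub : (Finset.univ : Finset (Fin n)) ⊆ {g⁻¹ l, h⁻¹ l} := fun z _ => by
      by_cases hz : z = g⁻¹ l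
      · simp [hz]
      · simp [hc z hz]
    have := (Finset.card_le_card hsub).trans Finset.card_le_two
    simp at this
    omega
  refine ⟨pairVec (g⁻¹ l) c, ?_, fun he => ?_⟩
  · rw [Finset.sum_eq_add (f := pairVec (g⁻¹ l) c) (g⁻¹ l) c hc1.symm
      (fun k _ hk => if_neg fun hh => hh.elim hk.1 hk.2) (by simp) (by simp)]
    simp [pairVec]
    rfl
  · have h1 := congrFun he l
    simp [pairVec, Ne.symm hl, Ne.symm hc2] at h1
    exact hc2 (h1 (Ne.symm hl)).symm

theorem alt_quasisimple {n : ℕ} (h : 5 ≤ n) : Cfsg.IsQuasisimple ↥(alternatingGroup (Fin n)) := by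
  haveI : IsSimpleGroup ↥(alternatingGroup (Fin n)) :=
    alternatingGroup.isSimpleGroup (by rw [Nat.card_eq_fintype_card, Fintype.card_fin]; exact h)
  obtain ⟨σ, hσ, τ, hτ, hne⟩ := alt_noncommuting h
  have hna : ¬ ∀ a b : ↥(alternatingGroup (Fin n)), a * b = b * a := fun hc =>
    hne (congrArg Subtype.val (hc ⟨σ, hσ⟩ ⟨τ, hτ⟩))
  refine ⟨⟨?_⟩, ?_⟩
  · refine ((inferInstance : (commutator ↥(alternatingGroup (Fin n))).Normal).eq_bot_or_eq_top).resolve_left
      fun hb => hna fun a b => ?_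
    have : ⁅a, b⁆ ∈ commutator ↥(alternatingGroup (Fin n)) :=
      Subgroup.commutator_mem_commutator (Subgroup.mem_top _) (Subgroup.mem_top _)
    rw [hb, Subgroup.mem_bot] at this
    exact commutatorElement_eq_one_iff_mul_comm.1 this
  · have hz : Subgroup.center ↥(alternatingGroup (Fin n)) = ⊥ :=
      ((inferInstance : (Subgroup.center ↥(alternatingGroup (Fin n))).Normal).eq_bot_or_eq_top).resolve_right
        fun ht => hna fun a b => Subgroup.mem_center_iff.1 (ht ▸ Subgroup.mem_top b) a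
    haveI : Nontrivial (↥(alternatingGroup (Fin n)) ⧸ Subgroup.center ↥(alternatingGroup (Fin n))) :=
      QuotientGroup.nontrivial_iff.2 (by rw [hz]; exact bot_ne_top)
    exact IsSimpleGroup.isSimpleGroup_of_surjective
      (QuotientGroup.mk' (Subgroup.center ↥(alternatingGroup (Fin n)))) (QuotientGroup.mk'_surjective _)

theorem alt_three_cube : ∀ σ ∈ alternatingGroup (Fin 3), σ * (σ * σ) = 1 := by
  simp only [Perm.mem_alternatingGroup]
  decide

end Alt

section Small

local notation "SL(" q ")" => Matrix.SpecialLinearGroup (Fin 2) (ZMod q)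

/-- `{1, -1}` and the elements of trace `0` of `SL₂(3)`. -/
def IsQ8 (M : SL(3)) : Prop :=
  (M.1 = 1) ∨ (M.1 = -1) ∨ M.1 * M.1 = -1

instance : DecidablePred IsQ8 := fun M => by unfold IsQ8; infer_instance

theorem q8_commutator : ∀ M N : SL(3), IsQ8 ⁅M, N⁆ := by
  unfold IsQ8; simp only [commutatorElement_def]; decide

theorem q8_mul : ∀ M N : SL(3), IsQ8 M → IsQ8 N → IsQ8 (M * N) := by
  decide

theorem q8_inv : ∀ M : SL(3), IsQ8 M → IsQ8 M⁻¹ := by unfold IsQ8; decide

theorem q8_of_mem {M : SL(3)} (hM : M ∈ commutator SL(3)) : IsQ8 M := by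
  have hle : commutator SL(3) ≤
      { carrier := {M | IsQ8 M}
        one_mem' := Or.inl rfl
        mul_mem' := fun {a b} => q8_mul a b
        inv_mem' := fun {a} => q8_inv a } := by
    rw [commutator_eq_closure, Subgroup.closure_le]
    rintro _ ⟨a, b, rfl⟩
    exact q8_commutator a b
  exact hle hM

theorem q8_trans : ∀ v w : Fin 2 → ZMod 3, v ≠ 0 → w ≠ 0 →
    ∃ M : SL(3), (IsQ8 M ∧ ∃ g h : SL(3), ⁅g, h⁆ = M) ∧ M.1.mulVec v = w := by
  have h1 : ∀ v w : Fin 2 → ZMod 3, v ≠ 0 → w ≠ 0 →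
      ∃ M : SL(3), IsQ8 M ∧ M.1.mulVec v = w := by unfold IsQ8; decide
  have h2 : ∀ M : SL(3), IsQ8 M → ∃ g h : SL(3), ⁅g, h⁆ = M := by
    unfold IsQ8; simp only [commutatorElement_def]; decide
  intro v w hv hw
  obtain ⟨M, hM, hMv⟩ := h1 v w hv hw
  exact ⟨M, ⟨hM, h2 M hM⟩, hMv⟩

theorem two_commutator : ∀ M N : SL(2), ⁅M, N⁆ * (⁅M, N⁆ * ⁅M, N⁆) = 1 := by
  simp only [commutatorElement_def]; decide

theorem two_cube {M : SL(2)} (hM : M ∈ commutator SL(2)) : M * (M * M) = 1 := by
  have h1 : ∀ M N : SL(2), M * (M * M) = 1 → N * (N * N) = 1 → (M * N) * ((M * N) * (M * N)) = 1 := by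
    decide
  have h2 : ∀ M : SL(2), M * (M * M) = 1 → M⁻¹ * (M⁻¹ * M⁻¹) = 1 := by decide
  have hle : commutator SL(2) ≤
      { carrier := {M | M * (M * M) = 1}
        one_mem' := by simp
        mul_mem' := fun {a b} => h1 a b
        inv_mem' := fun {a} => h2 a } := by
    rw [commutator_eq_closure, Subgroup.closure_le]
    rintro _ ⟨a, b, rfl⟩
    exact two_commutator a b
  exact hle hM

/-- Transport of the facts for `q = 3` to any field with three elements. -/
theorem three_facts {F : Type*} [Field F] [Fintype F] (hF : Fintype.card F = 3) :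
    (∀ M ∈ commutator (Matrix.SpecialLinearGroup (Fin 2) F),
        (M : Matrix (Fin 2) (Fin 2) F) = 1 ∨ (M : Matrix (Fin 2) (Fin 2) F) = -1 ∨
          (M : Matrix (Fin 2) (Fin 2) F) * (M : Matrix (Fin 2) (Fin 2) F) = -1) ∧
    ∀ v w : Fin 2 → F, v ≠ 0 → w ≠ 0 → ∃ M ∈ commutator (Matrix.SpecialLinearGroup (Fin 2) F),
      (M : Matrix (Fin 2) (Fin 2) F).mulVec v = w := by
  haveI : Fact (Nat.Prime 3) := ⟨Nat.prime_three⟩
  set e : ZMod 3 ≃+* F := ZMod.ringEquivOfPrime F Nat.prime_three hF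
  set f : SL(3) →* Matrix.SpecialLinearGroup (Fin 2) F := Matrix.SpecialLinearGroup.map e.toRingHom
  have hf : Function.Surjective f := by
    intro M
    refine ⟨Matrix.SpecialLinearGroup.map e.symm.toRingHom M, ?_⟩
    ext i j
    simp [f]
  have hc : (commutator SL(3)).map f = commutator (Matrix.SpecialLinearGroup (Fin 2) F) := by
    rw [commutator_def, Subgroup.map_commutator, Subgroup.map_top_of_surjective f hf, commutator_def]
  refine ⟨fun M hM => ?_, fun v w hv hw => ?_⟩
  · rw [← hc] at hM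
    obtain ⟨N, hN, rfl⟩ := hM
    have hcoe : (f N : Matrix (Fin 2) (Fin 2) F) = e.toRingHom.mapMatrix N.1 := rfl
    rw [hcoe, ← map_mul]
    rcases q8_of_mem hN with h | h | h
    · exact Or.inl (by rw [h, map_one])
    · exact Or.inr (Or.inl (by rw [h, map_neg, map_one]))
    · exact Or.inr (Or.inr (by rw [h, map_neg, map_one]))
  · have hne : ∀ u : Fin 2 → F, u ≠ 0 → (fun i => e.symm (u i)) ≠ 0 := fun u hu h => hu (funext fun i =>
      e.symm.injective ((congrFun h i).trans (map_zero e.symm).symm))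
    obtain ⟨M, ⟨-, g, g', rfl⟩, hMv⟩ := q8_trans _ _ (hne v hv) (hne w hw)
    refine ⟨f ⁅g, g'⁆, by
      rw [map_commutatorElement]
      exact Subgroup.commutator_mem_commutator (Subgroup.mem_top _) (Subgroup.mem_top _), funext fun i => ?_⟩
    have h1 := congrArg e (congrFun hMv i)
    simp only [Matrix.mulVec, dotProduct, map_sum, map_mul, RingEquiv.apply_symm_apply] at h1
    simpa [Matrix.mulVec, dotProduct, f, -map_commutatorElement] using h1

theorem two_facts {F : Type*} [Field F] [Fintype F] (hF : Fintype.card F = 2) :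
    ∀ M ∈ commutator (Matrix.SpecialLinearGroup (Fin 2) F), M * (M * M) = 1 := by
  haveI : Fact (Nat.Prime 2) := ⟨Nat.prime_two⟩
  set e : ZMod 2 ≃+* F := ZMod.ringEquivOfPrime F Nat.prime_two hF
  set f : SL(2) →* Matrix.SpecialLinearGroup (Fin 2) F := Matrix.SpecialLinearGroup.map e.toRingHom
  have hf : Function.Surjective f := by
    intro M
    refine ⟨Matrix.SpecialLinearGroup.map e.symm.toRingHom M, ?_⟩
    ext i j
    simp [f]
  have hc : (commutator SL(2)).map f = commutator (Matrix.SpecialLinearGroup (Fin 2) F) := by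
    rw [commutator_def, Subgroup.map_commutator, Subgroup.map_top_of_surjective f hf, commutator_def]
  intro M hM
  rw [← hc] at hM
  obtain ⟨N, hN, rfl⟩ := hM
  rw [← map_mul, ← map_mul, two_cube hN, map_one]

end Small

end Cfsg.Agent.LocalEven.SubnBlock
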