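import Cfsg.Agent.Lib.LocalEven.BlockFacts
import Cfsg.Agent.Lib.Solv.HallHigman
import Mathlib.GroupTheory.Index
import Mathlib.Algebra.BigOperators.Group.Finset.Basic

/-!
General lemmas on the coprime action of `E = O^p(E)` on abelian `p`-groups.
-/

set_option autoImplicit false

open scoped commutatorElement

namespace Cfsg.Agent.LocalEven.SubnBlock

open Cfsg Cfsg.Agent.Fusion Cfsg.Agent.LocalEven.Block

variable {G : Type*} [Group G] [Finite G] {p : ℕ} [hp : Fact p.Prime]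

omit [Finite G] hp in
theorem comm_mem {K : Subgroup G} {x y : G} (hx : x ∈ K) (hy : y ∈ Subgroup.normalizer (K : Set G)) :
    ⁅x, y⁆ ∈ K ∧ ⁅y, x⁆ ∈ K := by
  have h1 : y * x⁻¹ * y⁻¹ ∈ K := (Subgroup.mem_normalizer_iff.1 hy _).1 (inv_mem hx)
  have h2 : ⁅x, y⁆ ∈ K := by
    rw [commutatorElement_def, mul_assoc x y, mul_assoc x]
    exact mul_mem hx h1
  exact ⟨h2, commutatorElement_inv x y ▸ inv_mem h2⟩

/-- `[A, E, E] = [A, E]`. -/
theorem comm_comm_eq {A E : Subgroup G} (hE : pResidualOf p E = E) (hA : IsPGroup p A)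
    (hab : ∀ a ∈ A, ∀ b ∈ A, a * b = b * a) (hn : E ≤ Subgroup.normalizer (A : Set G)) :
    ⁅⁅A, E⁆, E⁆ = ⁅A, E⁆ := by
  have hn1 : E ≤ Subgroup.normalizer ((⁅A, E⁆ : Subgroup G) : Set G) := Subgroup.normalizer_commutator_ge_right _ _
  have hn2 : E ≤ Subgroup.normalizer ((⁅⁅A, E⁆, E⁆ : Subgroup G) : Set G) := Subgroup.normalizer_commutator_ge_right _ _
  have h1 : ⁅A, E⁆ ≤ A := Subgroup.le_normalizer_iff_commutator_le_left.1 hn
  have hXA : ⁅⁅A, E⁆, E⁆ ≤ ⁅A, E⁆ := Subgroup.le_normalizer_iff_commutator_le_left.1 hn1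
  refine le_antisymm hXA (Subgroup.commutator_le.2 fun a ha e he => ?_)
  let Y : Subgroup G :=
    { carrier := {y | y ∈ E ∧ ∀ b ∈ A, ⁅b, y⁆ ∈ ⁅⁅A, E⁆, E⁆}
      one_mem' := ⟨one_mem E, fun b _ => by simp⟩
      mul_mem' := by
        rintro x y ⟨hx, hx'⟩ ⟨hy, hy'⟩
        refine ⟨mul_mem hx hy, fun b hb => ?_⟩
        rw [commutatorElement_mul_right_eq_mul_conj, mul_assoc ⁅b, x⁆, mul_assoc ⁅b, x⁆]
        exact mul_mem (hx' b hb) ((Subgroup.mem_normalizer_iff.1 (hn2 hx) _).1 (hy' b hb))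
      inv_mem' := by
        rintro x ⟨hx, hx'⟩
        refine ⟨inv_mem hx, fun b hb => ?_⟩
        have e1 : ⁅b, x⁻¹⁆ = x⁻¹ * ⁅b, x⁆⁻¹ * (x⁻¹)⁻¹ := by simp [commutatorElement_def, mul_assoc]
        rw [e1]
        exact (Subgroup.mem_normalizer_iff.1 (hn2 (inv_mem hx)) _).1 (inv_mem (hx' b hb)) }
  suffices h : E ≤ Y from (h he).2 a ha
  conv_lhs => rw [← hE]
  refine Res.res_le fun x hx hc => ⟨hx, fun b hb => ?_⟩
  set c := ⁅b, x⁆ with hcdef
  have hcm : c ∈ ⁅A, E⁆ := Subgroup.commutator_mem_commutator hb hx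
  have hpow : ∀ k : ℕ, (c ^ k)⁻¹ * ⁅b, x ^ k⁆ ∈ ⁅⁅A, E⁆, E⁆ := by
    intro k
    induction k with
    | zero => simp
    | succ k ih =>
      have hd : ⁅b, x ^ k⁆ ∈ ⁅A, E⁆ := Subgroup.commutator_mem_commutator hb (pow_mem hx k)
      have hw : ⁅⁅b, x ^ k⁆, x⁆⁻¹ ∈ ⁅⁅A, E⁆, E⁆ := inv_mem (Subgroup.commutator_mem_commutator hd hx)
      have e1 : ⁅b, x ^ (k + 1)⁆ = c * (⁅⁅b, x ^ k⁆, x⁆⁻¹ * ⁅b, x ^ k⁆) := by
        simp only [hcdef, commutatorElement_def, pow_succ']; group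
      have e2 : (c ^ (k + 1))⁻¹ * ⁅b, x ^ (k + 1)⁆ =
          ((c ^ k)⁻¹ * ⁅b, x ^ k⁆) * ⁅⁅b, x ^ k⁆, x⁆⁻¹ := by
        rw [e1, pow_succ', mul_inv_rev, hab _ (h1 (hXA hw)) _ (h1 hd)]
        group
      rw [e2]
      exact mul_mem ih hw
  have hn' := hpow (orderOf x)
  rw [pow_orderOf_eq_one, commutatorElement_one_right, mul_one, inv_mem_iff] at hn'
  obtain ⟨k, hk⟩ := hA ⟨c, h1 hcm⟩
  have hk' : c ^ p ^ k = 1 := congrArg Subtype.val hk
  obtain ⟨j, hj⟩ : ∃ j : ℕ, (c ^ orderOf x) ^ j = c :=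
    exists_pow_eq_self_of_coprime ((hc.pow_right k).coprime_dvd_right (orderOf_dvd_of_pow_eq_one hk'))
  rw [← hj]
  exact pow_mem hn' j

/-- A `p`-element of `[W, E]` fixed by `E` is trivial when `E` acts through a group of order prime to `p`. -/
theorem fixed_comm_eq_one {E W Q : Subgroup G} (hQE : Q ≤ E) (hQn : (Q.subgroupOf E).Normal)
    (hEW : E ≤ Subgroup.normalizer (W : Set G)) (hab : ∀ a ∈ W, ∀ b ∈ W, a * b = b * a)
    (hQW : ∀ q ∈ Q, ∀ w ∈ W, q * w = w * q) (hco : (Q.relIndex E).Coprime p)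
    {z : G} (hz : z ∈ ⁅W, E⁆) (hzE : ∀ e ∈ E, e * z = z * e) (hzp : z ^ p = 1) : z = 1 := by
  classical
  haveI := hQn
  letI : CommGroup ↥W := { (inferInstance : Group ↥W) with
    mul_comm := fun a b => Subtype.ext (hab _ a.2 _ b.2) }
  haveI : Fintype (↥E ⧸ Q.subgroupOf E) := Fintype.ofFinite _
  let c : ↥E → (↥W →* ↥W) := fun e =>
    { toFun := fun w => ⟨(e : G) * w * (e : G)⁻¹, (Subgroup.mem_normalizer_iff.1 (hEW e.2) _).1 w.2⟩
      map_one' := Subtype.ext (by simp)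
      map_mul' := fun a b => Subtype.ext (by simp [mul_assoc]) }
  have hcq : ∀ e e' : ↥E, QuotientGroup.mk (s := Q.subgroupOf E) e = QuotientGroup.mk e' → c e = c e' := by
    intro e e' he
    refine MonoidHom.ext fun w => Subtype.ext ?_
    have hq : (e : G)⁻¹ * e' ∈ Q := (show e⁻¹ * e' ∈ Q.subgroupOf E from QuotientGroup.eq.1 he)
    have h1 : ((e : G)⁻¹ * e') * w * ((e : G)⁻¹ * e')⁻¹ = w := by
      rw [hQW _ hq _ w.2, mul_inv_cancel_right]
    show (e : G) * w * (e : G)⁻¹ = (e' : G) * w * (e' : G)⁻¹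
    conv_lhs => rw [← h1]
    group
  let Nm : ↥W →* ↥W := ∏ x : ↥E ⧸ Q.subgroupOf E, c x.out
  have hinv : ∀ (e : ↥E) (w : ↥W), Nm (c e w) = Nm w := by
    intro e w
    simp only [Nm, MonoidHom.finsetProd_apply]
    refine Fintype.prod_equiv (Equiv.mulRight (e : ↥E ⧸ Q.subgroupOf E)) _ _ fun x => ?_
    simp only [Equiv.coe_mulRight]
    have h6 : c (x * QuotientGroup.mk (s := Q.subgroupOf E) e).out = c (x.out * e) :=
      hcq _ _ (by rw [QuotientGroup.out_eq', QuotientGroup.mk_mul, QuotientGroup.out_eq'])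
    rw [h6]
    refine Subtype.ext ?_
    simp [c, mul_assoc]
  have hle : ⁅W, E⁆ ≤ Nm.ker.map W.subtype := by
    refine Subgroup.commutator_le.2 fun w hw e he => ⟨⟨w, hw⟩ * (c ⟨e, he⟩ ⟨w, hw⟩)⁻¹, ?_, ?_⟩
    · show Nm _ = 1
      rw [map_mul, map_inv, hinv, mul_inv_cancel]
    · simp [c, commutatorElement_def, mul_assoc]
  obtain ⟨u, hu, rfl⟩ := hle hz
  have hu' : Nm u = 1 := hu
  have h2 : Nm u = u ^ Fintype.card (↥E ⧸ Q.subgroupOf E) := by
    simp only [Nm, MonoidHom.finsetProd_apply]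
    rw [Finset.prod_eq_pow_card (b := u), Finset.card_univ]
    intro x _
    refine Subtype.ext ?_
    show ((x.out : ↥E) : G) * u * ((x.out : ↥E) : G)⁻¹ = u
    have h5 := hzE _ x.out.2
    simp only [Subgroup.coe_subtype] at h5
    rw [h5]
    simp
  rw [h2] at hu'
  have h3 : (u : G) ^ Q.relIndex E = 1 := by
    rw [Subgroup.relIndex, Subgroup.index, Nat.card_eq_fintype_card]
    exact congrArg Subtype.val hu'
  have h4 := Nat.dvd_gcd (orderOf_dvd_of_pow_eq_one h3) (orderOf_dvd_of_pow_eq_one (x := (u : G)) hzp)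
  rw [hco.gcd_eq_one, Nat.dvd_one, orderOf_eq_one_iff] at h4
  exact h4

/-- If `[E, F]` lies in a `p`-group centralised by `F = O^p(F)`, it is trivial. -/
theorem comm_eq_bot {E F P : Subgroup G} (hF : pResidualOf p F = F) (hP : IsPGroup p P)
    (h : ⁅E, F⁆ ≤ P) (hc : P ≤ Subgroup.centralizer (F : Set G)) : ⁅E, F⁆ = ⊥ := by
  rw [Subgroup.commutator_eq_bot_iff_le_centralizer]
  intro e he
  refine Subgroup.mem_centralizer_iff.2 ?_
  suffices hs : F ≤ Subgroup.centralizer {e} from fun f hf =>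
    (Subgroup.mem_centralizer_iff.1 (hs hf) e rfl).symm
  conv_lhs => rw [← hF]
  refine Res.res_le fun f hf hco => Subgroup.mem_centralizer_singleton_iff.2 ?_
  set d := ⁅e, f⁆ with hd
  have hdP : d ∈ P := h (Subgroup.commutator_mem_commutator he hf)
  have hcomm : Commute d f := (Subgroup.mem_centralizer_iff.1 (hc hdP) f hf).symm
  have hconj : ∀ k : ℕ, e * f ^ k * e⁻¹ = d ^ k * f ^ k := by
    intro k
    rw [← conj_pow, show e * f * e⁻¹ = d * f by simp [hd, commutatorElement_def], hcomm.mul_pow]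
  have h1 := hconj (orderOf f)
  rw [pow_orderOf_eq_one, mul_one, mul_inv_cancel, mul_one] at h1
  obtain ⟨k, hk⟩ := hP ⟨d, hdP⟩
  have hk' : d ^ p ^ k = 1 := congrArg Subtype.val hk
  have h2 := Nat.dvd_gcd (orderOf_dvd_of_pow_eq_one h1.symm) (orderOf_dvd_of_pow_eq_one hk')
  rw [(hco.pow_right k).gcd_eq_one, Nat.dvd_one, orderOf_eq_one_iff] at h2
  have h3 := hconj 1
  simp only [pow_one, h2, one_mul] at h3
  calc f * e = e * f * e⁻¹ * e := by rw [h3]
    _ = e * f := by group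

omit [Finite G] hp in
theorem omega_comm {X : Subgroup G} : ∀ a ∈ omegaOneCenter p X, ∀ b ∈ omegaOneCenter p X, a * b = b * a :=
  fun a ha _ hb => Subgroup.mem_centralizer_iff.1 (omegaOneCenter_props hb).2.1 a (omegaOneCenter_props ha).1

omit hp [Finite G] in
theorem isPGroup_omegaOneCenter (X : Subgroup G) : IsPGroup p ↥(omegaOneCenter p X) :=
  fun g => ⟨1, Subtype.ext (by simpa using (omegaOneCenter_props g.2).2.2)⟩

/-- `V = Ω₁(Z(O_p(G)))`. -/
abbrev vSub (p : ℕ) (G : Type*) [Group G] : Subgroup G := omegaOneCenter p (pCore p G)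

omit [Finite G] hp in
theorem vSub_normal : (vSub p G).Normal := ⟨fun x hx g => by
  obtain ⟨h1, h2, h3⟩ := omegaOneCenter_props hx
  haveI : (pCore p G).Normal := inferInstance
  refine mem_omegaOneCenter (Subgroup.Normal.conj_mem inferInstance x h1 g)
    (Subgroup.mem_centralizer_iff.2 fun y hy => ?_) (by rw [conj_pow, h3, mul_one, mul_inv_cancel])
  have h4 := Subgroup.mem_centralizer_iff.1 h2 (g⁻¹ * y * g)
    (by simpa using Subgroup.Normal.conj_mem inferInstance y hy g⁻¹)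
  calc y * (g * x * g⁻¹) = g * ((g⁻¹ * y * g) * x) * g⁻¹ := by group
    _ = g * (x * (g⁻¹ * y * g)) * g⁻¹ := by rw [h4]
    _ = g * x * g⁻¹ * y := by group⟩

/-- The stabilizer of `O_p(G) ≥ V ≥ 1` lies in `O_p(G)`. -/
theorem mem_pCore_of_stab (hG : Subgroup.centralizer (pCore p G : Set G) ≤ pCore p G) {g : G}
    (hV : ∀ v ∈ vSub p G, g * v = v * g) (hR : ∀ r ∈ pCore p G, ⁅g, r⁆ ∈ vSub p G) : g ∈ pCore p G := by
  haveI hN : (vSub p G).Normal := vSub_normal
  haveI hRn : (pCore p G).Normal := inferInstance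
  set N := vSub p G with hNd
  set R := pCore p G with hRd
  let L : Subgroup G :=
    { carrier := {g | (∀ n ∈ N, g * n = n * g) ∧ ∀ r ∈ R, ⁅g, r⁆ ∈ N}
      one_mem' := ⟨fun n _ => by simp, fun r _ => by simp [commutatorElement_one_left, N.one_mem]⟩
      mul_mem' := fun {a b} ha hb => ⟨fun n hn => by rw [mul_assoc, hb.1 n hn, ← mul_assoc, ha.1 n hn, mul_assoc],
        fun r hr => by
          rw [show ⁅a * b, r⁆ = a * ⁅b, r⁆ * a⁻¹ * ⁅a, r⁆ by simp only [commutatorElement_def]; group,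
            ha.1 _ (hb.2 r hr), mul_inv_cancel_right]
          exact mul_mem (hb.2 r hr) (ha.2 r hr)⟩
      inv_mem' := fun {a} ha => ⟨fun n hn => by
          rw [inv_mul_eq_iff_eq_mul, ← mul_assoc, ha.1 n hn, mul_inv_cancel_right],
        fun r hr => by
          rw [show ⁅a⁻¹, r⁆ = a⁻¹ * ⁅a, r⁆⁻¹ * a by simp only [commutatorElement_def]; group, mul_assoc,
            ← ha.1 _ (inv_mem (ha.2 r hr)), inv_mul_cancel_left]
          exact inv_mem (ha.2 r hr)⟩ }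
  haveI hLn : L.Normal := ⟨fun a ha g => ⟨fun n hn => by
      have h1 := ha.1 _ (hN.conj_mem' n hn g)
      calc g * a * g⁻¹ * n = g * (a * (g⁻¹ * n * g)) * g⁻¹ := by group
        _ = g * ((g⁻¹ * n * g) * a) * g⁻¹ := by rw [h1]
        _ = n * (g * a * g⁻¹) := by group,
      fun r hr => by
      have h1 := ha.2 _ (hRn.conj_mem' r hr g)
      rw [show ⁅g * a * g⁻¹, r⁆ = g * ⁅a, g⁻¹ * r * g⁆ * g⁻¹ by simp only [commutatorElement_def]; group]
      exact hN.conj_mem _ h1 g⟩⟩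
  refine Fusion.le_pCore (N := L) ?_ (show g ∈ L from ⟨hV, hR⟩)
  rintro ⟨x, hx⟩
  obtain ⟨k, m, hm, hkm⟩ := Nat.exists_eq_pow_mul_and_not_dvd (orderOf_pos x).ne' p hp.out.ne_one
  refine ⟨k, Subtype.ext ?_⟩
  show x ^ p ^ k = 1
  set u := x ^ p ^ k with hu
  have hum : u ^ m = 1 := by rw [hu, ← pow_mul, ← hkm, pow_orderOf_eq_one]
  obtain ⟨huN, huR⟩ := pow_mem hx (p ^ k)
  have hmco : m.Coprime p := (hp.out.coprime_iff_not_dvd.2 hm).symm
  have hucent : u ∈ Subgroup.centralizer (R : Set G) := by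
    refine Subgroup.mem_centralizer_iff.2 fun r hr => ?_
    set c := ⁅u, r⁆ with hc
    have hcN : c ∈ N := huR r hr
    have hpow : ∀ j : ℕ, u ^ j * r * (u ^ j)⁻¹ = c ^ j * r := by
      intro j
      induction j with
      | zero => simp
      | succ j ih =>
        have h1 : u * c ^ j * u⁻¹ = c ^ j := by
          rw [huN _ (pow_mem hcN j), mul_inv_cancel_right]
        calc u ^ (j + 1) * r * (u ^ (j + 1))⁻¹ = u * (u ^ j * r * (u ^ j)⁻¹) * u⁻¹ := by
              rw [pow_succ']; group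
          _ = (u * c ^ j * u⁻¹) * (u * r * u⁻¹) := by rw [ih]; group
          _ = c ^ j * (c * r) := by rw [h1, hc, commutatorElement_def]; group
          _ = c ^ (j + 1) * r := by rw [pow_succ, mul_assoc]
    have h1 := hpow m
    rw [hum, one_mul, inv_one, mul_one] at h1
    have h2 : c ^ m = 1 := by rwa [eq_comm, mul_eq_right] at h1
    have h3 : c ^ p = 1 := (omegaOneCenter_props hcN).2.2
    have h4 := Nat.dvd_gcd (orderOf_dvd_of_pow_eq_one h2) (orderOf_dvd_of_pow_eq_one h3)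
    rw [hmco.gcd_eq_one, Nat.dvd_one, orderOf_eq_one_iff, hc, commutatorElement_eq_one_iff_mul_comm] at h4
    exact h4.symm
  obtain ⟨j, hj⟩ := Fusion.isPGroup_pCore p G ⟨u, hG hucent⟩
  have h5 : u ^ p ^ j = 1 := congrArg Subtype.val hj
  have h6 := Nat.dvd_gcd (orderOf_dvd_of_pow_eq_one hum) (orderOf_dvd_of_pow_eq_one h5)
  rwa [(hmco.pow_right j).gcd_eq_one, Nat.dvd_one, orderOf_eq_one_iff] at h6

end Cfsg.Agent.LocalEven.SubnBlock
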