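import Mathlib.GroupTheory.PGroup
import Mathlib.GroupTheory.Nilpotent
import Mathlib.GroupTheory.NoncommPiCoprod
import Mathlib.Algebra.Group.Subgroup.Finite
import Mathlib.Tactic.IntervalCases
import Mathlib.Tactic.Group

/-!
Two subgroups of a `q`-group each acting on an abelian group `V` of exponent `p ∈ {2, 3}` as the natural
`C₃` or `Q₈` on a subgroup of order `p²` and trivially modulo it: they commute or act equally.
-/

set_option autoImplicit false

namespace Cfsg.Agent.LocalEven.SubnBlock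

variable {Γ V : Type*} [Group Γ] [CommGroup V] {φ : Γ →* MulAut V} {p : ℕ}

/-- `A` acts on `U` like the derived group of `SL₂(p)` and trivially on `V / U`. -/
structure Good (φ : Γ →* MulAut V) (p : ℕ) (A : Subgroup Γ) (U : Subgroup V) : Prop where
  comm : ∀ a ∈ A, ∀ v : V, φ a v / v ∈ U
  card : Nat.card U = p ^ 2
  fpf : ∀ a ∈ A, ∀ u ∈ U, u ≠ 1 → φ a u = u → φ a = 1
  sq : ∃ g ∈ A, φ (g ^ 2) ≠ 1
  trans : ∀ u ∈ U, u ≠ 1 → ∀ u' ∈ U, u' ≠ 1 → ∃ a ∈ A, φ a u = u'
  quad : ∀ a ∈ A, (∃ k : ℕ, ∀ u ∈ U, φ a u = u ^ k) ∨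
    ∀ u ∈ U, φ a (φ a u) * (φ a u) ^ (3 - p) * u = 1

namespace Good

variable {A B : Subgroup Γ} {U U' : Subgroup V}

theorem map_mem (h : Good φ p A U) {a : Γ} (ha : a ∈ A) {u : V} (hu : u ∈ U) : φ a u ∈ U := by
  simpa using mul_mem (h.comm a ha u) hu

theorem exists_ne (h : Good φ p A U) (hp : 2 ≤ p) : ∃ u ∈ U, u ≠ 1 := by
  by_contra hc
  push Not at hc
  have h1 : U = ⊥ := (Subgroup.eq_bot_iff_forall U).2 hc
  have h2 := h.card
  rw [h1, Subgroup.card_bot] at h2
  have : 2 ^ 2 ≤ p ^ 2 := Nat.pow_le_pow_left hp 2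
  omega

theorem fixed_eq_one (h : Good φ p A U) {u : V} (hu : u ∈ U) (hfix : ∀ a ∈ A, φ a u = u) : u = 1 := by
  by_contra hne
  obtain ⟨g, hg, hg2⟩ := h.sq
  exact hg2 (by rw [map_pow, h.fpf g hg u hu hne (hfix g hg), one_pow])

theorem eq_of_invariant (h : Good φ p A U) {L : Subgroup V} (hL : L ≤ U)
    (hinv : ∀ a ∈ A, ∀ x ∈ L, φ a x ∈ L) (hne : L ≠ ⊥) : L = U := by
  obtain ⟨x, hx, hx1⟩ := L.bot_or_exists_ne_one.resolve_left hne
  refine le_antisymm hL fun u hu => ?_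
  rcases eq_or_ne u 1 with rfl | hu1
  · exact one_mem L
  obtain ⟨a, ha, rfl⟩ := h.trans x (hL hx) hx1 u hu hu1
  exact hinv a ha x hx

theorem conj (h : Good φ p A U) (γ : Γ) :
    Good φ p (A.map (MulAut.conj γ).toMonoidHom) (U.map (φ γ).toMonoidHom) := by
  have key : ∀ (a : Γ) (v : V), φ (MulAut.conj γ a) (φ γ v) = φ γ (φ a v) := fun a v => by
    simp [MulAut.mul_apply]
  have key' : ∀ (a : Γ) (v : V), φ (MulAut.conj γ a) v = φ γ (φ a ((φ γ)⁻¹ v)) := fun a v => by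
    simp [MulAut.mul_apply]
  have hone : ∀ a : Γ, φ a = 1 → φ (MulAut.conj γ a) = 1 := fun a ha => by
    simp [ha]
  refine ⟨?_, ?_, ?_, ?_, ?_, ?_⟩
  · rintro _ ⟨a, ha, rfl⟩ v
    refine ⟨φ a ((φ γ)⁻¹ v) / (φ γ)⁻¹ v, h.comm a ha _, ?_⟩
    simp [map_div, MulAut.mul_apply]
  · rw [Subgroup.card_map_of_injective (f := (φ γ).toMonoidHom) (φ γ).injective]
    exact h.card
  · rintro _ ⟨a, ha, rfl⟩ _ ⟨u, hu, rfl⟩ hne hfix
    refine hone a (h.fpf a ha u hu (fun h1 => hne (by simp [h1])) ((φ γ).injective ?_))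
    rw [← key]
    exact hfix
  · obtain ⟨g, hg, hg2⟩ := h.sq
    refine ⟨_, ⟨g, hg, rfl⟩, fun h1 => hg2 ?_⟩
    simp only [MulEquiv.coe_toMonoidHom, ← map_pow] at h1
    refine MulEquiv.ext fun v => (φ γ).injective ?_
    rw [← key, h1]
    rfl
  · rintro _ ⟨u, hu, rfl⟩ hu1 _ ⟨u', hu', rfl⟩ hu'1
    obtain ⟨a, ha, rfl⟩ := h.trans u hu (fun h1 => hu1 (by simp [h1])) u' hu' (fun h1 => hu'1 (by simp [h1]))
    exact ⟨_, ⟨a, ha, rfl⟩, key a u⟩
  · rintro _ ⟨a, ha, rfl⟩
    rcases h.quad a ha with ⟨k, hk⟩ | hq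
    · refine Or.inl ⟨k, ?_⟩
      rintro _ ⟨u, hu, rfl⟩
      simp only [MulEquiv.coe_toMonoidHom]
      rw [key, hk u hu, map_pow]
    · refine Or.inr ?_
      rintro _ ⟨u, hu, rfl⟩
      simp only [MulEquiv.coe_toMonoidHom]
      rw [key, key, ← map_pow, ← map_mul, ← map_mul, hq u hu, map_one]

variable [Finite Γ] [Finite V] [hp : Fact p.Prime] {q : ℕ} {P : Subgroup Γ} (hP : IsPGroup q P)
  (hq : q.Coprime p) (hexp : ∀ v : V, v ^ p = 1)

omit [Finite Γ] [Finite V] hp in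
include hP hq hexp in
/-- An element of the `q`-group trivial on `U` and on `V / U` is trivial. -/
theorem eq_one_of_series {x : Γ} (hx : x ∈ P) (hU : ∀ u ∈ U, φ x u = u) (hc : ∀ v : V, φ x v / v ∈ U) :
    φ x = 1 := by
  obtain ⟨k, hk⟩ := hP ⟨x, hx⟩
  have hk' : x ^ q ^ k = 1 := congrArg Subtype.val hk
  refine MulEquiv.ext fun v => ?_
  set w := φ x v / v with hw
  have hv : φ x v = v * w := by rw [hw]; simp
  have hpow : ∀ n : ℕ, φ (x ^ n) v = v * w ^ n := by
    intro n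
    induction n with
    | zero => simp
    | succ n ih =>
      rw [pow_succ', map_mul, MulAut.mul_apply, ih, map_mul, map_pow, hU w (hc v), hv, pow_succ',
        mul_assoc]
  have h1 := hpow (q ^ k)
  rw [hk', map_one, MulAut.one_apply, eq_comm, mul_eq_left] at h1
  have h2 : orderOf w ∣ Nat.gcd (q ^ k) p :=
    Nat.dvd_gcd (orderOf_dvd_of_pow_eq_one h1) (orderOf_dvd_of_pow_eq_one (hexp w))
  rw [(hq.pow_left k).gcd_eq_one, Nat.dvd_one, orderOf_eq_one_iff] at h2
  rw [hv, h2, mul_one, MulAut.one_apply]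

include hp in
omit [Finite Γ] in
theorem eq_of_gt {L : Subgroup V} (h : Good φ p A U) (hL : L ≤ U) {u w : V} (hu : u ∈ L)
    (hu1 : u ≠ 1) (hexp : ∀ v : V, v ^ p = 1) (hw : w ∈ L) (hwu : w ∉ Subgroup.zpowers u) : L = U := by
  refine Subgroup.eq_of_le_of_card_ge hL ?_
  obtain ⟨i, hi, hcard⟩ := (Nat.dvd_prime_pow hp.out).1 (h.card ▸ Subgroup.card_dvd_of_le hL)
  have hlt : p < Nat.card L := by
    have h1 : Nat.card (Subgroup.zpowers u) = p := by
      rw [Nat.card_zpowers]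
      exact orderOf_eq_prime (hexp u) hu1
    rw [← h1]
    exact Set.ncard_lt_ncard (show (Subgroup.zpowers u : Set V) ⊂ (L : Set V) from
      ⟨fun x hx => Subgroup.zpowers_le.2 hu hx, fun h' => hwu (h' hw)⟩) (Set.toFinite _)
  rw [h.card, hcard]
  interval_cases i
  · simp [hcard] at hlt
    exact absurd hlt (by have := hp.out.two_le; omega)
  · simp [hcard] at hlt
  · exact le_rfl

include hp hexp in
omit [Finite Γ] in
/-- Elements of the third kind move every line. -/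
theorem not_mem_zpowers (h : Good φ p A U) (hp3 : p = 2 ∨ p = 3) {a : Γ} (ha : a ∈ A)
    (hqu : ∀ u ∈ U, φ a (φ a u) * (φ a u) ^ (3 - p) * u = 1) {u : V} (hu : u ∈ U) (hu1 : u ≠ 1) :
    φ a u ∉ Subgroup.zpowers u := by
  intro hmem
  obtain ⟨k, hk : u ^ k = φ a u⟩ := (IsOfFinOrder.mem_powers_iff_mem_zpowers (isOfFinOrder_of_finite u)).2 hmem
  have h1 := hqu u hu
  rw [← hk, map_pow, ← hk, ← pow_mul, ← pow_mul, ← pow_add, ← pow_succ] at h1
  have h2 : p ∣ k * k + k * (3 - p) + 1 := by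
    have h3 := orderOf_dvd_of_pow_eq_one h1
    rwa [orderOf_eq_prime (hexp u) hu1] at h3
  rcases hp3 with rfl | rfl
  · rw [Nat.dvd_iff_mod_eq_zero, Nat.add_mod, Nat.add_mod (k * k), Nat.mul_mod k k, Nat.mul_mod k 1] at h2
    have := Nat.mod_lt k (show 0 < 2 by norm_num)
    interval_cases k % 2 <;> simp_all
  · rw [Nat.dvd_iff_mod_eq_zero, Nat.add_mod, Nat.add_mod (k * k), Nat.mul_mod k k, Nat.mul_mod k (3 - 3)] at h2
    have := Nat.mod_lt k (show 0 < 3 by norm_num)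
    interval_cases k % 3 <;> simp_all

include hP hq hexp hp in
/-- Two elements acting on a common `U` agree as soon as they agree at one point. -/
theorem eq_of_eq_at (hA : Good φ p A U) (hB : Good φ p B U) (hAP : A ≤ P) (hBP : B ≤ P)
    (hp3 : p = 2 ∨ p = 3) {a b : Γ} (ha : a ∈ A) (hb : b ∈ B) {u : V} (hu : u ∈ U) (hu1 : u ≠ 1)
    (he : φ a u = φ b u) : φ a = φ b := by
  have hagree : ∀ w ∈ U, φ a w = φ b w := by
    rcases hA.quad a ha with ⟨k, hk⟩ | hqa
    · rcases hB.quad b hb with ⟨j, hj⟩ | hqb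
      · intro w hw
        rw [hk w hw, hj w hw]
        have h1 : u ^ k = u ^ j := by rw [← hk u hu, ← hj u hu, he]
        rw [pow_eq_pow_iff_modEq, orderOf_eq_prime (hexp u) hu1] at h1
        rcases eq_or_ne w 1 with rfl | hw1
        · simp
        · rwa [pow_eq_pow_iff_modEq, orderOf_eq_prime (hexp w) hw1]
      · refine absurd ?_ (hB.not_mem_zpowers hexp hp3 hb hqb hu hu1)
        rw [← he, hk u hu]
        exact pow_mem (Subgroup.mem_zpowers u) k
    · rcases hB.quad b hb with ⟨j, hj⟩ | hqb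
      · refine absurd ?_ (hA.not_mem_zpowers hexp hp3 ha hqa hu hu1)
        rw [he, hj u hu]
        exact pow_mem (Subgroup.mem_zpowers u) j
      · have h2 : φ a (φ a u) = φ b (φ a u) := by
          have h1 := (hqa u hu).trans (hqb u hu).symm
          rw [← he] at h1
          exact mul_right_cancel (mul_right_cancel h1)
        set L : Subgroup V := U ⊓ MonoidHom.eqLocus (φ a).toMonoidHom (φ b).toMonoidHom with hL
        have hLU : L = U := hA.eq_of_gt inf_le_left (u := u) (w := φ a u) ⟨hu, he⟩ hu1 hexp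
          ⟨hA.map_mem ha hu, h2⟩ (hA.not_mem_zpowers hexp hp3 ha hqa hu hu1)
        exact fun w hw => (hLU.symm ▸ hw : w ∈ L).2
  have h1 : φ (a⁻¹ * b) = 1 := by
    refine eq_one_of_series hP hq hexp (U := U) (mul_mem (inv_mem (hAP ha)) (hBP hb))
      (fun w hw => by rw [map_mul, MulAut.mul_apply, map_inv, ← hagree w hw, MulAut.inv_apply_self])
      fun v => ?_
    rw [map_mul, MulAut.mul_apply, map_inv]
    have e : φ b v = v * (φ b v / v) := by simp
    have h3 : (φ a)⁻¹ v / v ∈ U := by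
      have := hA.comm a⁻¹ (inv_mem ha) v
      rwa [map_inv] at this
    have h4 : (φ a)⁻¹ (φ b v / v) ∈ U := by
      have := hA.map_mem (inv_mem ha) (hB.comm b hb v)
      rwa [map_inv] at this
    rw [e, map_mul, mul_div_right_comm]
    exact mul_mem h3 h4
  rw [map_mul, map_inv, inv_mul_eq_one] at h1
  exact h1

include hP hq hexp hp in
/-- A common `U` gives the same image. -/
theorem exists_eq (hA : Good φ p A U) (hB : Good φ p B U) (hAP : A ≤ P) (hBP : B ≤ P)
    (hp3 : p = 2 ∨ p = 3) {b : Γ} (hb : b ∈ B) : ∃ a ∈ A, φ a = φ b := by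
  obtain ⟨u, hu, hu1⟩ := hA.exists_ne hp.out.two_le
  obtain ⟨a, ha, he⟩ := hA.trans u hu hu1 (φ b u) (hB.map_mem hb hu) fun h => hu1 ((φ b).injective (by simp [h]))
  exact ⟨a, ha, hA.eq_of_eq_at hP hq hexp hB hAP hBP hp3 ha hb hu hu1 he⟩

omit [Finite Γ] hp in
/-- When `B` stabilises `U` and `U ≠ U'` they are disjoint and `B` fixes `U`. -/
theorem fix_of_stab (hA : Good φ p A U) (hB : Good φ p B U') (hne : U ≠ U')
    (hs : ∀ b ∈ B, ∀ u ∈ U, φ b u ∈ U) : U ⊓ U' = ⊥ ∧ ∀ b ∈ B, ∀ u ∈ U, φ b u = u := by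
  have h1 : U ⊓ U' = ⊥ := by
    by_contra h
    have h2 := hB.eq_of_invariant (L := U ⊓ U') inf_le_right
      (fun b hb x hx => ⟨hs b hb x hx.1, hB.map_mem hb hx.2⟩) h
    have hle : U' ≤ U := h2 ▸ inf_le_left
    exact hne (Subgroup.eq_of_le_of_card_ge hle (by rw [hA.card, hB.card])).symm
  refine ⟨h1, fun b hb u hu => ?_⟩
  have : φ b u / u ∈ U ⊓ U' := Subgroup.mem_inf.2 ⟨div_mem (hs b hb u hu) hu, hB.comm b hb u⟩
  rw [h1, Subgroup.mem_bot, div_eq_one] at this
  exact this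

end Good

theorem card_sup_le [Finite V] (X Y : Subgroup V) :
    Nat.card ↥(X ⊔ Y) ≤ Nat.card X * Nat.card Y := by
  rw [← Nat.card_prod]
  refine Nat.card_le_card_of_surjective
    (fun z => ⟨(z.1 : V) * z.2, mul_mem (Subgroup.mem_sup_left z.1.2) (Subgroup.mem_sup_right z.2.2)⟩) ?_
  rintro ⟨x, hx⟩
  obtain ⟨y, hy, z, hz, rfl⟩ := Subgroup.mem_sup.1 hx
  exact ⟨(⟨y, hy⟩, ⟨z, hz⟩), rfl⟩

theorem card_sup [Finite V] {X Y : Subgroup V} (h : X ⊓ Y = ⊥) :
    Nat.card ↥(X ⊔ Y) = Nat.card X * Nat.card Y := by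
  refine le_antisymm (card_sup_le X Y) ?_
  rw [← Nat.card_prod]
  refine Nat.card_le_card_of_injective
    (fun z => (⟨(z.1 : V) * z.2, mul_mem (Subgroup.mem_sup_left z.1.2) (Subgroup.mem_sup_right z.2.2)⟩ : ↥(X ⊔ Y))) ?_
  rintro ⟨a, b⟩ ⟨c, d⟩ he
  have he' : (a : V) * b = c * d := congrArg Subtype.val he
  have h1 : (c : V)⁻¹ * a = d * (b : V)⁻¹ := by
    rw [inv_mul_eq_iff_eq_mul, ← mul_assoc, eq_mul_inv_iff_mul_eq]
    exact he'
  have h2 : (c : V)⁻¹ * a ∈ X ⊓ Y :=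
    Subgroup.mem_inf.2 ⟨mul_mem (inv_mem c.2) a.2, h1 ▸ mul_mem d.2 (inv_mem b.2)⟩
  rw [h, Subgroup.mem_bot] at h2
  have ha : (a : V) = c := (inv_mul_eq_one.1 h2).symm
  have hb : (b : V) = d := by rw [ha] at he'; exact mul_left_cancel he'
  exact Prod.ext (Subtype.ext ha) (Subtype.ext hb)

variable [Finite Γ] [Finite V] [hp : Fact p.Prime] {q : ℕ} [hq' : Fact q.Prime] {P : Subgroup Γ}

/-- A proper subgroup of a `p`-group lies in a proper normal subgroup. -/
theorem exists_normal_proper (hP : IsPGroup q P) {A X : Subgroup Γ} (hX : X ≤ P) (hA : A < X) :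
    ∃ M < X, A ≤ M ∧ X ≤ Subgroup.normalizer (M : Set Γ) := by
  haveI : Group.IsNilpotent X := (hP.to_le hX).isNilpotent
  have hne : A.subgroupOf X ≠ ⊤ := fun h => hA.not_ge (Subgroup.subgroupOf_eq_top.1 h)
  obtain ⟨M, hM, hAM⟩ := (eq_top_or_exists_le_coatom (A.subgroupOf X)).resolve_left hne
  haveI := Subgroup.NormalizerCondition.normal_of_coatom M Group.normalizerCondition_of_isNilpotent hM
  refine ⟨M.map X.subtype, lt_of_le_of_ne (Subgroup.map_subtype_le M) fun h => hM.1 ?_, fun a ha => ?_, ?_⟩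
  · rw [← Subgroup.comap_map_eq_self_of_injective X.subtype_injective M, h]
    exact Subgroup.subgroupOf_self X
  · exact ⟨⟨a, hA.le ha⟩, hAM ha, rfl⟩
  · refine Subgroup.le_normalizer_iff.2 ?_
    rintro x hx _ ⟨m, hm, rfl⟩
    exact ⟨⟨x, hx⟩ * m * ⟨x, hx⟩⁻¹, (inferInstance : M.Normal).conj_mem m hm _, rfl⟩

/-- `B` stabilises `U`. -/
theorem stab (hP : IsPGroup q P) (hexp : ∀ v : V, v ^ p = 1) :
    ∀ (n : ℕ) (A B : Subgroup Γ) (U U' : Subgroup V), Nat.card ↥(A ⊔ B) ≤ n → A ≤ P → B ≤ P →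
      Good φ p A U → Good φ p B U' → ∀ b ∈ B, ∀ u ∈ U, φ b u ∈ U := by
  intro n
  induction n using Nat.strong_induction_on with
  | _ n ih =>
    intro A B U U' hcard hAP hBP hA hB
    by_contra hcon
    push Not at hcon
    obtain ⟨b, hb, u, hu, hbu⟩ := hcon
    set X := A ⊔ B with hX
    have hlt : A < X := lt_of_le_of_ne le_sup_left fun h =>
      hbu (hA.map_mem (h.symm ▸ Subgroup.mem_sup_right hb) hu)
    obtain ⟨M, hMX, hAM, hXM⟩ := exists_normal_proper hP (sup_le hAP hBP) hlt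
    set conjA : Γ → Subgroup Γ := fun c => A.map (MulAut.conj c).toMonoidHom with hconjA
    have hcM : ∀ c ∈ B, conjA c ≤ M := by
      rintro c hc _ ⟨a, ha, rfl⟩
      exact (Subgroup.mem_normalizer_iff.1 (hXM (Subgroup.mem_sup_right hc)) a).1 (hAM ha)
    have hM' : Nat.card ↥M < n :=
      lt_of_lt_of_le (Set.ncard_lt_ncard hMX (Set.toFinite _)) hcard
    set im : Γ → Subgroup V := fun c => U.map (φ c).toMonoidHom with him
    have hrel : ∀ c ∈ B, ∀ d ∈ B, im c ≠ im d →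
        im c ⊓ im d = ⊥ ∧ ∀ x ∈ conjA d, ∀ w ∈ im c, φ x w = w := by
      intro c hc d hd hne
      have hMP : M ≤ P := hMX.le.trans (sup_le hAP hBP)
      exact (hA.conj c).fix_of_stab (hA.conj d) hne
        (ih _ hM' _ _ _ _ (Subgroup.card_le_of_le (sup_le (hcM c hc) (hcM d hd)))
          ((hcM c hc).trans hMP) ((hcM d hd).trans hMP) (hA.conj c) (hA.conj d))
    have hone : im 1 = U := by
      rw [him]
      simp [Subgroup.ext_iff]
    have hle : ∀ c ∈ B, im c ≤ U ⊔ U' := by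
      rintro c hc _ ⟨w, hw, rfl⟩
      have e : φ c w = w * (φ c w / w) := by simp
      show φ c w ∈ U ⊔ U'
      rw [e]
      exact mul_mem (Subgroup.mem_sup_left hw) (Subgroup.mem_sup_right (hB.comm c hc w))
    have hne1 : im b ≠ U := fun h => hbu (h ▸ ⟨u, hu, rfl⟩)
    have hd1 := hrel b hb 1 (one_mem B) (by rwa [hone])
    rw [hone] at hd1
    have hbig : U ⊔ im b = U ⊔ U' := by
      refine Subgroup.eq_of_le_of_card_ge (sup_le le_sup_left (hle b hb)) ?_
      rw [card_sup (X := U) (Y := im b) (by rw [inf_comm]; exact hd1.1)]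
      refine (card_sup_le U U').trans (le_of_eq ?_)
      rw [hA.card, hB.card, (hA.conj b).card]
    have hdis : ∀ c : Γ, c ∈ B → im c ⊓ U' = ⊥ := by
      intro c hc
      have h1 : U ⊔ U' = im c ⊔ U' := by
        refine le_antisymm (sup_le ?_ le_sup_right) (sup_le (hle c hc) le_sup_right)
        intro w hw
        have e : w = φ c w / (φ c w / w) := by simp
        rw [e]
        exact div_mem (Subgroup.mem_sup_left ⟨w, hw, rfl⟩) (Subgroup.mem_sup_right (hB.comm c hc w))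
      by_contra h
      have hsq : Nat.card ↥(U ⊔ U') = p ^ 2 * p ^ 2 := by
        rw [← hbig, card_sup (by rw [inf_comm]; exact hd1.1), hA.card, (hA.conj b).card]
      have h2 : Nat.card ↥(im c ⊓ U' : Subgroup V) > 1 := by
        haveI : Nontrivial ↥(im c ⊓ U' : Subgroup V) := (Subgroup.nontrivial_iff_ne_bot _).2 h
        exact Finite.one_lt_card
      -- count through the multiplication map
      let f : ↥(im c) × ↥U' →* V := MonoidHom.coprod (im c).subtype U'.subtype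
      have hr : f.range = im c ⊔ U' := by
        ext x
        rw [MonoidHom.mem_range, Subgroup.mem_sup]
        exact ⟨fun ⟨⟨y, z⟩, e⟩ => ⟨y, y.2, z, z.2, e⟩, fun ⟨y, hy, z, hz, e⟩ => ⟨(⟨y, hy⟩, ⟨z, hz⟩), e⟩⟩
      have hinj : Function.Injective f := by
        have hcd : Nat.card (↥(im c) × ↥U') = Nat.card ↥f.range := by
          rw [Nat.card_prod, hr, ← h1, hsq, (hA.conj c).card, hB.card]
        have h' := ((Nat.bijective_iff_surjective_and_card f.rangeRestrict).2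
          ⟨f.rangeRestrict_surjective, hcd⟩).1
        exact fun x y e => h' (Subtype.ext e)
      obtain ⟨x, hx, hx1⟩ := (im c ⊓ U').bot_or_exists_ne_one.resolve_left h
      exact hx1 (congrArg (fun z : ↥(im c) × ↥U' => (z.1 : V))
        (hinj (a₁ := (⟨x, hx.1⟩, ⟨x⁻¹, inv_mem hx.2⟩)) (a₂ := 1) (by simp [f])))
    have htwo : ∀ c ∈ B, im c = U ∨ im c = im b := by
      intro c hc
      by_contra h
      push Not at h
      have r1 := (hrel 1 (one_mem B) c hc (by rw [hone]; exact h.1.symm)).2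
      have r2 := (hrel b hb c hc h.2.symm).2
      rw [hone] at r1
      have h3 : (U ⊔ im b) ⊓ im c = ⊥ := by
        rw [Subgroup.eq_bot_iff_forall]
        rintro x ⟨hx, hxc⟩
        refine (hA.conj c).fixed_eq_one hxc fun a ha => ?_
        obtain ⟨y, hy, z, hz, rfl⟩ := Subgroup.mem_sup.1 hx
        rw [map_mul, r1 a ha y hy, r2 a ha z hz]
      have h4 := Subgroup.card_le_of_le (show (U ⊔ im b) ⊔ im c ≤ U ⊔ U' from
        sup_le (sup_le le_sup_left (hle b hb)) (hle c hc))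
      rw [card_sup h3, hbig] at h4
      have h5 : Nat.card ↥(U ⊔ U') * 2 ≤ Nat.card ↥(U ⊔ U') * Nat.card ↥(im c) := by
        refine Nat.mul_le_mul le_rfl ?_
        rw [(hA.conj c).card]
        exact le_trans hp.out.two_le (Nat.le_self_pow two_ne_zero p)
      have h6 : 0 < Nat.card ↥(U ⊔ U') := Nat.card_pos
      omega
    have himc : ∀ g h : Γ, im (g * h) = (im h).map (φ g).toMonoidHom := fun g h => by
      simp only [him, Subgroup.map_map]
      congr 1
      ext v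
      simp [MulAut.mul_apply]
    have hfixes : ∀ c ∈ B, im c = U → φ c = 1 := by
      intro c hc hcU
      have hcb : im (c * b) = im b := by
        refine (htwo _ (mul_mem hc hb)).resolve_left fun h => hne1 ?_
        rw [himc] at h
        exact Subgroup.map_injective (φ c).injective (h.trans hcU.symm)
      have f1 : ∀ w ∈ U, φ c w = w := fun w hw => by
        have : φ c w / w ∈ U ⊓ U' :=
          Subgroup.mem_inf.2 ⟨div_mem (hcU ▸ ⟨w, hw, rfl⟩) hw, hB.comm c hc w⟩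
        have hdU : U ⊓ U' = ⊥ := by simpa [hone] using hdis 1 (one_mem B)
        rw [hdU, Subgroup.mem_bot, div_eq_one] at this
        exact this
      have f2 : ∀ w ∈ im b, φ c w = w := fun w hw => by
        have : φ c w / w ∈ im b ⊓ U' :=
          Subgroup.mem_inf.2 ⟨div_mem (hcb ▸ (himc c b).symm ▸ ⟨w, hw, rfl⟩) hw, hB.comm c hc w⟩
        rw [hdis b hb, Subgroup.mem_bot, div_eq_one] at this
        exact this
      obtain ⟨w, hw, hw1⟩ := hB.exists_ne hp.out.two_le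
      refine hB.fpf c hc w hw hw1 ?_
      obtain ⟨y, hy, z, hz, rfl⟩ := Subgroup.mem_sup.1 (hbig.symm ▸ Subgroup.mem_sup_right hw : w ∈ U ⊔ im b)
      rw [map_mul, f1 y hy, f2 z hz]
    obtain ⟨g, hg, hg2⟩ := hB.sq
    rcases htwo g hg with h | h
    · exact hg2 (by rw [map_pow, hfixes g hg h, one_pow])
    · refine hg2 (hfixes _ (pow_mem hg 2) ?_)
      refine (htwo _ (pow_mem hg 2)).resolve_right fun h2 => hne1 ?_
      rw [sq, himc, h, ← himc, ← h] at h2
      have h3 : (im b).map (φ g).toMonoidHom = (im 1).map (φ g).toMonoidHom := by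
        rw [← himc, ← himc, mul_one]; exact h2
      exact (Subgroup.map_injective (φ g).injective h3).trans hone

variable (hP : IsPGroup q P) (hexp : ∀ v : V, v ^ p = 1)
  {A B : Subgroup Γ} {U U' : Subgroup V}

include hP hexp in
/-- Different `U`: disjoint and fixed by each other. -/
theorem fix_of_ne (hA : Good φ p A U) (hB : Good φ p B U') (hAP : A ≤ P) (hBP : B ≤ P) (hne : U ≠ U') :
    U ⊓ U' = ⊥ ∧ ∀ b ∈ B, ∀ u ∈ U, φ b u = u :=
  hA.fix_of_stab hB hne (stab hP hexp _ A B U U' le_rfl hAP hBP hA hB)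

include hP hexp in
theorem commute_of_ne (hA : Good φ p A U) (hB : Good φ p B U') (hAP : A ≤ P) (hBP : B ≤ P) (hne : U ≠ U')
    {a b : Γ} (ha : a ∈ A) (hb : b ∈ B) : φ a * φ b = φ b * φ a := by
  have h1 := (fix_of_ne hP hexp hA hB hAP hBP hne).2 b hb
  have h2 := (fix_of_ne hP hexp hB hA hBP hAP hne.symm).2 a ha
  refine MulEquiv.ext fun v => ?_
  rw [MulAut.mul_apply, MulAut.mul_apply]
  have ea : φ a v = v * (φ a v / v) := by simp
  have eb : φ b v = v * (φ b v / v) := by simp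
  calc φ a (φ b v) = φ a v * φ a (φ b v / v) := by rw [← map_mul, ← eb]
    _ = v * (φ a v / v) * (φ b v / v) := by rw [h2 _ (hB.comm b hb v), ← ea]
    _ = v * (φ b v / v) * (φ a v / v) := by rw [mul_right_comm]
    _ = φ b v * φ b (φ a v / v) := by rw [h1 _ (hA.comm a ha v), ← eb]
    _ = φ b (φ a v) := by rw [← map_mul, ← ea]

end Cfsg.Agent.LocalEven.SubnBlock
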