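import Cfsg.Agent.Lib.LocalEven.Subnormal.Shape
import Cfsg.Agent.Lib.LocalEven.Subnormal.SmallPairs

/-!
The two levels on which small blocks are compared: `V = Ω₁(Z(R))` and `R / Φ(R) V` for `R = O_p(G)`.
-/

set_option autoImplicit false

open scoped commutatorElement

namespace Cfsg.Agent.LocalEven.SubnBlock

open Cfsg Cfsg.Agent.Fusion Cfsg.Agent.LocalEven.Block

variable (p : ℕ) (G : Type*) [Group G]

/-- `Φ(R) V`. -/
def nz : Subgroup G := (frattini ↥(pCore p G)).map (pCore p G).subtype ⊔ vSub p G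

instance nz_normal : (nz p G).Normal :=
  haveI : (vSub p G).Normal :=
    ⟨fun x hx g => by
      obtain ⟨h1, h2, h3⟩ := omegaOneCenter_props hx
      refine mem_omegaOneCenter ((inferInstance : (pCore p G).Normal).conj_mem x h1 g)
        (Subgroup.mem_centralizer_iff.2 fun y hy => ?_) (by rw [conj_pow, h3, mul_one, mul_inv_cancel])
      have h4 := Subgroup.mem_centralizer_iff.1 h2 (g⁻¹ * y * g)
        (by simpa using (inferInstance : (pCore p G).Normal).conj_mem y hy g⁻¹)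
      calc y * (g * x * g⁻¹) = g * ((g⁻¹ * y * g) * x) * g⁻¹ := by group
        _ = g * (x * (g⁻¹ * y * g)) * g⁻¹ := by rw [h4]
        _ = g * x * g⁻¹ * y := by group⟩
  Subgroup.sup_normal _ _

instance vSub_normal' : (vSub p G).Normal :=
  ⟨fun x hx g => by
    obtain ⟨h1, h2, h3⟩ := omegaOneCenter_props hx
    refine mem_omegaOneCenter ((inferInstance : (pCore p G).Normal).conj_mem x h1 g)
      (Subgroup.mem_centralizer_iff.2 fun y hy => ?_) (by rw [conj_pow, h3, mul_one, mul_inv_cancel])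
    have h4 := Subgroup.mem_centralizer_iff.1 h2 (g⁻¹ * y * g)
      (by simpa using (inferInstance : (pCore p G).Normal).conj_mem y hy g⁻¹)
    calc y * (g * x * g⁻¹) = g * ((g⁻¹ * y * g) * x) * g⁻¹ := by group
      _ = g * (x * (g⁻¹ * y * g)) * g⁻¹ := by rw [h4]
      _ = g * x * g⁻¹ * y := by group⟩

instance vSubCommGroup : CommGroup ↥(vSub p G) :=
  { (inferInstance : Group ↥(vSub p G)) with
    mul_comm := fun a b => Subtype.ext (omega_comm _ a.2 _ b.2) }

/-- `R / Φ(R) V` inside `G / Φ(R) V`. -/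
abbrev top2 : Subgroup (G ⧸ nz p G) := (pCore p G).map (QuotientGroup.mk' (nz p G))

instance top2_normal : (top2 p G).Normal :=
  (inferInstance : (pCore p G).Normal).map _ (QuotientGroup.mk'_surjective _)

variable [Finite G] [hp : Fact p.Prime]

theorem comm_mem_nz {a b : G} (ha : a ∈ pCore p G) (hb : b ∈ pCore p G) : ⁅a, b⁆ ∈ nz p G :=
  Subgroup.mem_sup_left ⟨⁅⟨a, ha⟩, ⟨b, hb⟩⁆,
    Solv.commutatorElement_mem_frattini (Fusion.isPGroup_pCore p G) _ _, rfl⟩

theorem pow_mem_nz {a : G} (ha : a ∈ pCore p G) : a ^ p ∈ nz p G :=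
  Subgroup.mem_sup_left ⟨⟨a, ha⟩ ^ p, Solv.pow_mem_frattini (Fusion.isPGroup_pCore p G) _, rfl⟩

theorem top2_comm : ∀ a b : ↥(top2 p G), a * b = b * a := by
  rintro ⟨_, a, ha, rfl⟩ ⟨_, b, hb, rfl⟩
  refine Subtype.ext (commutatorElement_eq_one_iff_mul_comm.1 ?_)
  rw [← map_commutatorElement, QuotientGroup.mk'_apply, QuotientGroup.eq_one_iff]
  exact comm_mem_nz p G ha hb

instance top2CommGroup : CommGroup ↥(top2 p G) :=
  { (inferInstance : Group ↥(top2 p G)) with mul_comm := top2_comm p G }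

theorem top2_exp : ∀ v : ↥(top2 p G), v ^ p = 1 := by
  rintro ⟨_, a, ha, rfl⟩
  refine Subtype.ext ?_
  show (QuotientGroup.mk' (nz p G)) a ^ p = 1
  rw [← map_pow, QuotientGroup.mk'_apply, QuotientGroup.eq_one_iff]
  exact pow_mem_nz p G ha

omit [Finite G] hp in
theorem vSub_exp : ∀ v : ↥(vSub p G), v ^ p = 1 := fun v =>
  Subtype.ext (by simpa using (omegaOneCenter_props v.2).2.2)

/-- The action on `V`. -/
noncomputable def act1 : G ⧸ pCore p G →* MulAut ↥(vSub p G) :=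
  QuotientGroup.lift (pCore p G) MulAut.conjNormal fun r hr => by
    refine MulEquiv.ext fun v => Subtype.ext ?_
    show r * (v : G) * r⁻¹ = v
    rw [Subgroup.mem_centralizer_iff.1 (omegaOneCenter_props v.2).2.1 r hr, mul_inv_cancel_right]

/-- The action on `R / Φ(R) V`. -/
noncomputable def act2 : G ⧸ pCore p G →* MulAut ↥(top2 p G) :=
  QuotientGroup.lift (pCore p G)
    ((MulAut.conjNormal (H := top2 p G)).comp (QuotientGroup.mk' (nz p G))) fun r hr => by
      refine MulEquiv.ext fun v => Subtype.ext ?_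
      show QuotientGroup.mk' (nz p G) r * (v : G ⧸ nz p G) * (QuotientGroup.mk' (nz p G) r)⁻¹ = v
      have := top2_comm p G ⟨_, r, hr, rfl⟩ v
      rw [show QuotientGroup.mk' (nz p G) r * (v : G ⧸ nz p G) = v * QuotientGroup.mk' (nz p G) r from
        congrArg Subtype.val this, mul_inv_cancel_right]

variable {p G}

/-- `r` as an element of `R / Φ(R) V`. -/
def cls {r : G} (hr : r ∈ pCore p G) : ↥(top2 p G) := ⟨QuotientGroup.mk' (nz p G) r, r, hr, rfl⟩

omit [Finite G] hp in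
theorem cls_eq {r s : G} (hr : r ∈ pCore p G) (hs : s ∈ pCore p G) :
    cls hr = cls hs ↔ r⁻¹ * s ∈ nz p G := by
  refine Subtype.ext_iff.trans ?_
  show ((r : G ⧸ nz p G) = (s : G ⧸ nz p G)) ↔ _
  rw [QuotientGroup.eq]

theorem act2_cls (g : G) {r : G} (hr : r ∈ pCore p G) :
    act2 p G (QuotientGroup.mk g) (cls hr) =
      cls ((inferInstance : (pCore p G).Normal).conj_mem r hr g) :=
  Subtype.ext rfl

theorem act1_coe (g : G) (v : ↥(vSub p G)) :
    (act1 p G (QuotientGroup.mk g) v : G) = g * v * g⁻¹ := rfl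

theorem act1_eq_one {g : G} (h : act1 p G (QuotientGroup.mk g) = 1) {v : G} (hv : v ∈ vSub p G) :
    g * v * g⁻¹ = v := by
  have := congrArg (fun φ : MulAut ↥(vSub p G) => ((φ ⟨v, hv⟩ : ↥(vSub p G)) : G)) h
  simpa [act1_coe] using this

theorem act2_eq_one {g : G} (h : act2 p G (QuotientGroup.mk g) = 1) {r : G} (hr : r ∈ pCore p G) :
    ⁅g, r⁆ ∈ nz p G := by
  have h1 : act2 p G (QuotientGroup.mk g) (cls hr) = cls hr := by rw [h]; rfl
  rw [act2_cls, cls_eq] at h1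
  have := (nz_normal p G).conj_mem _ (inv_mem h1) r
  simpa [commutatorElement_def, mul_assoc] using this

/-- An element of order prime to `p` trivial on `R / Φ(R) V` is trivial on `R / V`. -/
theorem comm_mem_vSub {g : G} (hco : (orderOf g).Coprime p)
    (h : ∀ r ∈ pCore p G, ⁅g, r⁆ ∈ nz p G) : ∀ r ∈ pCore p G, ⁅g, r⁆ ∈ vSub p G := by
  intro r hr
  set π := QuotientGroup.mk' (vSub p G) with hπ
  set P := (pCore p G).map π with hP
  have hPp : IsPGroup p ↥P := (Fusion.isPGroup_pCore p G).map π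
  haveI hPn : P.Normal := (inferInstance : (pCore p G).Normal).map _ (QuotientGroup.mk'_surjective _)
  set f : ↥(pCore p G) →* ↥P := π.subgroupMap (pCore p G) with hf
  have hfr : frattini ↥(pCore p G) ≤ (frattini ↥P).comap f :=
    Solv.frattini_le _ (fun a b => by
        show f ⁅a, b⁆ ∈ frattini ↥P
        rw [map_commutatorElement]; exact Solv.commutatorElement_mem_frattini hPp _ _)
      fun a => by
        show f (a ^ p) ∈ frattini ↥P
        rw [map_pow]; exact Solv.pow_mem_frattini hPp _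
  have hsub : (nz p G).map π ≤ (frattini ↥P).map P.subtype := by
    rw [nz, Subgroup.map_sup]
    refine sup_le ?_ ?_
    · rintro _ ⟨_, ⟨x, hx, rfl⟩, rfl⟩
      exact ⟨f x, hfr hx, rfl⟩
    · rintro _ ⟨x, hx, rfl⟩
      rw [hπ, QuotientGroup.mk'_apply, (QuotientGroup.eq_one_iff x).2 hx]
      exact one_mem _
  have hc := Solv.centralizes_of_frattini P hPp (π g) (by rw [Subgroup.normalizer_eq_top]; trivial)
    (hco.coprime_dvd_left (orderOf_map_dvd π g)) fun x hx => by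
      obtain ⟨y, hy, rfl⟩ := hx
      refine hsub ⟨⁅g, y⁆⁻¹, inv_mem (h y hy), ?_⟩
      rw [map_inv, map_commutatorElement, commutatorElement_inv]
  refine (QuotientGroup.eq_one_iff _).1 ?_
  rw [← QuotientGroup.mk'_apply, map_commutatorElement, commutatorElement_eq_one_iff_mul_comm]
  exact (Subgroup.mem_centralizer_iff.1 hc (π r) ⟨r, hr, rfl⟩).symm

/-- A lift of order prime to `p`. -/
theorem exists_lift {q : ℕ} (hq : q.Coprime p) {x : G ⧸ pCore p G} {k : ℕ} (hx : x ^ q ^ k = 1) :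
    ∃ g : G, QuotientGroup.mk g = x ∧ (orderOf g).Coprime p := by
  obtain ⟨g, rfl⟩ := QuotientGroup.mk_surjective x
  obtain ⟨a, m, hm, hgm⟩ := Nat.exists_eq_pow_mul_and_not_dvd (orderOf_pos g).ne' p hp.out.ne_one
  obtain ⟨j, hj⟩ : ∃ j : ℕ, ((QuotientGroup.mk g : G ⧸ pCore p G) ^ p ^ a) ^ j = QuotientGroup.mk g :=
    exists_pow_eq_self_of_coprime (Nat.Coprime.coprime_dvd_right (orderOf_dvd_of_pow_eq_one hx)
      (Nat.Coprime.pow a k hq.symm))
  refine ⟨g ^ (p ^ a * j), by rw [QuotientGroup.mk_pow, pow_mul]; exact hj, ?_⟩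
  refine Nat.Coprime.coprime_dvd_left (orderOf_dvd_of_pow_eq_one (n := m) ?_) ((hp.out.coprime_iff_not_dvd.2 hm).symm)
  rw [← pow_mul, mul_right_comm, ← hgm, pow_mul, pow_orderOf_eq_one, one_pow]

/-- Both actions detect the `q`-elements. -/
theorem eq_one_of_acts (hG : Subgroup.centralizer (pCore p G : Set G) ≤ pCore p G) {q : ℕ}
    (hq : q.Coprime p) {x : G ⧸ pCore p G} {k : ℕ} (hx : x ^ q ^ k = 1)
    (h1 : act1 p G x = 1) (h2 : act2 p G x = 1) : x = 1 := by
  obtain ⟨g, rfl, hco⟩ := exists_lift hq hx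
  refine (QuotientGroup.eq_one_iff g).2 (mem_pCore_of_stab hG (fun v hv => ?_)
    (comm_mem_vSub hco fun r hr => act2_eq_one h2 hr))
  calc g * v = g * v * g⁻¹ * g := by group
    _ = v * g := by rw [act1_eq_one h1 hv]

/-! ### From sections to the abstract setting -/

variable {X : Type*} [CommGroup X] {φ : G ⧸ pCore p G →* MulAut X} {E U A : Subgroup G}

theorem good_of_quat (hp3 : p = 3) (hexp : ∀ x : X, x ^ p = 1) (hn : E ≤ Subgroup.normalizer (U : Set G))
    (μ : ↥U →* X) (hker : ∀ u : ↥U, μ u = 1 ↔ (u : G) ∈ A)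
    (heq : ∀ (e : ↥E) (u w : ↥U), (w : G) = (e : G) * u * (e : G)⁻¹ → φ (QuotientGroup.mk (e : G)) (μ u) = μ w)
    (hcomm : ∀ e ∈ E, ∀ x : X, φ (QuotientGroup.mk e) x / x ∈ μ.range) (hcard : Nat.card μ.range = p ^ 2)
    (hf : Faith E U A (pCore p G)) (hq : Quat E U A) : Good φ p (bar p E) μ.range := by
  let cj : ↥E → ↥U → ↥U := fun e u =>
    ⟨(e : G) * u * (e : G)⁻¹, (Subgroup.mem_normalizer_iff.1 (hn e.2) _).1 u.2⟩
  have heq' : ∀ (e : ↥E) (u : ↥U), φ (QuotientGroup.mk (e : G)) (μ u) = μ (cj e u) := fun e u => heq e u _ rfl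
  have hid : ∀ (e : ↥E) (u : ↥U), ((u : G)⁻¹ * ((e : G) * u * (e : G)⁻¹) ∈ A) ↔
      φ (QuotientGroup.mk (e : G)) (μ u) = μ u := fun e u => by
    rw [heq', show (u : G)⁻¹ * ((e : G) * u * (e : G)⁻¹) = ((u⁻¹ * cj e u : ↥U) : G) from rfl, ← hker,
      map_mul, map_inv, inv_mul_eq_one, eq_comm]
  have hinv : ∀ (e : ↥E) (u : ↥U), ((u : G) * ((e : G) * u * (e : G)⁻¹) ∈ A) ↔
      μ u * φ (QuotientGroup.mk (e : G)) (μ u) = 1 := fun e u => by
    rw [heq', show (u : G) * ((e : G) * u * (e : G)⁻¹) = ((u * cj e u : ↥U) : G) from rfl, ← hker, map_mul]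
  have htriv : ∀ e : ↥E, (∀ u : ↥U, (u : G)⁻¹ * ((e : G) * u * (e : G)⁻¹) ∈ A) →
      (QuotientGroup.mk (e : G) : G ⧸ pCore p G) = 1 := fun e h =>
    (QuotientGroup.eq_one_iff _).2 (hf e e.2 fun u hu => h ⟨u, hu⟩)
  have hsq1 : ∀ x : X, x * x = 1 → x = 1 := fun x h => by
    have h3 := hexp x
    rw [hp3, pow_succ, pow_two, h, one_mul] at h3
    exact h3
  refine ⟨?_, hcard, ?_, ?_, ?_, ?_⟩
  · rintro _ ⟨e, he, rfl⟩ x
    exact hcomm e he x
  · rintro _ ⟨e, he, rfl⟩ _ ⟨u, rfl⟩ hne hfix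
    rcases hq.1 e he with h | h | h
    · rw [QuotientGroup.mk'_apply, htriv ⟨e, he⟩ fun u => h u u.2, map_one]
    · have h1 := (hinv ⟨e, he⟩ u).1 (h u u.2)
      rw [QuotientGroup.mk'_apply] at hfix
      rw [hfix] at h1
      exact absurd (hsq1 _ h1) hne
    · have h1 := (hinv (⟨e, he⟩ * ⟨e, he⟩) u).1 (h u u.2)
      rw [QuotientGroup.mk'_apply] at hfix
      rw [Subgroup.coe_mul, QuotientGroup.mk_mul, map_mul, MulAut.mul_apply, hfix, hfix] at h1
      exact absurd (hsq1 _ h1) hne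
  · obtain ⟨g, hg, u, hu, hne⟩ := hq.2.2
    refine ⟨_, ⟨g, hg, rfl⟩, fun h => hne ((hid (⟨g, hg⟩ * ⟨g, hg⟩) ⟨u, hu⟩).2 ?_)⟩
    rw [QuotientGroup.mk'_apply, pow_two] at h
    rw [Subgroup.coe_mul, QuotientGroup.mk_mul, h]
    rfl
  · rintro _ ⟨u, rfl⟩ hu _ ⟨u', rfl⟩ hu'
    obtain ⟨e, he, h⟩ := hq.2.1 u u.2 (fun h => hu ((hker u).2 h)) u' u'.2 (fun h => hu' ((hker u').2 h))
    refine ⟨_, ⟨e, he, rfl⟩, ?_⟩
    rw [QuotientGroup.mk'_apply, heq' ⟨e, he⟩ u]
    rw [show (u' : G)⁻¹ * (e * u * e⁻¹) = ((u'⁻¹ * cj ⟨e, he⟩ u : ↥U) : G) from rfl, ← hker, map_mul,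
      map_inv, inv_mul_eq_one] at h
    exact h.symm
  · rintro _ ⟨e, he, rfl⟩
    rcases hq.1 e he with h | h | h
    · refine Or.inl ⟨1, ?_⟩
      rintro _ ⟨u, rfl⟩
      rw [QuotientGroup.mk'_apply, pow_one]
      exact (hid ⟨e, he⟩ u).1 (h u u.2)
    · refine Or.inl ⟨2, ?_⟩
      rintro _ ⟨u, rfl⟩
      have h1 := (hinv ⟨e, he⟩ u).1 (h u u.2)
      rw [QuotientGroup.mk'_apply]
      have h3 := hexp (μ u)
      rw [hp3, pow_succ'] at h3
      exact mul_left_cancel (h1.trans h3.symm)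
    · refine Or.inr ?_
      rintro _ ⟨u, rfl⟩
      have h1 := (hinv (⟨e, he⟩ * ⟨e, he⟩) u).1 (h u u.2)
      rw [Subgroup.coe_mul, QuotientGroup.mk_mul, map_mul, MulAut.mul_apply] at h1
      rw [QuotientGroup.mk'_apply, show 3 - p = 0 by omega, pow_zero, mul_one, mul_comm]
      exact h1

theorem good_of_cube (hp2 : p = 2) (hexp : ∀ x : X, x ^ p = 1) (hn : E ≤ Subgroup.normalizer (U : Set G))
    (μ : ↥U →* X) (hker : ∀ u : ↥U, μ u = 1 ↔ (u : G) ∈ A)
    (heq : ∀ (e : ↥E) (u w : ↥U), (w : G) = (e : G) * u * (e : G)⁻¹ → φ (QuotientGroup.mk (e : G)) (μ u) = μ w)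
    (hcomm : ∀ e ∈ E, ∀ x : X, φ (QuotientGroup.mk e) x / x ∈ μ.range) (hcard : Nat.card μ.range = p ^ 2)
    (hf : Faith E U A (pCore p G)) (hq : Cube E U A) : Good φ p (bar p E) μ.range := by
  classical
  haveI : Finite ↥μ.range := Finite.of_surjective _ μ.rangeRestrict_surjective
  let cj : ↥E → ↥U → ↥U := fun e u =>
    ⟨(e : G) * u * (e : G)⁻¹, (Subgroup.mem_normalizer_iff.1 (hn e.2) _).1 u.2⟩
  have heq' : ∀ (e : ↥E) (u : ↥U), φ (QuotientGroup.mk (e : G)) (μ u) = μ (cj e u) := fun e u => heq e u _ rfl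
  have hid : ∀ (e : ↥E) (u : ↥U), ((u : G)⁻¹ * ((e : G) * u * (e : G)⁻¹) ∈ A) ↔
      φ (QuotientGroup.mk (e : G)) (μ u) = μ u := fun e u => by
    rw [heq', show (u : G)⁻¹ * ((e : G) * u * (e : G)⁻¹) = ((u⁻¹ * cj e u : ↥U) : G) from rfl, ← hker,
      map_mul, map_inv, inv_mul_eq_one, eq_comm]
  have htriv : ∀ e : ↥E, (∀ u : ↥U, (u : G)⁻¹ * ((e : G) * u * (e : G)⁻¹) ∈ A) →
      (QuotientGroup.mk (e : G) : G ⧸ pCore p G) = 1 := fun e h =>
    (QuotientGroup.eq_one_iff _).2 (hf e e.2 fun u hu => h ⟨u, hu⟩)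
  have hmap : ∀ a ∈ bar p E, ∀ y ∈ μ.range, φ a y ∈ μ.range := by
    rintro _ ⟨e, he, rfl⟩ _ ⟨u, rfl⟩
    exact ⟨cj ⟨e, he⟩ u, (heq' ⟨e, he⟩ u).symm⟩
  have hcube : ∀ a ∈ bar p E, ∀ y ∈ μ.range, φ a (φ a (φ a y)) = y := by
    rintro _ ⟨e, he, rfl⟩ _ ⟨u, rfl⟩
    have h1 := (hid (⟨e, he⟩ * ⟨e, he⟩ * ⟨e, he⟩) u).1 (hq.1 e he u u.2)
    simpa [MulAut.mul_apply, mul_assoc] using h1
  -- a fixed point forces trivial action
  have hfix : ∀ a ∈ bar p E, ∀ y ∈ μ.range, y ≠ 1 → φ a y = y → ∀ z ∈ μ.range, φ a z = z := by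
    intro a ha y hy hy1 he z hz
    by_contra hne
    have hz1 : z ≠ 1 := fun h => hne (by rw [h, map_one])
    have hzy : z ≠ y := fun h => hne (h ▸ he)
    set s : Finset X := {1, y, z, φ a z, φ a (φ a z)} with hs
    have hmul : ∀ w : X, w ≠ 1 → w ≠ y → φ a w ≠ 1 ∧ φ a w ≠ y := fun w h1 h2 =>
      ⟨fun h => h1 ((φ a).injective (by rw [h, map_one])), fun h => h2 ((φ a).injective (by rw [h, he]))⟩
    obtain ⟨ha1, ha2⟩ := hmul z hz1 hzy
    obtain ⟨hb1, hb2⟩ := hmul _ ha1 ha2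
    have hc := hcube a ha z hz
    have hd : φ a (φ a z) ≠ z := fun h => hne (by rw [h] at hc; exact hc)
    have hd' : φ a (φ a z) ≠ φ a z := fun h => hne ((φ a).injective h)
    have hcs : s.card = 5 := by
      rw [hs, Finset.card_insert_of_notMem, Finset.card_insert_of_notMem, Finset.card_insert_of_notMem,
        Finset.card_insert_of_notMem, Finset.card_singleton] <;>
        simp [hy1.symm, hz1.symm, ha1.symm, hb1.symm, hzy.symm, ha2.symm, hb2.symm, Ne.symm hne, hd.symm,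
          hd'.symm]
    have hle : (s : Set X) ⊆ (μ.range : Set X) := by
      intro w hw
      simp only [hs, Finset.coe_insert, Finset.coe_singleton, Set.mem_insert_iff, Set.mem_singleton_iff] at hw
      rcases hw with rfl | rfl | rfl | rfl | rfl
      exacts [one_mem _, hy, hz, hmap a ha z hz, hmap a ha _ (hmap a ha z hz)]
    haveI : Finite ↥(μ.range : Set X) := ‹Finite ↥μ.range›
    have hle' := Set.ncard_le_ncard hle (Set.toFinite _)
    rw [Set.ncard_coe_finset, hcs] at hle'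
    have : (μ.range : Set X).ncard = 4 := by
      rw [← Nat.card_coe_set_eq]; exact hcard.trans (by rw [hp2]; rfl)
    omega
  have htriv' : ∀ a ∈ bar p E, (∀ z ∈ μ.range, φ a z = z) → φ a = 1 := by
    rintro _ ⟨e, he, rfl⟩ h
    rw [QuotientGroup.mk'_apply, htriv ⟨e, he⟩ fun u => (hid ⟨e, he⟩ u).2 (h _ ⟨u, rfl⟩), map_one]
  refine ⟨?_, hcard, fun a ha y hy hy1 he => htriv' a ha (hfix a ha y hy hy1 he), ?_, ?_, ?_⟩
  · rintro _ ⟨e, he, rfl⟩ x
    exact hcomm e he x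
  · obtain ⟨g, hg, u, hu, hne⟩ := hq.2
    refine ⟨_, ⟨g, hg, rfl⟩, fun h => hne ((hid ⟨g, hg⟩ ⟨u, hu⟩).2 ?_)⟩
    have h1 := hcube _ ⟨g, hg, rfl⟩ _ ⟨⟨u, hu⟩, rfl⟩
    rw [pow_two, map_mul] at h
    have h2 := congrArg (fun f : MulAut X => f (φ (QuotientGroup.mk' (pCore p G) g) (μ ⟨u, hu⟩))) h
    simp only [MulAut.mul_apply, MulAut.one_apply, h1] at h2
    exact h2.symm
  · intro y hy hy1 y' hy' hy'1
    obtain ⟨g, hg, u, hu, hne⟩ := hq.2
    set a := QuotientGroup.mk' (pCore p G) g with ha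
    have haA : a ∈ bar p E := ⟨g, hg, rfl⟩
    have hmv : φ a y ≠ y := fun he => hne ((hid ⟨g, hg⟩ ⟨u, hu⟩).2 (hfix a haA y hy hy1 he _ ⟨⟨u, hu⟩, rfl⟩))
    have hc := hcube a haA y hy
    have hd : φ a (φ a y) ≠ y := fun h => hmv (by rw [h] at hc; exact hc)
    have hd' : φ a (φ a y) ≠ φ a y := fun h => hmv ((φ a).injective h)
    by_contra hno
    push Not at hno
    have h0 : y' ≠ y := fun h => hno 1 (one_mem _) (by rw [h, map_one, MulAut.one_apply])
    have h1 : y' ≠ φ a y := fun h => hno a haA h.symm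
    have h2 : y' ≠ φ a (φ a y) := fun h => hno (a * a) (mul_mem haA haA) (by rw [map_mul, MulAut.mul_apply, h])
    have e1 : φ a y ≠ 1 := fun h => hy1 ((φ a).injective (by rw [h, map_one]))
    have e2 : φ a (φ a y) ≠ 1 := fun h => e1 ((φ a).injective (by rw [h, map_one]))
    set s : Finset X := {1, y', y, φ a y, φ a (φ a y)} with hs
    have hcs : s.card = 5 := by
      rw [hs, Finset.card_insert_of_notMem, Finset.card_insert_of_notMem, Finset.card_insert_of_notMem,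
        Finset.card_insert_of_notMem, Finset.card_singleton] <;>
        simp [hy1.symm, hy'1.symm, h0, h1, h2, e1.symm, e2.symm, hmv.symm, hd.symm, hd'.symm]
    have hle : (s : Set X) ⊆ (μ.range : Set X) := by
      intro w hw
      simp only [hs, Finset.coe_insert, Finset.coe_singleton, Set.mem_insert_iff, Set.mem_singleton_iff] at hw
      rcases hw with rfl | rfl | rfl | rfl | rfl
      exacts [one_mem _, hy', hy, hmap a haA y hy, hmap a haA _ (hmap a haA y hy)]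
    haveI : Finite ↥(μ.range : Set X) := ‹Finite ↥μ.range›
    have hle' := Set.ncard_le_ncard hle (Set.toFinite _)
    rw [Set.ncard_coe_finset, hcs] at hle'
    have : (μ.range : Set X).ncard = 4 := by
      rw [← Nat.card_coe_set_eq]; exact hcard.trans (by rw [hp2]; rfl)
    omega
  · intro a ha
    by_cases hall : ∀ z ∈ μ.range, φ a z = z
    · exact Or.inl ⟨1, fun z hz => by rw [pow_one]; exact hall z hz⟩
    refine Or.inr fun z hz => ?_
    rw [show 3 - p = 1 by omega, pow_one]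
    by_contra hne
    refine hall (hfix a ha _ (mul_mem (mul_mem (hmap a ha _ (hmap a ha z hz)) (hmap a ha z hz)) hz) hne ?_)
    rw [map_mul, map_mul, hcube a ha z hz]
    ac_rfl

end Cfsg.Agent.LocalEven.SubnBlock
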