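import Mathlib.RingTheory.LittleWedderburn
import Mathlib.GroupTheory.QuotientGroup.Basic
import Mathlib.Algebra.Ring.Subring.Basic
import Mathlib.GroupTheory.Commutator.Basic

/-!
Schur's lemma with Wedderburn's little theorem for sections: what commutes with an irreducible action on a
finite abelian section `U / A` acts through a commutative group.
-/

set_option autoImplicit false

open scoped commutatorElement

namespace Cfsg.Agent.LocalEven.SubnBlock

variable {G : Type*} [Group G] [Finite G]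

/-- Two elements commuting, modulo `A`, with an irreducible action on the abelian section `U / A`
commute with each other there. -/
theorem schur {A U E : Subgroup G} (hAU : A ≤ U) (hab : ⁅U, U⁆ ≤ A)
    (hEU : E ≤ Subgroup.normalizer (U : Set G)) (hEA : E ≤ Subgroup.normalizer (A : Set G))
    (hirr : ∀ S : Subgroup G, A ≤ S → S ≤ U → E ≤ Subgroup.normalizer (S : Set G) → S = A ∨ S = U)
    {f₁ f₂ : G} (hU₁ : f₁ ∈ Subgroup.normalizer (U : Set G)) (hA₁ : f₁ ∈ Subgroup.normalizer (A : Set G))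
    (hU₂ : f₂ ∈ Subgroup.normalizer (U : Set G)) (hA₂ : f₂ ∈ Subgroup.normalizer (A : Set G))
    (hc₁ : ∀ e ∈ E, ∀ u ∈ U, ((f₁ * e) * u * (f₁ * e)⁻¹)⁻¹ * ((e * f₁) * u * (e * f₁)⁻¹) ∈ A)
    (hc₂ : ∀ e ∈ E, ∀ u ∈ U, ((f₂ * e) * u * (f₂ * e)⁻¹)⁻¹ * ((e * f₂) * u * (e * f₂)⁻¹) ∈ A) :
    ∀ u ∈ U, ((f₁ * f₂) * u * (f₁ * f₂)⁻¹)⁻¹ * ((f₂ * f₁) * u * (f₂ * f₁)⁻¹) ∈ A := by
  classical
  set A' : Subgroup ↥U := A.subgroupOf U with hA'
  haveI hAn : A'.Normal := ⟨fun a ha g => by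
    have h1 : ⁅(g : G), (a : G)⁆ ∈ A := hab (Subgroup.commutator_mem_commutator g.2 a.2)
    have := mul_mem h1 ha
    simpa [A', Subgroup.mem_subgroupOf, commutatorElement_def, mul_assoc] using this⟩
  letI : CommGroup (↥U ⧸ A') :=
    { (inferInstance : Group (↥U ⧸ A')) with
      mul_comm := fun x y => by
        obtain ⟨a, rfl⟩ := QuotientGroup.mk_surjective x
        obtain ⟨b, rfl⟩ := QuotientGroup.mk_surjective y
        rw [← QuotientGroup.mk_mul, ← QuotientGroup.mk_mul, QuotientGroup.eq]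
        have h1 : ⁅(b : G)⁻¹, (a : G)⁻¹⁆ ∈ A :=
          hab (Subgroup.commutator_mem_commutator (inv_mem b.2) (inv_mem a.2))
        simpa [A', Subgroup.mem_subgroupOf, commutatorElement_def, mul_assoc] using h1 }
  set N : Subgroup G := Subgroup.normalizer (U : Set G) ⊓ Subgroup.normalizer (A : Set G) with hN
  -- conjugation on the section
  let c : ↥N → (↥U →* ↥U) := fun g =>
    { toFun := fun u => ⟨(g : G) * u * (g : G)⁻¹, (Subgroup.mem_normalizer_iff.1 g.2.1 _).1 u.2⟩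
      map_one' := Subtype.ext (by simp)
      map_mul' := fun a b => Subtype.ext (by simp [mul_assoc]) }
  let σ : ↥N → AddMonoid.End (Additive (↥U ⧸ A')) := fun g =>
    MonoidHom.toAdditive (QuotientGroup.map A' A' (c g) fun a ha =>
      (Subgroup.mem_normalizer_iff.1 g.2.2 _).1 ha)
  have hσ : ∀ (g : ↥N) (u : ↥U), σ g (Additive.ofMul (u : ↥U ⧸ A')) =
      Additive.ofMul ((c g u : ↥U) : ↥U ⧸ A') := fun _ _ => rfl
  let D : Subring (AddMonoid.End (Additive (↥U ⧸ A'))) :=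
    Subring.centralizer {d | ∃ g : ↥N, (g : G) ∈ E ∧ d = σ g}
  have hinj : ∀ d ∈ D, d ≠ 0 → Function.Injective d := by
    intro d hd hd0
    let S : Subgroup G :=
      { carrier := {x | ∃ h : x ∈ U, d (Additive.ofMul ((⟨x, h⟩ : ↥U) : ↥U ⧸ A')) = 0}
        one_mem' := ⟨one_mem U, map_zero d⟩
        mul_mem' := by
          rintro x y ⟨hx, hx'⟩ ⟨hy, hy'⟩
          refine ⟨mul_mem hx hy, ?_⟩
          rw [show (⟨x * y, mul_mem hx hy⟩ : ↥U) = ⟨x, hx⟩ * ⟨y, hy⟩ from rfl, QuotientGroup.mk_mul,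
            ofMul_mul, map_add, hx', hy', add_zero]
        inv_mem' := by
          rintro x ⟨hx, hx'⟩
          refine ⟨inv_mem hx, ?_⟩
          rw [show (⟨x⁻¹, inv_mem hx⟩ : ↥U) = (⟨x, hx⟩ : ↥U)⁻¹ from rfl, QuotientGroup.mk_inv,
            ofMul_inv, map_neg, hx', neg_zero] }
    rcases hirr S (fun a ha => ⟨hAU ha, by
        rw [(QuotientGroup.eq_one_iff _).2 (show (⟨a, hAU ha⟩ : ↥U) ∈ A' from ha)]
        exact map_zero d⟩)
      (fun x ⟨hx, _⟩ => hx)
      (Subgroup.le_normalizer_iff.2 fun e he x ⟨hx, hx'⟩ => by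
        set g : ↥N := ⟨e, hEU he, hEA he⟩ with hg
        refine ⟨(Subgroup.mem_normalizer_iff.1 (hEU he) _).1 hx, ?_⟩
        have h1 : σ g * d = d * σ g := Subring.mem_centralizer_iff.1 hd (σ g) ⟨g, he, rfl⟩
        have h2 := DFunLike.congr_fun h1 (Additive.ofMul ((⟨x, hx⟩ : ↥U) : ↥U ⧸ A'))
        simp only [AddMonoid.End.coe_mul, Function.comp_apply, hx', map_zero, hσ] at h2
        exact h2.symm) with hS | hS
    · refine (injective_iff_map_eq_zero d).2 fun x hx => ?_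
      obtain ⟨u, hu⟩ := QuotientGroup.mk_surjective (Additive.toMul x)
      have hxu : x = Additive.ofMul ((u : ↥U) : ↥U ⧸ A') := by rw [hu]; rfl
      have : (u : G) ∈ A := hS ▸ (show (u : G) ∈ S from ⟨u.2, by rw [← hxu]; exact hx⟩)
      rw [hxu, (QuotientGroup.eq_one_iff u).2 this]
      rfl
    · refine absurd (DFunLike.ext _ _ fun x => ?_) hd0
      obtain ⟨u, hu⟩ := QuotientGroup.mk_surjective (Additive.toMul x)
      obtain ⟨_, h⟩ := (hS.symm ▸ u.2 : (u : G) ∈ S)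
      rw [show x = Additive.ofMul ((u : ↥U) : ↥U ⧸ A') by rw [hu]; rfl]
      exact h
  by_cases hUA : U ≤ A
  · intro u hu
    have hn : f₁ * f₂ ∈ Subgroup.normalizer (U : Set G) := mul_mem hU₁ hU₂
    have hn' : f₂ * f₁ ∈ Subgroup.normalizer (U : Set G) := mul_mem hU₂ hU₁
    exact hUA (mul_mem (inv_mem ((Subgroup.mem_normalizer_iff.1 hn _).1 hu))
      ((Subgroup.mem_normalizer_iff.1 hn' _).1 hu))
  haveI : Nontrivial (Additive (↥U ⧸ A')) := by
    obtain ⟨u, hu, huA⟩ := SetLike.not_le_iff_exists.1 hUA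
    exact ⟨0, Additive.ofMul ((⟨u, hu⟩ : ↥U) : ↥U ⧸ A'), fun h =>
      huA ((QuotientGroup.eq_one_iff (⟨u, hu⟩ : ↥U)).1 (Additive.ofMul.injective h.symm))⟩
  haveI : NoZeroDivisors D := ⟨fun {a b} h => by
    by_cases ha : a = 0
    · exact Or.inl ha
    · refine Or.inr (Subtype.ext (DFunLike.ext _ _ fun x => hinj a.1 a.2 (fun h' => ha (Subtype.ext h')) ?_))
      rw [show ((0 : D) : AddMonoid.End (Additive (↥U ⧸ A'))) x = 0 from rfl, map_zero]
      exact DFunLike.congr_fun (congrArg Subtype.val h) x⟩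
  haveI : Nontrivial D := ⟨0, 1, fun h => by
    obtain ⟨x, hx⟩ := exists_ne (0 : Additive (↥U ⧸ A'))
    exact hx (DFunLike.congr_fun (congrArg Subtype.val h) x).symm⟩
  haveI : IsDomain D := NoZeroDivisors.to_isDomain _
  haveI : Finite D := Finite.of_injective (fun d : D => (⇑d.1 : Additive (↥U ⧸ A') → _))
    fun a b h => Subtype.ext (DFunLike.coe_injective h)
  have hfield := Finite.isDomain_to_isField D
  intro u hu
  set g₁ : ↥N := ⟨f₁, hU₁, hA₁⟩
  set g₂ : ↥N := ⟨f₂, hU₂, hA₂⟩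
  have hmem : ∀ g : ↥N, (∀ e ∈ E, ∀ u ∈ U,
      (((g : G) * e) * u * ((g : G) * e)⁻¹)⁻¹ * ((e * g) * u * (e * g)⁻¹) ∈ A) → σ g ∈ D := by
    intro g hg
    refine Subring.mem_centralizer_iff.2 ?_
    rintro _ ⟨e, he, rfl⟩
    refine DFunLike.ext _ _ fun x => ?_
    obtain ⟨v, hv⟩ := QuotientGroup.mk_surjective (Additive.toMul x)
    rw [show x = Additive.ofMul ((v : ↥U) : ↥U ⧸ A') by rw [hv]; rfl]
    simp only [AddMonoid.End.coe_mul, Function.comp_apply, hσ]
    refine congrArg Additive.ofMul (Eq.symm (QuotientGroup.eq.2 ?_))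
    have := hg e he v v.2
    simpa [A', Subgroup.mem_subgroupOf, c, mul_assoc] using this
  have h := congrArg Subtype.val (hfield.mul_comm ⟨σ g₁, hmem g₁ hc₁⟩ ⟨σ g₂, hmem g₂ hc₂⟩)
  have h2 := DFunLike.congr_fun h (Additive.ofMul ((⟨u, hu⟩ : ↥U) : ↥U ⧸ A'))
  simp only [Subring.coe_mul, AddMonoid.End.coe_mul, Function.comp_apply, hσ] at h2
  have h3 := QuotientGroup.eq.1 (Additive.ofMul.injective h2)
  simpa [A', Subgroup.mem_subgroupOf, c, g₁, g₂, mul_assoc] using h3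

end Cfsg.Agent.LocalEven.SubnBlock
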