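import Cfsg.Agent.Lib.LocalEven.Subnormal.Twist
import Cfsg.Agent.Lib.LocalEven.Subnormal.Schur
import Cfsg.Agent.Lib.Solv.Component

/-!
Two subnormal blocks of a group of characteristic `p` are equal or commute.
-/

set_option autoImplicit false

open scoped commutatorElement

namespace Cfsg.Agent.LocalEven.SubnBlock

open Cfsg Cfsg.Agent.Fusion Cfsg.Agent.LocalEven.Block

variable {G : Type*} [Group G] [Finite G] {p : ℕ} [hp : Fact p.Prime] {E F : Subgroup G}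

theorem eq_of_bar_eq (hE : Shape p E) (hF : Shape p F) (h : bar p E = bar p F) : E = F := by
  have h1 : E ⊔ pCore p G = F ⊔ pCore p G := by
    rw [sup_comm, ← QuotientGroup.comap_map_mk' (pCore p G) E, sup_comm, ←
      QuotientGroup.comap_map_mk' (pCore p G) F]
    exact congrArg _ h
  rw [← hE.sup, h1, hF.sup]

omit [Finite G] hp in
theorem bar_comm {e f : G} (h : ⁅e, f⁆ ∈ pCore p G) :
    (QuotientGroup.mk e : G ⧸ pCore p G) * QuotientGroup.mk f = QuotientGroup.mk f * QuotientGroup.mk e :=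
  commutatorElement_eq_one_iff_mul_comm.1
    ((map_commutatorElement (QuotientGroup.mk' (pCore p G)) e f).symm.trans ((QuotientGroup.eq_one_iff _).2 h))

omit [Finite G] hp in
theorem comm_symm {E F R : Subgroup G} (h : ∀ e ∈ E, ∀ f ∈ F, ⁅e, f⁆ ∈ R) :
    ∀ f ∈ F, ∀ e ∈ E, ⁅f, e⁆ ∈ R := fun f hf e he =>
  commutatorElement_inv e f ▸ inv_mem (h e he f hf)

theorem le_normalizer_of_comm (hE : Shape p E) (h : ∀ e ∈ E, ∀ f ∈ F, ⁅e, f⁆ ∈ pCore p G) :
    F ≤ Subgroup.normalizer (E : Set G) := fun f hf => hE.normalize_of_commute (by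
  rintro _ ⟨e, he, rfl⟩
  exact (bar_comm (h e he f hf)).symm)

omit [Finite G] hp in
theorem normalizer_omega {H X : Subgroup G} (h : H ≤ Subgroup.normalizer (X : Set G)) :
    H ≤ Subgroup.normalizer (omegaOneCenter p X : Set G) := le_normalizer_of_conj fun c hc w hw => by
  obtain ⟨h1, h2, h3⟩ := omegaOneCenter_props hw
  refine mem_omegaOneCenter ((Subgroup.mem_normalizer_iff.1 (h hc) _).1 h1)
    (Subgroup.mem_centralizer_iff.2 fun x hx => ?_) (by rw [conj_pow, h3, mul_one, mul_inv_cancel])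
  have h4 := Subgroup.mem_centralizer_iff.1 h2 (c⁻¹ * x * c)
    ((Subgroup.mem_normalizer_iff''.1 (h hc) x).1 hx)
  calc x * (c * w * c⁻¹) = c * ((c⁻¹ * x * c) * w) * c⁻¹ := by group
    _ = c * (w * (c⁻¹ * x * c)) * c⁻¹ := by rw [h4]
    _ = c * w * c⁻¹ * x := by group

omit [Finite G] hp in
theorem normalizer_centralizer {H X : Subgroup G} (h : H ≤ Subgroup.normalizer (X : Set G)) :
    H ≤ Subgroup.normalizer (Subgroup.centralizer (X : Set G) : Set G) :=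
  le_normalizer_of_conj fun c hc w hw => Subgroup.mem_centralizer_iff.2 fun x hx => by
    have h4 := Subgroup.mem_centralizer_iff.1 hw (c⁻¹ * x * c)
      ((Subgroup.mem_normalizer_iff''.1 (h hc) x).1 hx)
    calc x * (c * w * c⁻¹) = c * ((c⁻¹ * x * c) * w) * c⁻¹ := by group
      _ = c * (w * (c⁻¹ * x * c)) * c⁻¹ := by rw [h4]
      _ = c * w * c⁻¹ * x := by group

omit [Finite G] hp in
theorem normalizer_mov {H : Subgroup G} (h : H ≤ Subgroup.normalizer (E : Set G)) :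
    H ≤ Subgroup.normalizer (mov p E : Set G) := by
  haveI := vSub_normal (p := p) (G := G)
  refine le_normalizer_of_conj fun c hc w hw => ?_
  refine (Subgroup.commutator_le.2 fun a ha b hb => ?_ :
    mov p E ≤ (mov p E).comap (MulAut.conj c).toMonoidHom) hw
  rw [Subgroup.mem_comap, map_commutatorElement]
  exact Subgroup.commutator_mem_commutator ((inferInstance : (vSub p G).Normal).conj_mem a ha c)
    ((Subgroup.mem_normalizer_iff.1 (h hc) _).1 hb)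

theorem normalizer_Q (hE : Shape p E) {H : Subgroup G} (h : H ≤ Subgroup.normalizer (E : Set G)) :
    H ≤ Subgroup.normalizer (pCoreOf p E : Set G) := by
  rw [hE.inter]
  exact le_normalizer_inf h fun g _ => mem_normalizer_pCore g

/-! ### The case `[E, F] ≤ O_p(G)` -/

theorem centralizes_mov (hE : Shape p E) (hF : Shape p F) (h : ∀ e ∈ E, ∀ f ∈ F, ⁅e, f⁆ ∈ pCore p G)
    (hne : mov p E ≠ mov p F) : mov p E ≤ Subgroup.centralizer (F : Set G) := by
  have hFE := le_normalizer_of_comm hE h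
  have hEF := le_normalizer_of_comm hF (comm_symm h)
  set X := mov p E ⊓ mov p F with hX
  have hEX : E ≤ Subgroup.normalizer (X : Set G) :=
    le_normalizer_inf (mov_normalizer E) (normalizer_mov hEF)
  have hFX : F ≤ Subgroup.normalizer (X : Set G) :=
    le_normalizer_inf (normalizer_mov hFE) (mov_normalizer F)
  rcases hE.irr X inf_le_left hEX with hc | he
  · have h1 : ⁅mov p E, F⁆ ≤ X :=
      le_inf (Subgroup.le_normalizer_iff_commutator_le_left.1 (normalizer_mov hFE))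
        (Subgroup.commutator_mono (mov_le E) le_rfl)
    have h2 : ⁅⁅mov p E, F⁆, E⁆ = ⊥ :=
      Subgroup.commutator_eq_bot_iff_le_centralizer.2 (h1.trans hc)
    have h3 : ⁅⁅F, E⁆, mov p E⁆ = ⊥ :=
      Subgroup.commutator_eq_bot_iff_le_centralizer.2 (Subgroup.commutator_le.2 fun f hf e he =>
        Subgroup.mem_centralizer_iff.2 fun m hm =>
          (vSub_fixed (comm_symm h f hf e he) (mov_le E hm)).symm)
    have h4 := Subgroup.commutator_commutator_eq_bot_of_rotate h2 h3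
    rw [Subgroup.commutator_comm E, hE.movE] at h4
    exact Subgroup.commutator_eq_bot_iff_le_centralizer.1 h4
  · rcases hF.irr X inf_le_right hFX with hc | hf
    · exact he.ge.trans hc
    · exact absurd (he.symm.trans hf) hne

theorem exc_case (hE : Shape p E) (hx : Exc p E) (hF : Shape p F)
    (hFE : F ≤ Subgroup.normalizer (E : Set G)) (hM : mov p E ≤ Subgroup.centralizer (F : Set G))
    (hEF : ⁅E, F⁆ ≤ pCoreOf p E ⊓ pCoreOf p F)
    (hP : pCoreOf p E ⊓ pCoreOf p F ≤ omegaOneCenter p (pCoreOf p E)) : ⁅E, F⁆ = ⊥ := by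
  set W := omegaOneCenter p (pCoreOf p E) with hW
  have hfa : ∀ f ∈ F, ∀ a ∈ pCoreOf p E, ∃ w ∈ W, f * a * f⁻¹ = a * w := fun f hf a ha =>
    ⟨⁅a⁻¹, f⁆, hP (hEF (Subgroup.commutator_mem_commutator (inv_mem (Block.pCoreOf_le E ha)) hf)),
      by simp [commutatorElement_def, mul_assoc]⟩
  have hZ : ⁅pCoreOf p E, pCoreOf p E⁆ ≤ Subgroup.centralizer (F : Set G) :=
    Subgroup.commutator_le.2 fun a ha b hb => Subgroup.mem_centralizer_iff.2 fun f hf => by
      obtain ⟨w, hw, e1⟩ := hfa f hf a ha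
      obtain ⟨w', hw', e2⟩ := hfa f hf b hb
      have i1 : w * (b * w') * w⁻¹ = b * w' := by
        rw [← Exc.W_central (mul_mem hb (Exc.W_le_Q E hw')) hw, mul_inv_cancel_right]
      have i2 : w' * a⁻¹ * w'⁻¹ = a⁻¹ := by
        rw [← Exc.W_central (inv_mem ha) hw', mul_inv_cancel_right]
      have e3 : f * ⁅a, b⁆ * f⁻¹ = ⁅a, b⁆ := by
        calc f * ⁅a, b⁆ * f⁻¹ = ⁅f * a * f⁻¹, f * b * f⁻¹⁆ := by simp only [commutatorElement_def]; group
          _ = a * (w * (b * w') * w⁻¹) * a⁻¹ * w'⁻¹ * b⁻¹ := by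
              rw [e1, e2]; simp only [commutatorElement_def]; group
          _ = a * b * (w' * a⁻¹ * w'⁻¹) * b⁻¹ := by rw [i1]; group
          _ = ⁅a, b⁆ := by rw [i2, commutatorElement_def]
      calc f * ⁅a, b⁆ = f * ⁅a, b⁆ * f⁻¹ * f := by group
        _ = ⁅a, b⁆ * f := by rw [e3]
  refine comm_eq_bot hF.res (isPGroup_omegaOneCenter (pCoreOf p E)) (hEF.trans hP)
    (hx.W_cover.trans (sup_le hM ?_))
  rw [← hx.zeq]
  exact hZ

theorem commute_case (hE : Shape p E) (hF : Shape p F) (h : ∀ e ∈ E, ∀ f ∈ F, ⁅e, f⁆ ∈ pCore p G)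
    (hw : mov p E ≠ mov p F ∨ Noncomm F (mov p F) (Subgroup.centralizer (F : Set G))) : ⁅E, F⁆ = ⊥ := by
  have hFE := le_normalizer_of_comm hE h
  have hEF := le_normalizer_of_comm hF (comm_symm h)
  have hle : ⁅E, F⁆ ≤ pCoreOf p E ⊓ pCoreOf p F := by
    refine Subgroup.commutator_le.2 fun e he f hf => ?_
    rw [hE.inter, hF.inter]
    exact Subgroup.mem_inf.2 ⟨Subgroup.mem_inf.2 ⟨(comm_mem he (hFE hf)).1, h e he f hf⟩,
      Subgroup.mem_inf.2 ⟨(comm_mem hf (hEF he)).2, h e he f hf⟩⟩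
  by_cases hm : mov p E = mov p F
  · exfalso
    obtain ⟨f₁, hf₁, f₂, hf₂, u, hu, hne⟩ := hw.resolve_left (fun h' => h' hm)
    set M := mov p E with hM
    set A := M ⊓ Subgroup.centralizer (E : Set G) with hA
    have hFM : F ≤ Subgroup.normalizer (M : Set G) := normalizer_mov hFE
    have hFA : F ≤ Subgroup.normalizer (A : Set G) := le_normalizer_inf hFM (normalizer_centralizer hFE)
    have hEA : E ≤ Subgroup.normalizer (A : Set G) :=
      le_normalizer_inf (mov_normalizer E) (normalizer_centralizer Subgroup.le_normalizer)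
    have hAF : A ≤ Subgroup.centralizer (F : Set G) := by
      rcases hF.irr A (inf_le_left.trans hm.le) hFA with hc | he
      · exact hc
      · exact absurd (hm.le.trans (he.ge.trans inf_le_right)) hE.ne
    have hfix : ∀ f ∈ F, ∀ e ∈ E, ∀ v ∈ M,
        ((f * e) * v * (f * e)⁻¹)⁻¹ * ((e * f) * v * (e * f)⁻¹) ∈ A := by
      intro f hf e he v hv
      haveI := vSub_normal (p := p) (G := G)
      have hv' : e * f * v * (e * f)⁻¹ ∈ vSub p G :=
        (inferInstance : (vSub p G).Normal).conj_mem v (mov_le E hv) _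
      have e1 : f * e * v * (f * e)⁻¹ = ⁅f, e⁆ * (e * f * v * (e * f)⁻¹) * ⁅f, e⁆⁻¹ := by
        simp only [commutatorElement_def]; group
      rw [e1, vSub_fixed (comm_symm h f hf e he) hv', mul_inv_cancel_right, inv_mul_cancel]
      exact one_mem _
    have habM : ⁅M, M⁆ ≤ A := Subgroup.commutator_le.2 fun a ha b hb => by
      rw [commutatorElement_eq_one_iff_mul_comm.2 (omega_comm _ (mov_le E ha) _ (mov_le E hb))]
      exact one_mem _
    have hs := schur (A := A) (U := M) (E := E) inf_le_left habM (mov_normalizer E) hEA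
      (fun S hAS hSM hSn => (hE.irr S hSM hSn).imp (fun hc => le_antisymm (le_inf hSM hc) hAS) id)
      (hFM hf₁) (hFA hf₁) (hFM hf₂) (hFA hf₂) (hfix f₁ hf₁) (hfix f₂ hf₂) u (hm.ge hu)
    exact hne (hAF hs)
  have hME := centralizes_mov hE hF h hm
  have hMF := centralizes_mov hF hE (comm_symm h) (Ne.symm hm)
  have hle' : ⁅F, E⁆ ≤ pCoreOf p F ⊓ pCoreOf p E := by rwa [Subgroup.commutator_comm, inf_comm]
  rcases hE.qcase with hq | hxE
  · exact comm_eq_bot hF.res (Fusion.pCoreOf_isPGroup (p := p) E) (hle.trans inf_le_left) (hq.le.trans hME)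
  rcases hF.qcase with hq | hxF
  · rw [Subgroup.commutator_comm]
    exact comm_eq_bot hE.res (Fusion.pCoreOf_isPGroup (p := p) F) (hle'.trans inf_le_left) (hq.le.trans hMF)
  set P0 := pCoreOf p E ⊓ pCoreOf p F with hP0
  by_cases h1 : P0 ≤ omegaOneCenter p (pCoreOf p E)
  · exact exc_case hE hxE hF hFE hME hle h1
  by_cases h2 : P0 ≤ omegaOneCenter p (pCoreOf p F)
  · rw [Subgroup.commutator_comm]
    refine exc_case hF hxF hE hEF hMF hle' ?_
    rwa [inf_comm]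
  exfalso
  set WE := omegaOneCenter p (pCoreOf p E) with hWE
  set WF := omegaOneCenter p (pCoreOf p F) with hWF
  have hEP : E ≤ Subgroup.normalizer (P0 : Set G) := le_normalizer_inf hE.Q_normalizer (normalizer_Q hF hEF)
  have hFP : F ≤ Subgroup.normalizer (P0 : Set G) := le_normalizer_inf (normalizer_Q hE hFE) hF.Q_normalizer
  have hFWE : F ≤ Subgroup.normalizer (WE : Set G) := normalizer_omega (normalizer_Q hE hFE)
  have hEWF : E ≤ Subgroup.normalizer (WF : Set G) := normalizer_omega (normalizer_Q hF hEF)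
  have hsub : ∀ (X Y : Subgroup G), Shape p X → Exc p X → ∀ S : Subgroup G, S ≤ omegaOneCenter p Y →
      S ≤ pCoreOf p X → X ≤ Subgroup.normalizer (S : Set G) → S ≤ omegaOneCenter p (pCoreOf p X) := by
    intro X Y hX hxX S hSY hSX hSn
    rcases hxX.irrQ (S ⊔ omegaOneCenter p (pCoreOf p X)) le_sup_right (sup_le hSX (Exc.W_le_Q X))
        (le_normalizer_sup hSn hxX.normW) with he | he
    · exact le_sup_left.trans he.le
    · refine absurd (Subgroup.commutator_eq_bot_iff_le_centralizer.2 ?_) hxX.zne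
      refine he.ge.trans (sup_le (fun x hx => Subgroup.mem_centralizer_iff.2 fun b hb => ?_)
        fun w hw => (omegaOneCenter_props hw).2.1)
      obtain ⟨s, hs, w, hw, rfl⟩ := mem_sup_abelian (A := S) (B := omegaOneCenter p (pCoreOf p X))
        (fun a ha c hc => (Exc.W_central (hSX ha) hc).symm) (he.ge hb)
      have i1 : s * x = x * s := omega_comm _ (hSY hs) _ (hSY hx)
      have i2 : x * w = w * x := Exc.W_central (hSX hx) hw
      rw [mul_assoc, ← i2, ← mul_assoc, i1, mul_assoc]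
  have hA1 : P0 ⊓ WE ≤ WF :=
    hsub F (pCoreOf p E) hF hxF _ inf_le_right (inf_le_left.trans inf_le_right) (le_normalizer_inf hFP hFWE)
  have hA2 : P0 ⊓ WF ≤ WE :=
    hsub E (pCoreOf p F) hE hxE _ inf_le_right (inf_le_left.trans inf_le_left) (le_normalizer_inf hEP hEWF)
  have hAeq : P0 ⊓ WE = P0 ⊓ WF :=
    le_antisymm (le_inf inf_le_left hA1) (le_inf inf_le_left hA2)
  have hFA : F ≤ Subgroup.normalizer ((P0 ⊓ WE : Subgroup G) : Set G) := le_normalizer_inf hFP hFWE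
  have hEA : E ≤ Subgroup.normalizer ((P0 ⊓ WE : Subgroup G) : Set G) := le_normalizer_inf hEP hxE.normW
  have habP : ⁅P0, P0⁆ ≤ P0 ⊓ WE := le_inf (Subgroup.commutator_le_self _)
    ((Subgroup.commutator_mono inf_le_left inf_le_left).trans hxE.Z_le)
  have hirr : ∀ S : Subgroup G, P0 ⊓ WE ≤ S → S ≤ P0 → E ≤ Subgroup.normalizer (S : Set G) →
      S = P0 ⊓ WE ∨ S = P0 := by
    intro S hAS hSP hSn
    rcases hxE.irrQ (S ⊔ WE) le_sup_right (sup_le (hSP.trans inf_le_left) (Exc.W_le_Q E))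
        (le_normalizer_sup hSn hxE.normW) with he | he
    · exact Or.inl (le_antisymm (le_inf hSP (le_sup_left.trans he.le)) hAS)
    · refine Or.inr (le_antisymm hSP fun x hx => ?_)
      obtain ⟨s, hs, w, hw, rfl⟩ := mem_sup_abelian (A := S) (B := WE)
        (fun a ha c hc => (Exc.W_central (hSP ha).1 hc).symm) (he.ge hx.1)
      have hwP : w ∈ P0 := by
        have := mul_mem (inv_mem (hSP hs)) hx
        rwa [inv_mul_cancel_left] at this
      exact mul_mem hs (hAS (Subgroup.mem_inf.2 ⟨hwP, hw⟩))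
  have hfix : ∀ f ∈ F, ∀ e ∈ E, ∀ v ∈ P0,
      ((f * e) * v * (f * e)⁻¹)⁻¹ * ((e * f) * v * (e * f)⁻¹) ∈ P0 ⊓ WE := by
    intro f hf e he v hv
    set v' := (e * f) * v * (e * f)⁻¹ with hv'
    have hc : ⁅f, e⁆ ∈ P0 := by
      rw [← commutatorElement_inv]
      exact inv_mem (hle (Subgroup.commutator_mem_commutator he hf))
    have hvP : v' ∈ P0 := by
      have h1 := (Subgroup.mem_normalizer_iff.1 (hEP he) _).1 ((Subgroup.mem_normalizer_iff.1 (hFP hf) _).1 hv)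
      rwa [show v' = e * (f * v * f⁻¹) * e⁻¹ by rw [hv']; group]
    rw [show (f * e) * v * (f * e)⁻¹ = ⁅f, e⁆ * v' * ⁅f, e⁆⁻¹ by
        rw [hv']; simp only [commutatorElement_def]; group,
      show (⁅f, e⁆ * v' * ⁅f, e⁆⁻¹)⁻¹ * v' = ⁅⁅f, e⁆, v'⁻¹⁆ by simp only [commutatorElement_def]; group]
    exact habP (Subgroup.commutator_mem_commutator hc (inv_mem hvP))
  obtain ⟨f₁, hf₁, f₂, hf₂, u, hu, hne⟩ := hxF.witQ
  have hcovF : pCoreOf p F ≤ P0 ⊔ WF := by
    rcases hxF.irrQ (P0 ⊔ WF) le_sup_right (sup_le inf_le_right (Exc.W_le_Q F))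
        (le_normalizer_sup hFP hxF.normW) with he | he
    · exact absurd (le_sup_left.trans he.le) h2
    · exact he.ge
  obtain ⟨x, hx', w, hw', rfl⟩ := mem_sup_abelian (A := P0) (B := WF)
    (fun a ha c hc => (Exc.W_central ha.2 hc).symm) (hcovF hu)
  have hs := schur (A := P0 ⊓ WE) (U := P0) (E := E) inf_le_left habP hEP hEA hirr
    (hFP hf₁) (hFA hf₁) (hFP hf₂) (hFA hf₂) (hfix f₁ hf₁) (hfix f₂ hf₂) x hx'
  refine hne ?_
  have hw1 : (f₁ * f₂) * w * (f₁ * f₂)⁻¹ ∈ WF :=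
    (Subgroup.mem_normalizer_iff.1 (hxF.normW (mul_mem hf₁ hf₂)) _).1 hw'
  have hw2 : (f₂ * f₁) * w * (f₂ * f₁)⁻¹ ∈ WF :=
    (Subgroup.mem_normalizer_iff.1 (hxF.normW (mul_mem hf₂ hf₁)) _).1 hw'
  rw [show actDiff f₁ f₂ (x * w) = ((f₁ * f₂) * w * (f₁ * f₂)⁻¹)⁻¹ *
      (((f₁ * f₂) * x * (f₁ * f₂)⁻¹)⁻¹ * ((f₂ * f₁) * x * (f₂ * f₁)⁻¹)) *
      ((f₂ * f₁) * w * (f₂ * f₁)⁻¹) by simp only [actDiff]; group]
  exact mul_mem (mul_mem (inv_mem hw1) (hA1 hs)) hw2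

/-! ### Two small blocks -/

theorem cls_eq_inv {z a : G} (ha : a ∈ pCore p G) :
    act2 p G (QuotientGroup.mk z) (cls ha) = (cls ha)⁻¹ ↔ a * (z * a * z⁻¹) ∈ nz p G := by
  rw [act2_cls, eq_inv_iff_mul_eq_one, ← QuotientGroup.eq_one_iff (N := nz p G)]
  refine ⟨fun h => ?_, fun h => ?_⟩
  · have h' : ((z * a * z⁻¹ : G) : G ⧸ nz p G) * (a : G ⧸ nz p G) = 1 := congrArg Subtype.val h
    rw [QuotientGroup.mk_mul, mul_eq_one_iff_eq_inv]
    exact eq_inv_of_mul_eq_one_right h'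
  · refine Subtype.ext ?_
    show ((z * a * z⁻¹ : G) : G ⧸ nz p G) * (a : G ⧸ nz p G) = 1
    rw [QuotientGroup.mk_mul] at h
    rw [mul_eq_one_iff_eq_inv]
    exact eq_inv_of_mul_eq_one_right h

theorem act2_inv (hE : Shape p E) (hx : Exc p E) {z : G}
    (hz : ∀ a ∈ pCoreOf p E, a * (z * a * z⁻¹) ∈ omegaOneCenter p (pCoreOf p E)) :
    ∀ u ∈ U2 p E, act2 p G (QuotientGroup.mk z) u = u⁻¹ := by
  intro u hu
  obtain ⟨a, ha, h⟩ := hu
  have : u = cls (hE.Q_le ha) := Subtype.ext h.symm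
  rw [this, cls_eq_inv]
  exact Subgroup.mem_sup_right (hx.W_le (hz a ha))

theorem act1_inv {z : G} (hz : ∀ m ∈ mov p E, z * m * z⁻¹ = m⁻¹) :
    ∀ u ∈ U1 p E, act1 p G (QuotientGroup.mk z) u = u⁻¹ := fun u hu => Subtype.ext (by
  rw [act1_coe, Subgroup.coe_inv]
  exact hz _ hu)

theorem commute_of_acts (hG : Subgroup.centralizer (pCore p G : Set G) ≤ pCore p G) {q : ℕ}
    (hq : q.Coprime p) {a b : G ⧸ pCore p G} (ha : a ∈ pCore q (G ⧸ pCore p G))
    (hb : b ∈ pCore q (G ⧸ pCore p G)) (h1 : act1 p G a * act1 p G b = act1 p G b * act1 p G a)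
    (h2 : act2 p G a * act2 p G b = act2 p G b * act2 p G a) : a * b = b * a := by
  rw [← commutatorElement_eq_one_iff_mul_comm]
  have hm : ⁅a, b⁆ ∈ pCore q (G ⧸ pCore p G) :=
    mul_mem (mul_mem (mul_mem ha hb) (inv_mem ha)) (inv_mem hb)
  obtain ⟨k, hk⟩ := Fusion.isPGroup_pCore q (G ⧸ pCore p G) ⟨_, hm⟩
  refine eq_one_of_acts hG hq (congrArg Subtype.val hk) ?_ ?_ <;>
    rw [map_commutatorElement, commutatorElement_eq_one_iff_mul_comm]
  exacts [h1, h2]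

/-- An element of `⟨E, F⟩` cannot centralise `[V, E]`, invert `Q / W` and commute with `E` modulo `O_p(G)`. -/
theorem twist (hG : Subgroup.centralizer (pCore p G : Set G) ≤ pCore p G) (hE : Shape p E)
    (hk : SmallKind p E) (hx : Exc p E) (hF : Shape p F)
    (hEP : bar p E ≤ pCore 2 (G ⧸ pCore p G)) (hFP : bar p F ≤ pCore 2 (G ⧸ pCore p G))
    (hab : ∀ a ∈ pCoreOf p E, ∀ b ∈ pCoreOf p F, ⁅a, b⁆ ∈ ⁅pCoreOf p E, pCoreOf p E⁆)
    {y : G} (hy : y ∈ E ⊔ F)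
    (h1 : ∀ u ∈ U1 p E, act1 p G (QuotientGroup.mk y) u = u)
    (h2 : ∀ u ∈ U2 p E, act2 p G (QuotientGroup.mk y) u = u⁻¹)
    (hc1 : ∀ a ∈ bar p E, act1 p G (QuotientGroup.mk y) * act1 p G a = act1 p G a * act1 p G (QuotientGroup.mk y))
    (hc2 : ∀ a ∈ bar p E, act2 p G (QuotientGroup.mk y) * act2 p G a = act2 p G a * act2 p G (QuotientGroup.mk y)) :
    False := by
  have hyP : (QuotientGroup.mk y : G ⧸ pCore p G) ∈ pCore 2 (G ⧸ pCore p G) :=
    (show (E ⊔ F).map (QuotientGroup.mk' (pCore p G)) ≤ _ by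
      rw [Subgroup.map_sup]; exact sup_le hEP hFP) ⟨y, hy, rfl⟩
  have hq : Nat.Coprime 2 p := by rw [hx.three]; decide
  have hyE : y ∈ Subgroup.normalizer (E : Set G) := hE.normalize_of_commute fun a ha =>
    commute_of_acts hG hq hyP (hEP ha) (hc1 a ha) (hc2 a ha)
  refine no_twist hG hE hk hx hyE (fun m hm => ?_) (fun a ha => ?_) hyP
    fun r hr a ha => comm_acts_trivially hE hF hx hab hy hr ha
  · exact congrArg Subtype.val (h1 ⟨m, mov_le E hm⟩ hm)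
  · refine (hx.Q_inf_nz hE ?_).1 ((cls_eq_inv (hE.Q_le ha)).1 (h2 _ (cls_mem_U2 ha _)))
    refine mul_mem ha ?_
    rw [hE.inter] at ha ⊢
    exact Subgroup.mem_inf.2 ⟨(Subgroup.mem_normalizer_iff.1 hyE a).1 ha.1,
      (inferInstance : (pCore p G).Normal).conj_mem a ha.2 y⟩

/-- `[Q_E, Q_F] ≤ Z` when the second levels agree. -/
theorem hab_of_U2_eq (hE : Shape p E) (hx : Exc p E) (hF : Shape p F) (h : U2 p E = U2 p F) :
    ∀ a ∈ pCoreOf p E, ∀ b ∈ pCoreOf p F, ⁅a, b⁆ ∈ ⁅pCoreOf p E, pCoreOf p E⁆ := by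
  intro a ha b hb
  obtain ⟨a', ha', n, hn, rfl⟩ := exists_of_U2 (hF.Q_le hb) (h.ge (cls_mem_U2 hb (hF.Q_le hb)))
  have h1 : ⁅a, n⁆ = 1 := commutatorElement_eq_one_iff_mul_comm.2 (hx.nz_central hE hn ha).symm
  rw [show ⁅a, a' * n⁆ = ⁅a, a'⁆ * (a' * ⁅a, n⁆ * a'⁻¹) by simp only [commutatorElement_def]; group,
    h1, mul_one, mul_inv_cancel, mul_one]
  exact Subgroup.commutator_mem_commutator ha ha'

theorem comm_mem_W_of_fixed (hE : Shape p E) (hx : Exc p E) {e b : G} (he : e ∈ E) (hb : b ∈ pCore p G)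
    (h : act2 p G (QuotientGroup.mk e) (cls hb) = cls hb) : ⁅e, b⁆ ∈ omegaOneCenter p (pCoreOf p E) := by
  refine (hx.Q_inf_nz hE (hE.comm_mem_Q he hb)).1 ?_
  rw [act2_cls, cls_eq] at h
  have := (nz_normal p G).conj_mem _ (inv_mem h) b
  simpa [commutatorElement_def, mul_assoc] using this

/-- `[Q_E, Q_F] ≤ Z` when the first levels agree and the second differ. -/
theorem hab_of_fixed (hE : Shape p E) (hx : Exc p E) (hF : Shape p F) (hxF : Exc p F)
    (hk : Noncomm E (mov p E) (Subgroup.centralizer (E : Set G)))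
    (hlift : ∀ e ∈ E, ∃ f ∈ F, act1 p G (QuotientGroup.mk f) = act1 p G (QuotientGroup.mk e))
    (hfE : ∀ e ∈ E, ∀ b ∈ pCoreOf p F, ∀ hb : b ∈ pCore p G, act2 p G (QuotientGroup.mk e) (cls hb) = cls hb)
    (hfF : ∀ f ∈ F, ∀ a ∈ pCoreOf p E, ∀ ha : a ∈ pCore p G, act2 p G (QuotientGroup.mk f) (cls ha) = cls ha) :
    ∀ a ∈ pCoreOf p E, ∀ b ∈ pCoreOf p F, ⁅a, b⁆ ∈ ⁅pCoreOf p E, pCoreOf p E⁆ := by
  intro a ha b hb
  haveI := vSub_normal (p := p) (G := G)
  set u := ⁅a, b⁆ with hu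
  have huW : u ∈ omegaOneCenter p (pCoreOf p E) := hx.comm_Q_R hE ha (hF.Q_le hb)
  have hconjQ : ∀ {X : Subgroup G}, Shape p X → ∀ {c v : G}, c ∈ X → v ∈ pCoreOf p X → c * v * c⁻¹ ∈ pCoreOf p X :=
    fun {_} hX {_ _} hc hv => (Subgroup.mem_normalizer_iff.1 (hX.Q_normalizer hc) _).1 hv
  have hcentr : ∀ {c x y : G}, c ∈ vSub p G → x ∈ pCore p G → y ∈ pCore p G →
      ⁅x, c * y⁆ = ⁅x, y⁆ ∧ ⁅c * x, y⁆ = ⁅x, y⁆ := by
    intro c x y hc hx' hy'
    have h1 : ∀ r ∈ pCore p G, c * r * c⁻¹ = r := fun r hr => by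
      rw [← vSub_fixed hr hc, mul_inv_cancel_right]
    have h2 : ∀ r ∈ pCore p G, r * c * r⁻¹ = c := fun r hr => by rw [vSub_fixed hr hc, mul_inv_cancel_right]
    have hxy : ⁅x, y⁆ ∈ pCore p G := mul_mem (mul_mem (mul_mem hx' hy') (inv_mem hx')) (inv_mem hy')
    constructor
    · rw [show ⁅x, c * y⁆ = (x * c * x⁻¹) * c⁻¹ * (c * ⁅x, y⁆ * c⁻¹) by
        simp only [commutatorElement_def]; group, h2 x hx', h1 _ hxy, mul_inv_cancel, one_mul]
    · rw [show ⁅c * x, y⁆ = (c * ⁅x, y⁆ * c⁻¹) * (c * (y * c⁻¹ * y⁻¹)) by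
        simp only [commutatorElement_def]; group, h1 _ hxy,
        show y * c⁻¹ * y⁻¹ = (y * c * y⁻¹)⁻¹ by group, h2 y hy', mul_inv_cancel, mul_one]
  -- `E` moves only the first entry, `F` only the second
  have heu : ∀ e ∈ E, ∀ a ∈ pCoreOf p E, ∀ b ∈ pCoreOf p F, e * ⁅a, b⁆ * e⁻¹ = ⁅e * a * e⁻¹, b⁆ := by
    intro e he a ha b hb
    have hc : ⁅e, b⁆ ∈ vSub p G := hx.W_le (comm_mem_W_of_fixed hE hx he (hF.Q_le hb) (hfE e he b hb _))
    calc e * ⁅a, b⁆ * e⁻¹ = ⁅e * a * e⁻¹, ⁅e, b⁆ * b⁆ := by simp only [commutatorElement_def]; group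
      _ = ⁅e * a * e⁻¹, b⁆ := (hcentr hc (hE.Q_le (hconjQ hE he ha)) (hF.Q_le hb)).1
  have hfu : ∀ f ∈ F, ∀ a ∈ pCoreOf p E, ∀ b ∈ pCoreOf p F, f * ⁅a, b⁆ * f⁻¹ = ⁅a, f * b * f⁻¹⁆ := by
    intro f hf a ha b hb
    have hc : ⁅f, a⁆ ∈ vSub p G := hxF.W_le (comm_mem_W_of_fixed hF hxF hf (hE.Q_le ha) (hfF f hf a ha _))
    calc f * ⁅a, b⁆ * f⁻¹ = ⁅⁅f, a⁆ * a, f * b * f⁻¹⁆ := by simp only [commutatorElement_def]; group
      _ = ⁅a, f * b * f⁻¹⁆ := (hcentr hc (hE.Q_le ha) (hF.Q_le (hconjQ hF hf hb))).2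
  have hsame : ∀ e ∈ E, ∃ f ∈ F, ∀ v ∈ vSub p G, f * v * f⁻¹ = e * v * e⁻¹ := fun e he => by
    obtain ⟨f, hf, hfe⟩ := hlift e he
    exact ⟨f, hf, fun v hv => congrArg (fun φ : MulAut ↥(vSub p G) => ((φ ⟨v, hv⟩ : ↥(vSub p G)) : G)) hfe⟩
  have hswap : ∀ e₁ ∈ E, ∀ e₂ ∈ E, (e₁ * e₂) * u * (e₁ * e₂)⁻¹ = (e₂ * e₁) * u * (e₂ * e₁)⁻¹ := by
    intro e₁ he₁ e₂ he₂
    obtain ⟨f, hf, hfe⟩ := hsame e₂ he₂
    have huV : u ∈ vSub p G := hx.W_le huW
    calc (e₁ * e₂) * u * (e₁ * e₂)⁻¹ = e₁ * (e₂ * u * e₂⁻¹) * e₁⁻¹ := by group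
      _ = e₁ * (f * u * f⁻¹) * e₁⁻¹ := by rw [hfe u huV]
      _ = ⁅e₁ * a * e₁⁻¹, f * b * f⁻¹⁆ := by rw [hu, hfu f hf a ha b hb, heu e₁ he₁ a ha _ (hconjQ hF hf hb)]
      _ = f * (e₁ * u * e₁⁻¹) * f⁻¹ := by rw [hu, heu e₁ he₁ a ha b hb, hfu f hf _ (hconjQ hE he₁ ha) b hb]
      _ = e₂ * (e₁ * u * e₁⁻¹) * e₂⁻¹ :=
          hfe _ ((inferInstance : (vSub p G).Normal).conj_mem u huV e₁)
      _ = (e₂ * e₁) * u * (e₂ * e₁)⁻¹ := by group
  let X : Subgroup G :=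
    { carrier := {m | m ∈ mov p E ∧ ∀ e₁ ∈ E, ∀ e₂ ∈ E,
        (e₁ * e₂) * m * (e₁ * e₂)⁻¹ = (e₂ * e₁) * m * (e₂ * e₁)⁻¹}
      one_mem' := ⟨one_mem _, fun e₁ _ e₂ _ => by simp⟩
      mul_mem' := by
        rintro x y ⟨hx, hx'⟩ ⟨hy, hy'⟩
        refine ⟨mul_mem hx hy, fun e₁ h₁ e₂ h₂ => ?_⟩
        rw [← conj_mul, ← conj_mul, hx' e₁ h₁ e₂ h₂, hy' e₁ h₁ e₂ h₂]
      inv_mem' := by
        rintro x ⟨hx, hx'⟩
        refine ⟨inv_mem hx, fun e₁ h₁ e₂ h₂ => ?_⟩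
        rw [← conj_inv, ← conj_inv, hx' e₁ h₁ e₂ h₂] }
  have hXn : E ≤ Subgroup.normalizer (X : Set G) := le_normalizer_of_conj fun g hg m hm => by
    refine ⟨(Subgroup.mem_normalizer_iff.1 (mov_normalizer E hg) _).1 hm.1, fun e₁ h₁ e₂ h₂ => ?_⟩
    have hv : g * m * g⁻¹ ∈ mov p E := (Subgroup.mem_normalizer_iff.1 (mov_normalizer E hg) _).1 hm.1
    have s1 : ∀ c ∈ E, (c * g) * m * (c * g)⁻¹ = (g * c) * m * (g * c)⁻¹ := fun c hc => hm.2 c hc g hg
    calc (e₁ * e₂) * (g * m * g⁻¹) * (e₁ * e₂)⁻¹ = (e₁ * (e₂ * g)) * m * (e₁ * (e₂ * g))⁻¹ := by group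
      _ = ((e₂ * g) * e₁) * m * ((e₂ * g) * e₁)⁻¹ := hm.2 e₁ h₁ _ (mul_mem h₂ hg)
      _ = e₂ * ((g * e₁) * m * (g * e₁)⁻¹) * e₂⁻¹ := by group
      _ = e₂ * ((e₁ * g) * m * (e₁ * g)⁻¹) * e₂⁻¹ := by rw [← s1 e₁ h₁]
      _ = (e₂ * e₁) * (g * m * g⁻¹) * (e₂ * e₁)⁻¹ := by group
  have hXC : X ≤ Subgroup.centralizer (E : Set G) := by
    rcases hE.irr X (fun m hm => hm.1) hXn with hc | he
    · exact hc
    · obtain ⟨e₁, h₁, e₂, h₂, m, hm, hne⟩ := hk
      refine absurd ?_ hne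
      rw [actDiff, (he.ge hm).2 e₁ h₁ e₂ h₂, inv_mul_cancel]
      exact one_mem _
  rw [hx.zeq]
  refine Subgroup.mem_inf.2 ⟨huW, ?_⟩
  obtain ⟨m, hm, z, hz, hmz⟩ := mem_sup_abelian (A := mov p E)
    (B := omegaOneCenter p (pCoreOf p E) ⊓ Subgroup.centralizer (E : Set G))
    (fun c hc d hd => omega_comm _ hd.1 _ (hE.movW hc)) (hx.W_cover huW)
  have hzfix : ∀ c ∈ E, c * z * c⁻¹ = z := fun c hc => by
    rw [Subgroup.mem_centralizer_iff.1 hz.2 c hc, mul_inv_cancel_right]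
  have hmX : m ∈ X := by
    refine ⟨hm, fun e₁ h₁ e₂ h₂ => ?_⟩
    have := hswap e₁ h₁ e₂ h₂
    rw [← hmz, ← conj_mul, ← conj_mul, hzfix _ (mul_mem h₁ h₂), hzfix _ (mul_mem h₂ h₁)] at this
    exact mul_right_cancel this
  rw [← hmz]
  exact mul_mem (hXC hmX) hz.2

variable {q : ℕ}

theorem bar_le (hG : Subgroup.centralizer (pCore p G : Set G) ≤ pCore p G) (hq : q.Coprime p)
    (hEP : bar p E ≤ pCore q (G ⧸ pCore p G)) (hFP : bar p F ≤ pCore q (G ⧸ pCore p G))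
    (h : ∀ b ∈ bar p F, ∃ a ∈ bar p E, act1 p G a = act1 p G b ∧ act2 p G a = act2 p G b) :
    bar p F ≤ bar p E := by
  intro b hb
  obtain ⟨a, ha, h1, h2⟩ := h b hb
  have hm : a⁻¹ * b ∈ pCore q (G ⧸ pCore p G) := mul_mem (inv_mem (hEP ha)) (hFP hb)
  obtain ⟨k, hk⟩ := Fusion.isPGroup_pCore q (G ⧸ pCore p G) ⟨_, hm⟩
  have h3 := eq_one_of_acts hG hq (congrArg Subtype.val hk) (by rw [map_mul, map_inv, h1, inv_mul_cancel])
    (by rw [map_mul, map_inv, h2, inv_mul_cancel])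
  rw [inv_mul_eq_one] at h3
  exact h3 ▸ ha

/-- With both levels equal the images agree. -/
theorem bar_le_of_levels (hG : Subgroup.centralizer (pCore p G : Set G) ≤ pCore p G) (hE : Shape p E)
    (hk : SmallKind p E) (hx : Exc p E) (hF : Shape p F) (hkF : SmallKind p F) (hxF : Exc p F)
    (hE2 : IsPGroup 2 ↥(bar p E)) (hF2 : IsPGroup 2 ↥(bar p F))
    (hEP : bar p E ≤ pCore 2 (G ⧸ pCore p G)) (hFP : bar p F ≤ pCore 2 (G ⧸ pCore p G))
    (h1 : U1 p E = U1 p F) (h2 : U2 p E = U2 p F) : bar p F ≤ bar p E := by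
  haveI : Fact (Nat.Prime 2) := ⟨Nat.prime_two⟩
  have hp3 := hx.three
  have hq : Nat.Coprime 2 p := by rw [hp3]; decide
  have hP := Fusion.isPGroup_pCore 2 (G ⧸ pCore p G)
  have g1E := good1 hE hk
  have g1F := h1 ▸ good1 hF hkF
  have g2E := good2 hE hx hE2
  have g2F := h2 ▸ good2 hF hxF hF2
  refine bar_le hG hq hEP hFP fun b hb => ?_
  obtain ⟨a₁, ha₁, e1⟩ := g1E.exists_eq hP hq (vSub_exp p G) g1F hEP hFP (Or.inr hp3) hb
  obtain ⟨a₂, ha₂, e2⟩ := g2E.exists_eq hP hq (top2_exp p G) g2F hEP hFP (Or.inr hp3) hb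
  obtain ⟨e₃, he₃, hae⟩ := mul_mem (inv_mem ha₁) ha₂
  rw [QuotientGroup.mk'_apply] at hae
  obtain ⟨hquat, hfaith, -⟩ := hx.small hE2
  obtain ⟨f, hf, rfl⟩ := hb
  obtain ⟨e, he, rfl⟩ := ha₁
  simp only [QuotientGroup.mk'_apply] at e1 e2 hae ⊢
  set x : G := e⁻¹ * f with hxdef
  have hx1 : act1 p G (QuotientGroup.mk x) = 1 := by
    rw [hxdef, QuotientGroup.mk_mul, QuotientGroup.mk_inv, map_mul, map_inv, e1, inv_mul_cancel]
  have hx2 : act2 p G (QuotientGroup.mk x) = act2 p G (QuotientGroup.mk e₃) := by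
    rw [hxdef, QuotientGroup.mk_mul, QuotientGroup.mk_inv, map_mul, map_inv, hae, map_mul, map_inv, e2]
  have key : ∀ y g : G, y ∈ E ⊔ F → g ∈ E → act1 p G (QuotientGroup.mk y) = 1 →
      act2 p G (QuotientGroup.mk y) = act2 p G (QuotientGroup.mk g) →
      (∀ a ∈ pCoreOf p E, a * (g * a * g⁻¹) ∈ omegaOneCenter p (pCoreOf p E)) → False := by
    intro y g hy hg hy1 hy2 hinv
    refine twist hG hE hk hx hF hEP hFP (hab_of_U2_eq hE hx hF h2) hy (fun u _ => by rw [hy1]; rfl)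
      (fun u hu => by rw [hy2]; exact act2_inv hE hx hinv u hu) (fun a _ => by rw [hy1, one_mul, mul_one])
      (fun a ha => ?_)
    rw [hy2]
    exact neg_commute hP hq (top2_exp p G) (hEP ⟨g, hg, rfl⟩) (hEP ha)
      (g2E.comm _ ⟨g, hg, rfl⟩) (g2E.comm a ha) (act2_inv hE hx hinv)
  have hxm : x ∈ E ⊔ F := mul_mem (inv_mem (Subgroup.mem_sup_left he)) (Subgroup.mem_sup_right hf)
  rcases hquat.1 e₃ he₃ with hc | hc | hc
  · refine ⟨_, ⟨e, he, rfl⟩, e1, ?_⟩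
    rw [QuotientGroup.mk'_apply, ← e2]
    have h3 : (QuotientGroup.mk e₃ : G ⧸ pCore p G) = 1 :=
      (QuotientGroup.eq_one_iff e₃).2 (hfaith e₃ he₃ hc)
    rw [hae] at h3
    exact congrArg _ (inv_mul_eq_one.1 h3)
  · exact (key x e₃ hxm he₃ hx1 hx2 hc).elim
  · refine (key (x * x) (e₃ * e₃) (mul_mem hxm hxm) (mul_mem he₃ he₃) ?_ ?_ hc).elim
    · rw [QuotientGroup.mk_mul, map_mul, hx1, one_mul]
    · rw [QuotientGroup.mk_mul, map_mul, hx2, QuotientGroup.mk_mul, map_mul]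

/-- `z_E z_F` is a twist when the first levels agree and `F` fixes the second level of `E`. -/
theorem twist_mixed (hG : Subgroup.centralizer (pCore p G : Set G) ≤ pCore p G) (hE : Shape p E)
    (hk : SmallKind p E) (hx : Exc p E) (hF : Shape p F) (hkF : SmallKind p F)
    (hE2 : IsPGroup 2 ↥(bar p E))
    (hEP : bar p E ≤ pCore 2 (G ⧸ pCore p G)) (hFP : bar p F ≤ pCore 2 (G ⧸ pCore p G))
    (h1 : U1 p E = U1 p F)
    (hab : ∀ a ∈ pCoreOf p E, ∀ b ∈ pCoreOf p F, ⁅a, b⁆ ∈ ⁅pCoreOf p E, pCoreOf p E⁆)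
    (hfix : ∀ b ∈ bar p F, ∀ u ∈ U2 p E, act2 p G b u = u)
    (hcomm : ∀ b ∈ bar p F, ∀ a ∈ bar p E, act2 p G b * act2 p G a = act2 p G a * act2 p G b) : False := by
  have hp3 := hx.three
  have hq : Nat.Coprime 2 p := by rw [hp3]; decide
  have hP := Fusion.isPGroup_pCore 2 (G ⧸ pCore p G)
  obtain ⟨zE, hzE, hzE1, hzE2⟩ := exists_inverting hE hk hp3
  obtain ⟨zF, hzF, hzF1, -⟩ := exists_inverting hF hkF hp3
  have g1E := good1 hE hk
  have g1F := h1 ▸ good1 hF hkF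
  have g2E := good2 hE hx hE2
  have i1E := act1_inv (p := p) hzE1
  have i1F : ∀ u ∈ U1 p E, act1 p G (QuotientGroup.mk zF) u = u⁻¹ := h1 ▸ act1_inv (p := p) hzF1
  have i2E := act2_inv hE hx (hzE2 hx)
  have hEb : (QuotientGroup.mk zE : G ⧸ pCore p G) ∈ bar p E := ⟨zE, hzE, rfl⟩
  have hFb : (QuotientGroup.mk zF : G ⧸ pCore p G) ∈ bar p F := ⟨zF, hzF, rfl⟩
  refine twist hG hE hk hx hF hEP hFP hab (mul_mem (Subgroup.mem_sup_left hzE) (Subgroup.mem_sup_right hzF))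
    (fun u hu => ?_) (fun u hu => ?_) (fun a ha => ?_) (fun a ha => ?_) <;>
    rw [QuotientGroup.mk_mul, map_mul]
  · rw [MulAut.mul_apply, i1F u hu, i1E _ (inv_mem hu), inv_inv]
  · rw [MulAut.mul_apply, hfix _ hFb u hu, i2E u hu]
  · exact Commute.mul_left
      (neg_commute hP hq (vSub_exp p G) (hEP hEb) (hEP ha) (g1E.comm _ hEb) (g1E.comm a ha) i1E)
      (neg_commute hP hq (vSub_exp p G) (hFP hFb) (hEP ha) (g1F.comm _ hFb) (g1E.comm a ha) i1F)
  · exact Commute.mul_left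
      (neg_commute hP hq (top2_exp p G) (hEP hEb) (hEP ha) (g2E.comm _ hEb) (g2E.comm a ha) i2E)
      (hcomm _ hFb a ha)

/-- With different first and equal second levels there is a twist. -/
theorem twist_top (hG : Subgroup.centralizer (pCore p G : Set G) ≤ pCore p G) (hE : Shape p E)
    (hk : SmallKind p E) (hx : Exc p E) (hF : Shape p F) (hkF : SmallKind p F) (hxF : Exc p F)
    (hE2 : IsPGroup 2 ↥(bar p E)) (hF2 : IsPGroup 2 ↥(bar p F))
    (hEP : bar p E ≤ pCore 2 (G ⧸ pCore p G)) (hFP : bar p F ≤ pCore 2 (G ⧸ pCore p G))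
    (h1 : U1 p E ≠ U1 p F) (h2 : U2 p E = U2 p F) : False := by
  haveI : Fact (Nat.Prime 2) := ⟨Nat.prime_two⟩
  have hp3 := hx.three
  have hq : Nat.Coprime 2 p := by rw [hp3]; decide
  have hP := Fusion.isPGroup_pCore 2 (G ⧸ pCore p G)
  obtain ⟨zF, hzF, -, hzF2⟩ := exists_inverting hF hkF hp3
  have g1E := good1 hE hk
  have g1F := good1 hF hkF
  have g2E := good2 hE hx hE2
  have g2F := h2 ▸ good2 hF hxF hF2
  have i2F : ∀ u ∈ U2 p E, act2 p G (QuotientGroup.mk zF) u = u⁻¹ := h2 ▸ act2_inv hF hxF (hzF2 hxF)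
  have hFb : (QuotientGroup.mk zF : G ⧸ pCore p G) ∈ bar p F := ⟨zF, hzF, rfl⟩
  exact twist hG hE hk hx hF hEP hFP (hab_of_U2_eq hE hx hF h2) (Subgroup.mem_sup_right hzF)
    (fun u hu => (fix_of_ne hP (vSub_exp p G) g1E g1F hEP hFP h1).2 _ hFb u hu) i2F
    (fun a ha => commute_of_ne hP (vSub_exp p G) g1F g1E hFP hEP (Ne.symm h1) hFb ha)
    (fun a ha => neg_commute hP hq (top2_exp p G) (hFP hFb) (hEP ha) (g2F.comm _ hFb) (g2E.comm a ha) i2F)

theorem exc_small (hk : SmallKind p E) (hx : Exc p E) :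
    IsPGroup 2 ↥(bar p E) ∧ Noncomm E (mov p E) (Subgroup.centralizer (E : Set G)) := by
  rcases hk.kind with ⟨h, -⟩ | ⟨-, -, h1, h2⟩
  · exact absurd hx.three (by omega)
  · exact ⟨h1, h2⟩

theorem small_pair (hG : Subgroup.centralizer (pCore p G : Set G) ≤ pCore p G) (hE : Shape p E)
    (hkE : SmallKind p E) (hF : Shape p F) (hkF : SmallKind p F) : E = F ∨ ⁅E, F⁆ = ⊥ := by
  obtain ⟨q, hqp, hq, hqE, hqF, hq2⟩ : ∃ q : ℕ, q.Prime ∧ q.Coprime p ∧ IsPGroup q ↥(bar p E) ∧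
      IsPGroup q ↥(bar p F) ∧ (p = 3 → q = 2) := by
    rcases hkE.kind with ⟨h, -, hE'⟩ | ⟨h, -, hE', -⟩ <;>
      rcases hkF.kind with ⟨h', -, hF'⟩ | ⟨h', -, hF', -⟩
    · exact ⟨3, Nat.prime_three, by rw [h]; decide, hE', hF', fun h'' => by omega⟩
    · omega
    · omega
    · exact ⟨2, Nat.prime_two, by rw [h]; decide, hE', hF', fun _ => rfl⟩
  haveI : Fact q.Prime := ⟨hqp⟩
  have hp3 : p = 2 ∨ p = 3 := hkE.kind.imp (fun h => h.1) (fun h => h.1)
  have hEP : bar p E ≤ pCore q (G ⧸ pCore p G) := Perm.subnormal_pgroup_le_pCore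
    (Subgroup.IsSubnormal.map (QuotientGroup.mk'_surjective _) hE.subn) hqE
  have hFP : bar p F ≤ pCore q (G ⧸ pCore p G) := Perm.subnormal_pgroup_le_pCore
    (Subgroup.IsSubnormal.map (QuotientGroup.mk'_surjective _) hF.subn) hqF
  have hP := Fusion.isPGroup_pCore q (G ⧸ pCore p G)
  have g1E := good1 hE hkE
  have g1F := good1 hF hkF
  by_cases h1 : U1 p E = U1 p F
  · left
    refine eq_of_bar_eq hE hF ?_
    rcases hE.qcase with hnE | hxE <;> rcases hF.qcase with hnF | hxF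
    · refine le_antisymm (bar_le hG hq hFP hEP fun b hb => ?_) (bar_le hG hq hEP hFP fun b hb => ?_)
      · obtain ⟨a, ha, e⟩ := (h1 ▸ g1F : Good _ p (bar p F) (U1 p E)).exists_eq hP hq (vSub_exp p G) g1E hFP hEP hp3 hb
        exact ⟨a, ha, e, by rw [hF.act2_trivial hnF ha, hE.act2_trivial hnE hb]⟩
      · obtain ⟨a, ha, e⟩ := g1E.exists_eq hP hq (vSub_exp p G) (h1 ▸ g1F) hEP hFP hp3 hb
        exact ⟨a, ha, e, by rw [hE.act2_trivial hnE ha, hF.act2_trivial hnF hb]⟩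
    · exfalso
      obtain rfl := hq2 hxF.three
      refine twist_mixed hG hF hkF hxF hE hkE hqF hFP hEP h1.symm (fun a ha b hb => ?_)
        (fun b hb u _ => by rw [hE.act2_trivial hnE hb]; rfl)
        fun b hb a _ => by rw [hE.act2_trivial hnE hb, one_mul, mul_one]
      rw [commutatorElement_eq_one_iff_mul_comm.2 (vSub_fixed (hF.Q_le ha) (mov_le E (hnE ▸ hb)))]
      exact one_mem _
    · exfalso
      obtain rfl := hq2 hxE.three
      refine twist_mixed hG hE hkE hxE hF hkF hqE hEP hFP h1 (fun a ha b hb => ?_)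
        (fun b hb u _ => by rw [hF.act2_trivial hnF hb]; rfl)
        fun b hb a _ => by rw [hF.act2_trivial hnF hb, one_mul, mul_one]
      rw [commutatorElement_eq_one_iff_mul_comm.2 (vSub_fixed (hE.Q_le ha) (mov_le F (hnF ▸ hb)))]
      exact one_mem _
    · obtain rfl := hq2 hxE.three
      by_cases h2 : U2 p E = U2 p F
      · exact le_antisymm
          (bar_le_of_levels hG hF hkF hxF hE hkE hxE hqF hqE hFP hEP h1.symm h2.symm)
          (bar_le_of_levels hG hE hkE hxE hF hkF hxF hqE hqF hEP hFP h1 h2)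
      exfalso
      have g2E := good2 hE hxE hqE
      have g2F := good2 hF hxF hqF
      have f2E := (fix_of_ne hP (top2_exp p G) g2E g2F hEP hFP h2).2
      have f2F := (fix_of_ne hP (top2_exp p G) g2F g2E hFP hEP (Ne.symm h2)).2
      refine twist_mixed hG hE hkE hxE hF hkF hqE hEP hFP h1
        (hab_of_fixed hE hxE hF hxF (exc_small hkE hxE).2 (fun e he => ?_)
          (fun e he b hb _ => f2F _ ⟨e, he, rfl⟩ _ (cls_mem_U2 hb _))
          (fun f hf a ha _ => f2E _ ⟨f, hf, rfl⟩ _ (cls_mem_U2 ha _)))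
        f2E (fun b hb a ha => commute_of_ne hP (top2_exp p G) g2F g2E hFP hEP (Ne.symm h2) hb ha)
      obtain ⟨_, ⟨f, hf, rfl⟩, e'⟩ := (h1 ▸ g1F : Good _ p (bar p F) (U1 p E)).exists_eq hP hq (vSub_exp p G) g1E
        hFP hEP hp3 (b := QuotientGroup.mk e) ⟨e, he, rfl⟩
      exact ⟨f, hf, e'⟩
  · right
    have hmov : mov p E ≠ mov p F := fun h => h1 (by rw [U1, h])
    refine commute_case hE hF (fun e he f hf => ?_) (Or.inl hmov)
    have hea : (QuotientGroup.mk e : G ⧸ pCore p G) ∈ bar p E := ⟨e, he, rfl⟩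
    have hfb : (QuotientGroup.mk f : G ⧸ pCore p G) ∈ bar p F := ⟨f, hf, rfl⟩
    have c1 := commute_of_ne hP (vSub_exp p G) g1E g1F hEP hFP h1 hea hfb
    have c2 : act2 p G (QuotientGroup.mk e) * act2 p G (QuotientGroup.mk f) =
        act2 p G (QuotientGroup.mk f) * act2 p G (QuotientGroup.mk e) := by
      rcases hE.qcase with hnE | hxE
      · rw [hE.act2_trivial hnE hea, one_mul, mul_one]
      rcases hF.qcase with hnF | hxF
      · rw [hF.act2_trivial hnF hfb, one_mul, mul_one]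
      obtain rfl := hq2 hxE.three
      by_cases h2 : U2 p E = U2 p F
      · exact (twist_top hG hE hkE hxE hF hkF hxF hqE hqF hEP hFP h1 h2).elim
      · exact commute_of_ne hP (top2_exp p G) (good2 hE hxE hqE) (good2 hF hxF hqF) hEP hFP h2 hea hfb
    have h3 := commute_of_acts hG hq (hEP hea) (hFP hfb) c1 c2
    rw [← QuotientGroup.eq_one_iff, ← QuotientGroup.mk'_apply, map_commutatorElement,
      commutatorElement_eq_one_iff_mul_comm]
    exact h3

/-- Subnormal blocks are equal or commute. -/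
theorem eq_or_commute (hG : Subgroup.centralizer (pCore p G : Set G) ≤ pCore p G) (hE : Shape p E)
    (hF : Shape p F) : E = F ∨ ⁅E, F⁆ = ⊥ := by
  have hsE : (bar p E).IsSubnormal := Subgroup.IsSubnormal.map (QuotientGroup.mk'_surjective _) hE.subn
  have hsF : (bar p F).IsSubnormal := Subgroup.IsSubnormal.map (QuotientGroup.mk'_surjective _) hF.subn
  have hR : ⁅bar p E, bar p F⁆ = ⊥ → ∀ e ∈ E, ∀ f ∈ F, ⁅e, f⁆ ∈ pCore p G := by
    intro h e he f hf
    rw [← QuotientGroup.eq_one_iff, ← Subgroup.mem_bot, ← h, ← QuotientGroup.mk'_apply, map_commutatorElement]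
    exact Subgroup.commutator_mem_commutator ⟨e, he, rfl⟩ ⟨f, hf, rfl⟩
  have hsolv : ∀ {X : Subgroup G}, SmallKind p X → Group.IsSolvable ↥(bar p X) := by
    intro X hX
    rcases hX.kind with ⟨-, -, h⟩ | ⟨-, -, h, -⟩
    · haveI : Fact (Nat.Prime 3) := ⟨Nat.prime_three⟩
      haveI := h.isNilpotent
      infer_instance
    · haveI : Fact (Nat.Prime 2) := ⟨Nat.prime_two⟩
      haveI := h.isNilpotent
      infer_instance
  rcases hE.kind with ⟨hqE, hwE⟩ | hkE <;> rcases hF.kind with ⟨hqF, hwF⟩ | hkF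
  · by_cases hb : bar p E = bar p F
    · exact Or.inl (eq_of_bar_eq hE hF hb)
    · exact Or.inr (commute_case hE hF
        (hR (Solv.components_commute ⟨hsE, hqE⟩ ⟨hsF, hqF⟩ hb)) (Or.inr hwF))
  · right
    rw [Subgroup.commutator_comm]
    refine commute_case hF hE (comm_symm (hR ?_)) (Or.inr hwE)
    exact Solv.component_commutes_solvable ⟨hsE, hqE⟩ hsF (hsolv hkF)
  · right
    refine commute_case hE hF (hR ?_) (Or.inr hwF)
    rw [Subgroup.commutator_comm]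
    exact Solv.component_commutes_solvable ⟨hsF, hqF⟩ hsE (hsolv hkE)
  · exact small_pair hG hE hkE hF hkF

end Cfsg.Agent.LocalEven.SubnBlock
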