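import Cfsg.Agent.Lib.LocalEven.Subnormal.Basic
import Cfsg.Agent.Lib.LocalEven.Subnormal.Models
import Cfsg.Agent.Lib.Perm.Subnormalizer
import Cfsg.Agent.S2984

/-!
The facts about a subnormal block used to compare two of them.
-/

set_option autoImplicit false

open scoped commutatorElement

namespace Cfsg.Agent.LocalEven.SubnBlock

open Cfsg Cfsg.Agent.Fusion Cfsg.Agent.LocalEven.Block

variable {G : Type*} [Group G]

/-- `e₁ e₂` against `e₂ e₁` on `u`. -/
def actDiff (e₁ e₂ u : G) : G :=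
  ((e₁ * e₂) * u * (e₁ * e₂)⁻¹)⁻¹ * ((e₂ * e₁) * u * (e₂ * e₁)⁻¹)

/-- The action of `E` on `U / A` is not commutative. -/
def Noncomm (E U A : Subgroup G) : Prop := ∃ e₁ ∈ E, ∃ e₂ ∈ E, ∃ u ∈ U, actDiff e₁ e₂ u ∉ A

/-- `E` acts on `U / A` as a group of order three. -/
def Cube (E U A : Subgroup G) : Prop :=
  (∀ e ∈ E, ∀ u ∈ U, u⁻¹ * ((e * e * e) * u * (e * e * e)⁻¹) ∈ A) ∧
    ∃ g ∈ E, ∃ u ∈ U, u⁻¹ * (g * u * g⁻¹) ∉ A

/-- `E` acts on `U / A` like the quaternion group on the natural module over three elements. -/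
def Quat (E U A : Subgroup G) : Prop :=
  (∀ e ∈ E, (∀ u ∈ U, u⁻¹ * (e * u * e⁻¹) ∈ A) ∨ (∀ u ∈ U, u * (e * u * e⁻¹) ∈ A) ∨
      ∀ u ∈ U, u * ((e * e) * u * (e * e)⁻¹) ∈ A) ∧
    (∀ u ∈ U, u ∉ A → ∀ u' ∈ U, u' ∉ A → ∃ e ∈ E, u'⁻¹ * (e * u * e⁻¹) ∈ A) ∧
    ∃ g ∈ E, ∃ u ∈ U, u⁻¹ * ((g * g) * u * (g * g)⁻¹) ∉ A

/-- Only `R` acts trivially. -/
def Faith (E U A R : Subgroup G) : Prop := ∀ e ∈ E, (∀ u ∈ U, u⁻¹ * (e * u * e⁻¹) ∈ A) → e ∈ R

/-- `[V, E]`. -/
abbrev mov (p : ℕ) (E : Subgroup G) : Subgroup G := ⁅vSub p G, E⁆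

/-- The image in `G / O_p(G)`. -/
abbrev bar (p : ℕ) (E : Subgroup G) : Subgroup (G ⧸ pCore p G) := E.map (QuotientGroup.mk' (pCore p G))

/-- Extra facts in the exceptional case. -/
structure Exc (p : ℕ) (E : Subgroup G) : Prop where
  three : p = 3
  W_le : omegaOneCenter p (pCoreOf p E) ≤ vSub p G
  W_cover : omegaOneCenter p (pCoreOf p E) ≤
    mov p E ⊔ omegaOneCenter p (pCoreOf p E) ⊓ Subgroup.centralizer (E : Set G)
  normW : E ≤ Subgroup.normalizer (omegaOneCenter p (pCoreOf p E) : Set G)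
  zeq : ⁅pCoreOf p E, pCoreOf p E⁆ = omegaOneCenter p (pCoreOf p E) ⊓ Subgroup.centralizer (E : Set G)
  zne : ⁅pCoreOf p E, pCoreOf p E⁆ ≠ ⊥
  cent : E ⊓ Subgroup.centralizer (E : Set G) = omegaOneCenter p (pCoreOf p E) ⊓ Subgroup.centralizer (E : Set G)
  irrQ : ∀ S : Subgroup G, omegaOneCenter p (pCoreOf p E) ≤ S → S ≤ pCoreOf p E →
    E ≤ Subgroup.normalizer (S : Set G) → S = omegaOneCenter p (pCoreOf p E) ∨ S = pCoreOf p E
  W_ne : omegaOneCenter p (pCoreOf p E) ≠ pCoreOf p E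
  witQ : Noncomm E (pCoreOf p E) (omegaOneCenter p (pCoreOf p E))
  small : IsPGroup 2 ↥(bar p E) → Quat E (pCoreOf p E) (omegaOneCenter p (pCoreOf p E)) ∧
    Faith E (pCoreOf p E) (omegaOneCenter p (pCoreOf p E)) (pCore p G) ∧
    (omegaOneCenter p (pCoreOf p E)).relIndex (pCoreOf p E) = 9
  quadratic : ∃ T : Sylow p G, ⁅E, baumannSubgroupOf p (T : Subgroup G)⁆ = E ∧
    ∀ b : G, b ∈ baumannSubgroupOf p (T : Subgroup G) →
      b ∉ Subgroup.centralizer (omegaOneCenter p (pCoreOf p E) : Set G) →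
      ¬ ⁅⁅pCoreOf p E, Subgroup.zpowers b⁆, Subgroup.zpowers b⁆ ≤ E ⊓ Subgroup.centralizer (E : Set G)

/-- Facts on the two small types. -/
structure SmallKind (p : ℕ) (E : Subgroup G) : Prop where
  card : Nat.card ↥(mov p E) = p ^ 2
  disj : mov p E ⊓ Subgroup.centralizer (E : Set G) = ⊥
  faith : Faith E (mov p E) ⊥ (pCore p G)
  kind : (p = 2 ∧ Cube E (mov p E) ⊥ ∧ IsPGroup 3 ↥(bar p E)) ∨
    (p = 3 ∧ Quat E (mov p E) ⊥ ∧ IsPGroup 2 ↥(bar p E) ∧
      Noncomm E (mov p E) (Subgroup.centralizer (E : Set G)))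

/-- What is used about a subnormal block. -/
structure Shape (p : ℕ) (E : Subgroup G) : Prop where
  res : pResidualOf p E = E
  subn : E.IsSubnormal
  normR : pCore p G ≤ Subgroup.normalizer (E : Set G)
  sup : pResidualOf p (E ⊔ pCore p G) = E
  inter : pCoreOf p E = E ⊓ pCore p G
  QE : ⁅pCoreOf p E, E⁆ = pCoreOf p E
  movE : ⁅mov p E, E⁆ = mov p E
  movW : mov p E ≤ omegaOneCenter p (pCoreOf p E)
  irr : ∀ S : Subgroup G, S ≤ mov p E → E ≤ Subgroup.normalizer (S : Set G) →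
    S ≤ Subgroup.centralizer (E : Set G) ∨ S = mov p E
  ne : ¬ mov p E ≤ Subgroup.centralizer (E : Set G)
  kind : (Cfsg.IsQuasisimple ↥(bar p E) ∧ Noncomm E (mov p E) (Subgroup.centralizer (E : Set G))) ∨
    SmallKind p E
  qcase : pCoreOf p E = mov p E ∨ Exc p E

variable [Finite G] {p : ℕ} [hp : Fact p.Prime] {E : Subgroup G}

/-! ### The section models -/

omit [Finite G] hp in
theorem cube_transfer {U S Z : Subgroup G} (hZ : ∀ e ∈ E, ∀ z ∈ Z, e * z * e⁻¹ = z)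
    (hSn : E ≤ Subgroup.normalizer (S : Set G)) (hSU : S ≤ U) (hd : S ⊓ Z = ⊥)
    (hcov : ∀ u ∈ U, ∃ s ∈ S, s⁻¹ * u ∈ Z) (h : Cube E U Z) : Cube E S ⊥ := by
  refine ⟨fun e he s hs => ?_, ?_⟩
  · rw [← hd]
    refine Subgroup.mem_inf.2 ⟨mul_mem (inv_mem hs) ((Subgroup.mem_normalizer_iff.1 (hSn (mul_mem (mul_mem he he) he)) _).1 hs), ?_⟩
    exact h.1 e he s (hSU hs)
  · obtain ⟨g, hg, u, hu, hne⟩ := h.2
    obtain ⟨s, hs, hsu⟩ := hcov u hu
    refine ⟨g, hg, s, hs, fun hb => hne ?_⟩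
    rw [Subgroup.mem_bot, inv_mul_eq_one] at hb
    have e1 : g * u * g⁻¹ = u := by
      calc g * u * g⁻¹ = (g * s * g⁻¹) * (g * (s⁻¹ * u) * g⁻¹) := by group
        _ = s * (s⁻¹ * u) := by rw [← hb, hZ g hg _ hsu]
        _ = u := by group
    rw [e1, inv_mul_cancel]
    exact one_mem Z

omit [Finite G] hp in
theorem quat_transfer {U S Z : Subgroup G} (hZ : ∀ e ∈ E, ∀ z ∈ Z, e * z * e⁻¹ = z)
    (hSn : E ≤ Subgroup.normalizer (S : Set G)) (hSU : S ≤ U) (hd : S ⊓ Z = ⊥)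
    (hcov : ∀ u ∈ U, ∃ s ∈ S, s⁻¹ * u ∈ Z) (h : Quat E U Z) : Quat E S ⊥ := by
  have hn : ∀ e ∈ E, ∀ s ∈ S, e * s * e⁻¹ ∈ S := fun e he s hs =>
    (Subgroup.mem_normalizer_iff.1 (hSn he) _).1 hs
  have key : ∀ x : G, x ∈ S → x ∈ Z → x ∈ (⊥ : Subgroup G) := fun x h1 h2 => hd ▸ Subgroup.mem_inf.2 ⟨h1, h2⟩
  refine ⟨fun e he => ?_, fun s hs hs1 s' hs' hs'1 => ?_, ?_⟩
  · rcases h.1 e he with h1 | h1 | h1
    · exact Or.inl fun s hs => key _ (mul_mem (inv_mem hs) (hn e he s hs)) (h1 s (hSU hs))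
    · exact Or.inr (Or.inl fun s hs => key _ (mul_mem hs (hn e he s hs)) (h1 s (hSU hs)))
    · exact Or.inr (Or.inr fun s hs => key _ (mul_mem hs (hn _ (mul_mem he he) s hs)) (h1 s (hSU hs)))
  · obtain ⟨e, he, h1⟩ := h.2.1 s (hSU hs) (fun hz => hs1 (key s hs hz)) s' (hSU hs')
      (fun hz => hs'1 (key s' hs' hz))
    exact ⟨e, he, key _ (mul_mem (inv_mem hs') (hn e he s hs)) h1⟩
  · obtain ⟨g, hg, u, hu, hne⟩ := h.2.2
    obtain ⟨s, hs, hsu⟩ := hcov u hu
    refine ⟨g, hg, s, hs, fun hb => hne ?_⟩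
    rw [Subgroup.mem_bot, inv_mul_eq_one] at hb
    have e1 : (g * g) * u * (g * g)⁻¹ = u := by
      calc (g * g) * u * (g * g)⁻¹ = ((g * g) * s * (g * g)⁻¹) * ((g * g) * (s⁻¹ * u) * (g * g)⁻¹) := by group
        _ = s * (s⁻¹ * u) := by rw [← hb, hZ _ (mul_mem hg hg) _ hsu]
        _ = u := by group
    rw [e1, inv_mul_cancel]
    exact one_mem Z

omit [Finite G] hp in
theorem noncomm_transfer {U S : Subgroup G} (hcov : ∀ u ∈ U, ∃ s ∈ S, s⁻¹ * u ∈ U ⊓ Subgroup.centralizer (E : Set G))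
    (hEU : E ≤ Subgroup.normalizer (U : Set G)) (hSU : S ≤ U)
    (h : Noncomm E U (U ⊓ Subgroup.centralizer (E : Set G))) : Noncomm E S (Subgroup.centralizer (E : Set G)) := by
  obtain ⟨e₁, h₁, e₂, h₂, u, hu, hne⟩ := h
  obtain ⟨s, hs, hsu⟩ := hcov u hu
  refine ⟨e₁, h₁, e₂, h₂, s, hs, fun hc => hne ?_⟩
  have hz : ∀ e ∈ E, e * (s⁻¹ * u) * e⁻¹ = s⁻¹ * u := fun e he => by
    rw [Subgroup.mem_centralizer_iff.1 hsu.2 e he, mul_inv_cancel_right]
  have e1 : ∀ e ∈ E, e * u * e⁻¹ = (e * s * e⁻¹) * (s⁻¹ * u) := fun e he => by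
    conv_rhs => rw [← hz e he]
    group
  have hmem : actDiff e₁ e₂ u ∈ U := by
    refine mul_mem (inv_mem ?_) ?_ <;>
      exact (Subgroup.mem_normalizer_iff.1 (hEU (mul_mem (by assumption) (by assumption))) _).1 hu
  refine Subgroup.mem_inf.2 ⟨hmem, ?_⟩
  have e2 : actDiff e₁ e₂ u = (s⁻¹ * u)⁻¹ * actDiff e₁ e₂ s * (s⁻¹ * u) := by
    rw [actDiff, actDiff, e1 _ (mul_mem h₁ h₂), e1 _ (mul_mem h₂ h₁)]
    group
  rw [e2]
  exact mul_mem (mul_mem (inv_mem hsu.2) hc) hsu.2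

omit [Finite G] hp in
theorem section_card {U A : Subgroup G} {M : Type*} [Group M] (hAU : A ≤ U) (ψ : ↥U →* M)
    (hker : ∀ u : ↥U, ψ u = 1 ↔ (u : G) ∈ A) :
    A.relIndex U = Nat.card ↥ψ.range ∧ Nat.card U = Nat.card A * Nat.card ↥ψ.range := by
  have h : ψ.ker = A.subgroupOf U := by
    ext u
    exact hker u
  refine ⟨?_, ?_⟩
  · rw [Subgroup.relIndex, ← h, Subgroup.index_ker]
  · rw [← Subgroup.index_ker ψ, h, ← Subgroup.card_mul_index (A.subgroupOf U),
      Nat.card_congr (Subgroup.subgroupOfEquivOfLe hAU).toEquiv]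

/-- The kernel of a map onto a `p'`-group isomorphic to `E / O_p(E)`. -/
theorem ker_eq_pCore {H : Type*} [Group H] {K : Subgroup H} (ρ : ↥E →* H) (hρ : ρ.range = K)
    (iso : Nonempty (↥E ⧸ pCore p ↥E ≃* ↥K)) {k : ℕ} (hk : k.Coprime p) (hexp : ∀ x ∈ K, x ^ k = 1) :
    ρ.ker = pCore p ↥E := by
  obtain ⟨iso⟩ := iso
  have hle : pCore p ↥E ≤ ρ.ker := fun x hx => by
    obtain ⟨j, hj⟩ := Fusion.isPGroup_pCore p ↥E ⟨x, hx⟩
    have hj' : x ^ p ^ j = 1 := congrArg Subtype.val hj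
    have h1 : ρ x ^ p ^ j = 1 := by rw [← map_pow, hj', map_one]
    have h2 := Nat.dvd_gcd (orderOf_dvd_of_pow_eq_one (hexp _ (hρ ▸ ⟨x, rfl⟩)))
      (orderOf_dvd_of_pow_eq_one h1)
    rw [(hk.pow_right j).gcd_eq_one, Nat.dvd_one, orderOf_eq_one_iff] at h2
    exact h2
  refine (Subgroup.eq_of_le_of_card_ge hle ?_).symm
  have h3 := Subgroup.card_mul_index ρ.ker
  have h4 := Subgroup.card_mul_index (pCore p ↥E)
  rw [Subgroup.index_ker, hρ, ← Nat.card_congr iso.toEquiv, ← Subgroup.index] at h3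
  have h5 : 0 < (pCore p ↥E).index := Nat.pos_of_ne_zero Subgroup.index_ne_zero_of_finite
  exact le_of_eq (Nat.eq_of_mul_eq_mul_right h5 (h3.trans h4.symm))

section linear

variable {F : Type} [Field F] [Fintype F] {U A : Subgroup G}

local notation "SL2" => Matrix.SpecialLinearGroup (Fin 2) F

omit [Finite G] hp [Fintype F] in
theorem sl_ext {M : SL2} (h : ∀ v, (M : Matrix (Fin 2) (Fin 2) F).mulVec v = v) : M = 1 := by
  ext i j
  have := congrFun (h (Pi.single j 1)) i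
  rw [Matrix.mulVec_single_one, Matrix.col_apply] at this
  rw [this]
  by_cases hij : i = j
  · subst hij; simp
  · simp [hij]

omit [Finite G] hp in
/-- Reading facts about the section from the matrices. -/
theorem linear_facts (h : ActsAsSL2OnSection F (commutator SL2) E U A) :
    (3 ≤ Fintype.card F → Noncomm E U A) ∧
    (Fintype.card F = 3 → Quat E U A) ∧
    (Fintype.card F = 2 → Cube E U A) ∧
    Nat.card U = Nat.card A * Fintype.card F ^ 2 ∧ A.relIndex U = Fintype.card F ^ 2 ∧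
    ∀ k : ℕ, k.Coprime p → (∀ x ∈ commutator SL2, x ^ k = 1) → [Finite G] → [Fact p.Prime] →
      Nonempty (↥E ⧸ pCore p ↥E ≃* ↥(commutator SL2)) → Faith E U A (pCoreOf p E) := by
  obtain ⟨hn, hAU, ρ, ψ, hρ, hψ, hker, hact⟩ := h
  have hval : ∀ (e : ↥E) (u : ↥U) (w : ↥U), (w : G) = (e : G) * u * (e : G)⁻¹ →
      Multiplicative.toAdd (ψ w) =
        ((ρ e : SL2) : Matrix (Fin 2) (Fin 2) F).mulVec (Multiplicative.toAdd (ψ u)) := by
    intro e u w hw
    obtain ⟨w', hw', h'⟩ := hact e u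
    rwa [show w = w' from Subtype.ext (hw.trans hw'.symm)]
  have hmem : ∀ (x y : ↥U), ((x : G)⁻¹ * (y : G) ∈ A ↔
      Multiplicative.toAdd (ψ x) = Multiplicative.toAdd (ψ y)) := fun x y => by
    rw [← (Multiplicative.toAdd : Multiplicative (Fin 2 → F) ≃ (Fin 2 → F)).injective.eq_iff.symm,
      show (x : G)⁻¹ * (y : G) = ((x⁻¹ * y : ↥U) : G) from rfl, ← hker, map_mul, map_inv, inv_mul_eq_one]
  have hmem' : ∀ (x y : ↥U), ((x : G) * (y : G) ∈ A ↔
      Multiplicative.toAdd (ψ y) = - Multiplicative.toAdd (ψ x)) := fun x y => by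
    have := hmem x⁻¹ y
    rw [Subgroup.coe_inv, inv_inv, map_inv, toAdd_inv] at this
    rw [this, eq_comm]
  let cj : ↥E → ↥U → ↥U := fun e u =>
    ⟨(e : G) * u * (e : G)⁻¹, (Subgroup.mem_normalizer_iff.1 (hn e.2) _).1 u.2⟩
  have hcj : ∀ e u, Multiplicative.toAdd (ψ (cj e u)) =
      ((ρ e : SL2) : Matrix (Fin 2) (Fin 2) F).mulVec (Multiplicative.toAdd (ψ u)) := fun e u => hval e u _ rfl
  have hlift : ∀ v : Fin 2 → F, ∃ u : ↥U, Multiplicative.toAdd (ψ u) = v := fun v => by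
    obtain ⟨u, hu⟩ := hψ (Multiplicative.ofAdd v)
    exact ⟨u, by rw [hu]; rfl⟩
  have hM : ∀ M ∈ commutator SL2, ∃ e : ↥E, ρ e = M := fun M hM => by
    rw [← hρ] at hM; exact hM
  have hrange : Nat.card ↥ψ.range = Fintype.card F ^ 2 := by
    rw [MonoidHom.range_eq_top.2 hψ, Subgroup.card_top, Nat.card_eq_fintype_card,
      Fintype.card_multiplicative, Fintype.card_fun, Fintype.card_fin]
  obtain ⟨hidx, hcard⟩ := section_card hAU ψ hker
  refine ⟨fun h3 => ?_, fun h3 => ?_, fun h2 => ?_, hrange ▸ hcard, hrange ▸ hidx, ?_⟩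
  · obtain ⟨M, hM', N, hN', v, hv⟩ := sl2_noncommuting h3
    obtain ⟨e₁, h₁⟩ := hM M hM'
    obtain ⟨e₂, h₂⟩ := hM N hN'
    obtain ⟨u, hu⟩ := hlift v
    refine ⟨e₁, e₁.2, e₂, e₂.2, u, u.2, fun hd => hv ?_⟩
    have := (hmem (cj (e₁ * e₂) u) (cj (e₂ * e₁) u)).1 hd
    rw [hcj, hcj, map_mul, map_mul, h₁, h₂, hu, Matrix.SpecialLinearGroup.coe_mul,
      Matrix.SpecialLinearGroup.coe_mul, ← Matrix.mulVec_mulVec, ← Matrix.mulVec_mulVec] at this
    exact this
  · obtain ⟨hq, htr⟩ := three_facts h3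
    have hone : ∀ (e : ↥E), ((ρ e : SL2) : Matrix (Fin 2) (Fin 2) F) = 1 →
        ∀ u : ↥U, (u : G)⁻¹ * ((e : G) * u * (e : G)⁻¹) ∈ A := fun e he u =>
      (hmem u (cj e u)).2 (by rw [hcj, he, Matrix.one_mulVec])
    refine ⟨fun e he => ?_, fun u hu hu1 u' hu' hu'1 => ?_, ?_⟩
    · rcases hq (ρ ⟨e, he⟩) (hρ ▸ ⟨⟨e, he⟩, rfl⟩) with h1 | h1 | h1
      · exact Or.inl fun u hu => hone ⟨e, he⟩ h1 ⟨u, hu⟩
      · refine Or.inr (Or.inl fun u hu => (hmem' ⟨u, hu⟩ (cj ⟨e, he⟩ ⟨u, hu⟩)).2 ?_)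
        rw [hcj, h1, Matrix.neg_mulVec, Matrix.one_mulVec]
      · refine Or.inr (Or.inr fun u hu => (hmem' ⟨u, hu⟩ (cj (⟨e, he⟩ * ⟨e, he⟩) ⟨u, hu⟩)).2 ?_)
        rw [hcj, map_mul, Matrix.SpecialLinearGroup.coe_mul, h1, Matrix.neg_mulVec, Matrix.one_mulVec]
    · have hz : ∀ x : ↥U, (x : G) ∉ A → Multiplicative.toAdd (ψ x) ≠ 0 := fun x hx h0 =>
        hx ((hker x).1 (Multiplicative.toAdd.injective h0))
      obtain ⟨M, hM', hMv⟩ := htr _ _ (hz ⟨u, hu⟩ hu1) (hz ⟨u', hu'⟩ hu'1)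
      obtain ⟨e, rfl⟩ := hM M hM'
      exact ⟨e, e.2, (hmem ⟨u', hu'⟩ (cj e ⟨u, hu⟩)).2 (by rw [hcj, hMv])⟩
    · have hv : (![1, 0] : Fin 2 → F) ≠ 0 := fun h => one_ne_zero (congrFun h 0)
      have hw : (![0, 1] : Fin 2 → F) ≠ 0 := fun h => one_ne_zero (congrFun h 1)
      obtain ⟨M, hM', hMv⟩ := htr _ _ hv hw
      obtain ⟨u, hu⟩ := hlift ![1, 0]
      obtain ⟨e, rfl⟩ := hM M hM'
      refine ⟨e, e.2, u, u.2, fun hd => ?_⟩
      have := (hmem u (cj (e * e) u)).1 hd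
      rw [hcj, map_mul, Matrix.SpecialLinearGroup.coe_mul, hu] at this
      rcases hq (ρ e) hM' with h1 | h1 | h1
      · rw [h1, Matrix.one_mulVec] at hMv
        simpa using congrFun hMv 0
      · rw [h1, Matrix.neg_mulVec, Matrix.one_mulVec] at hMv
        simpa using congrFun hMv 0
      · rw [h1, Matrix.neg_mulVec, Matrix.one_mulVec] at this
        have h4 := congrFun this 0
        simp at h4
        have hdec : ¬ (1 : ZMod 3) = -1 := by decide
        have h5 := (ZMod.ringEquivOfPrime F Nat.prime_three h3).symm.map_neg (1 : F)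
        rw [← h4, map_one] at h5
        exact hdec h5
  · refine ⟨fun e he u hu => (hmem ⟨u, hu⟩ (cj (⟨e, he⟩ * ⟨e, he⟩ * ⟨e, he⟩) ⟨u, hu⟩)).2 ?_, ?_⟩
    · rw [hcj, map_mul, map_mul, mul_assoc, two_facts h2 _ (hρ ▸ ⟨⟨e, he⟩, rfl⟩)]
      simp
    · have hm : ⁅weylW (F := F), trU 1⁆ ∈ commutator SL2 :=
        Subgroup.commutator_mem_commutator (Subgroup.mem_top _) (Subgroup.mem_top _)
      obtain ⟨e, he⟩ := hM _ hm
      obtain ⟨u, hu⟩ := hlift ![0, 1]
      refine ⟨e, e.2, u, u.2, fun hd => ?_⟩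
      have := congrFun ((hmem u (cj e u)).1 hd) 0
      rw [hcj, he, hu, comm_mulVec] at this
      simp at this
  · intro k hk hexp _ _ iso e he htriv
    have h1 : ρ ⟨e, he⟩ = 1 := sl_ext fun v => by
      obtain ⟨u, rfl⟩ := hlift v
      exact ((hcj ⟨e, he⟩ u).symm.trans ((hmem u (cj ⟨e, he⟩ u)).1 (htriv u u.2)).symm)
    have h2 : (⟨e, he⟩ : ↥E) ∈ pCore p ↥E := by
      rw [← ker_eq_pCore ρ hρ iso hk hexp]
      exact h1
    exact ⟨_, h2, rfl⟩

end linear

omit [Finite G] hp in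
/-- Reading facts about the section from permutations. -/
theorem perm_facts {n : ℕ} (hn3 : 3 ≤ n) {U A : Subgroup G}
    (h : ActsAsOddPermModuleOnSection n (alternatingGroup (Fin n)) E U A) :
    (5 ≤ n → Noncomm E U A) ∧
    (n = 3 → Cube E U A ∧ Nat.card U = Nat.card A * 4 ∧
      ∀ [Finite G] [Fact p.Prime], p = 2 → Nonempty (↥E ⧸ pCore p ↥E ≃* ↥(alternatingGroup (Fin n))) →
        Faith E U A (pCoreOf p E)) := by
  obtain ⟨hn, hAU, ρ, ψ, hρ, hev, hψ, hker, hact⟩ := h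
  let cj : ↥E → ↥U → ↥U := fun e u =>
    ⟨(e : G) * u * (e : G)⁻¹, (Subgroup.mem_normalizer_iff.1 (hn e.2) _).1 u.2⟩
  have hcj : ∀ e u, Multiplicative.toAdd (ψ (cj e u)) =
      fun l => Multiplicative.toAdd (ψ u) ((ρ e)⁻¹ l) := fun e u => by
    obtain ⟨w, hw, hw'⟩ := hact e u
    rw [show cj e u = w from Subtype.ext hw.symm]
    exact funext hw'
  have hmem : ∀ (x y : ↥U), ((x : G)⁻¹ * (y : G) ∈ A ↔
      Multiplicative.toAdd (ψ x) = Multiplicative.toAdd (ψ y)) := fun x y => by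
    rw [← (Multiplicative.toAdd : Multiplicative (Fin n → ZMod 2) ≃ (Fin n → ZMod 2)).injective.eq_iff.symm,
      show (x : G)⁻¹ * (y : G) = ((x⁻¹ * y : ↥U) : G) from rfl, ← hker, map_mul, map_inv, inv_mul_eq_one]
  have hM : ∀ σ ∈ alternatingGroup (Fin n), ∃ e : ↥E, ρ e = σ := fun σ hσ => by
    rw [← hρ] at hσ; exact hσ
  refine ⟨fun h5 => ?_, fun h3 => ?_⟩
  · obtain ⟨σ, hσ, τ, hτ, hne⟩ := alt_noncommuting h5
    obtain ⟨e₁, rfl⟩ := hM σ hσ
    obtain ⟨e₂, rfl⟩ := hM τ hτ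
    obtain ⟨v, hv, hvd⟩ := perm_witness hn3 hne
    obtain ⟨u, rfl⟩ := hψ v hv
    refine ⟨e₁, e₁.2, e₂, e₂.2, u, u.2, fun hd => hvd ?_⟩
    have := (hmem (cj (e₁ * e₂) u) (cj (e₂ * e₁) u)).1 hd
    rw [hcj, hcj, map_mul, map_mul] at this
    exact this
  · subst h3
    refine ⟨⟨fun e he u hu => (hmem ⟨u, hu⟩ (cj (⟨e, he⟩ * ⟨e, he⟩ * ⟨e, he⟩) ⟨u, hu⟩)).2 ?_, ?_⟩, ?_, ?_⟩
    · rw [hcj, map_mul, map_mul, mul_assoc, alt_three_cube _ (hρ ▸ ⟨⟨e, he⟩, rfl⟩)]
      rfl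
    · have hσ : Equiv.swap (0 : Fin 3) 1 * Equiv.swap 1 2 ∈ alternatingGroup (Fin 3) := by
        rw [Equiv.Perm.mem_alternatingGroup]; decide
      obtain ⟨v, hv, hvd⟩ := perm_witness hn3
        (show Equiv.swap (0 : Fin 3) 1 * Equiv.swap 1 2 ≠ 1 by decide)
      obtain ⟨e, he⟩ := hM _ hσ
      obtain ⟨u, rfl⟩ := hψ v hv
      refine ⟨e, e.2, u, u.2, fun hd => hvd ?_⟩
      have := (hmem u (cj e u)).1 hd
      rw [hcj, he] at this
      rw [← this]
      simp
    · obtain ⟨-, hcard⟩ := section_card hAU ψ hker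
      rw [hcard]
      congr 1
      have h1 : Nat.card ↥ψ.range = Nat.card {v : Fin 3 → ZMod 2 // ∑ i, v i = 0} := by
        refine Nat.card_congr (Equiv.ofBijective
          (fun x => (⟨Multiplicative.toAdd x.1, by obtain ⟨u, hu⟩ := x.2; rw [← hu]; exact hev u⟩ :
            {v : Fin 3 → ZMod 2 // ∑ i, v i = 0})) ⟨fun x y hxy => ?_, fun v => ?_⟩)
        · have h' := congrArg Subtype.val hxy
          exact Subtype.ext (Multiplicative.toAdd.injective h')
        · obtain ⟨u, hu⟩ := hψ v.1 v.2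
          exact ⟨⟨ψ u, u, rfl⟩, Subtype.ext hu⟩
      rw [h1, Nat.card_eq_fintype_card]
      decide
    · intro _ _ hp2 iso e he htriv
      subst hp2
      have h1 : ρ ⟨e, he⟩ = 1 := by
        by_contra hne
        obtain ⟨v, hv, hvd⟩ := perm_witness hn3 hne
        obtain ⟨u, rfl⟩ := hψ v hv
        refine hvd ?_
        rw [← hcj, ← (hmem u (cj ⟨e, he⟩ u)).1 (htriv u u.2)]
        simp
      have h2 : (⟨e, he⟩ : ↥E) ∈ pCore 2 ↥E := by
        rw [← ker_eq_pCore ρ hρ iso (k := 3) (by decide) fun σ hσ => by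
          rw [pow_succ', pow_two]; exact alt_three_cube σ hσ]
        exact h1
      exact ⟨_, h2, rfl⟩

/-! ### Building the facts -/

omit [Finite G] hp in
theorem le_normalizer_sup {H A B : Subgroup G} (hA : H ≤ Subgroup.normalizer (A : Set G))
    (hB : H ≤ Subgroup.normalizer (B : Set G)) :
    H ≤ Subgroup.normalizer ((A ⊔ B : Subgroup G) : Set G) := Subgroup.le_normalizer_iff.2 fun h hh x hx => by
  have h1 : (A ⊔ B).map (MulAut.conj h).toMonoidHom ≤ A ⊔ B := by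
    rw [Subgroup.map_sup]
    refine sup_le_sup ?_ ?_ <;> rintro _ ⟨y, hy, rfl⟩
    · exact (Subgroup.mem_normalizer_iff.1 (hA hh) y).1 hy
    · exact (Subgroup.mem_normalizer_iff.1 (hB hh) y).1 hy
  exact h1 ⟨x, hx, rfl⟩

omit [Finite G] hp in
theorem mem_sup_abelian {A B : Subgroup G} (hc : ∀ a ∈ A, ∀ b ∈ B, b * a = a * b) {x : G}
    (hx : x ∈ A ⊔ B) : ∃ a ∈ A, ∃ b ∈ B, a * b = x := by
  have hn : B ≤ Subgroup.normalizer (A : Set G) := Subgroup.le_normalizer_iff.2 fun b hb a ha => by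
    rw [hc a ha b hb, mul_inv_cancel_right]; exact ha
  have h1 : x ∈ ((A ⊔ B : Subgroup G) : Set G) := hx
  rwa [Subgroup.coe_mul_of_right_le_normalizer_left _ _ hn] at h1

theorem subnormal_pCoreOf_le (hs : E.IsSubnormal) : pCoreOf p E ≤ pCore p G :=
  Perm.subnormal_pgroup_le_pCore ((inferInstance : (pCore p ↥E).Normal).isSubnormal.trans' hs)
    (Fusion.pCoreOf_isPGroup (p := p) E)

theorem exc_of (hG : Subgroup.centralizer (pCore p G : Set G) ≤ pCore p G) (T : Sylow p G)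
    (hE : IsBaumannBlock p (T : Subgroup G) E) (hs : E.IsSubnormal) (hp3 : p = 3)
    {F : Type} [Field F] [Fintype F] {n : ℕ} (hF : Fintype.card F = p ^ n)
    (hact : ActsAsSL2OnSection F (commutator (Matrix.SpecialLinearGroup (Fin 2) F)) E (pCoreOf p E)
      (omegaOneCenter p (pCoreOf p E)))
    (hzeq : ⁅pCoreOf p E, pCoreOf p E⁆ = omegaOneCenter p (pCoreOf p E) ⊓ Subgroup.centralizer (E : Set G))
    (hcent : E ⊓ Subgroup.centralizer (E : Set G) =
      omegaOneCenter p (pCoreOf p E) ⊓ Subgroup.centralizer (E : Set G))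
    (hzcard : Nat.card ↥(E ⊓ Subgroup.centralizer (E : Set G)) = 3 ^ n)
    (hcov : omegaOneCenter p (pCoreOf p E) ≤
      mov p E ⊔ omegaOneCenter p (pCoreOf p E) ⊓ Subgroup.centralizer (E : Set G))
    (hquad : ∃ T : Sylow p G, ⁅E, baumannSubgroupOf p (T : Subgroup G)⁆ = E ∧
      ∀ b : G, b ∈ baumannSubgroupOf p (T : Subgroup G) →
        b ∉ Subgroup.centralizer (omegaOneCenter p (pCoreOf p E) : Set G) →
        ¬ ⁅⁅pCoreOf p E, Subgroup.zpowers b⁆, Subgroup.zpowers b⁆ ≤ E ⊓ Subgroup.centralizer (E : Set G))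
    (hsmall : IsPGroup 2 ↥(bar p E) → Quat E (pCoreOf p E) (omegaOneCenter p (pCoreOf p E)) ∧
      Faith E (pCoreOf p E) (omegaOneCenter p (pCoreOf p E)) (pCore p G) ∧
      (omegaOneCenter p (pCoreOf p E)).relIndex (pCoreOf p E) = 9) : Exc p E := by
  obtain ⟨hWn, -, -⟩ := block_section hE
  haveI hRn : (pCore p G).Normal := inferInstance
  set R := pCore p G with hR
  set Q := pCoreOf p E with hQ
  set W := omegaOneCenter p Q with hW
  have hn0 : n ≠ 0 := fun h => by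
    have := Fintype.one_lt_card (α := F)
    rw [hF, h, pow_zero] at this
    omega
  have h3F : 3 ≤ Fintype.card F := by
    rw [hF, hp3]
    exact Nat.le_self_pow hn0 3
  obtain ⟨hwit, -, -, -, hidx, -⟩ := linear_facts (p := p) hact
  obtain ⟨hn, hWQ, ρ, ψ, hρ, hψ, hker, hact'⟩ := hact
  have hirrQ : ∀ S : Subgroup G, W ≤ S → S ≤ Q → E ≤ Subgroup.normalizer (S : Set G) → S = W ∨ S = Q :=
    section_dichotomy hWQ ψ
      (fun e v => ((ρ e : Matrix.SpecialLinearGroup (Fin 2) F) : Matrix (Fin 2) (Fin 2) F).mulVec v)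
      hker hact' fun S hS _ => by
        refine (sl2_irred S fun M hM v hv => ?_).imp_right fun h u => h _
        obtain ⟨e, rfl⟩ : M ∈ ρ.range := hρ ▸ hM
        exact hS e v hv
  have hne : W ≠ Q := fun h => by
    rw [h, Subgroup.relIndex_self] at hidx
    have : 3 ^ 2 ≤ Fintype.card F ^ 2 := Nat.pow_le_pow_left h3F 2
    omega
  have hzne : ⁅Q, Q⁆ ≠ ⊥ := fun h => by
    rw [hzeq, ← hcent] at h
    rw [h, Subgroup.card_bot] at hzcard
    exact absurd hzcard.symm (Nat.one_lt_pow hn0 (by norm_num)).ne'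
  have hRp : IsPGroup p ↥R := Fusion.isPGroup_pCore p G
  have hnR : R ≤ Subgroup.normalizer (E : Set G) := normal_le_normalizer T hE hRp
  have hEnR : E ≤ Subgroup.normalizer (R : Set G) := Subgroup.normalizer_eq_top (H := R) ▸ le_top
  have hQR : Q ≤ R := subnormal_pCoreOf_le hs
  have hQc : ∀ r ∈ R, ∀ x ∈ Q, r * x * r⁻¹ ∈ Q := fun r hr x hx => by
    have h1 : ⁅r, x⁆ ∈ Q := commutator_le_pCoreOf hRp hEnR hnR
      (Subgroup.commutator_mem_commutator hr (Block.pCoreOf_le E hx))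
    simpa [commutatorElement_def, mul_assoc] using mul_mem h1 hx
  have hWc : ∀ w ∈ W, ∀ x ∈ Q, x * w = w * x := fun w hw x hx =>
    Subgroup.mem_centralizer_iff.1 (omegaOneCenter_props hw).2.1 x hx
  have hWr : ∀ r ∈ R, ∀ w ∈ W, r * w * r⁻¹ ∈ W := fun r hr w hw => by
    obtain ⟨h1, h2, h3⟩ := omegaOneCenter_props hw
    refine mem_omegaOneCenter (hQc r hr w h1) (Subgroup.mem_centralizer_iff.2 fun y hy => ?_)
      (by rw [conj_pow, h3, mul_one, mul_inv_cancel])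
    have h4 := Subgroup.mem_centralizer_iff.1 h2 (r⁻¹ * y * r) (by simpa using hQc r⁻¹ (inv_mem hr) y hy)
    calc y * (r * w * r⁻¹) = r * ((r⁻¹ * y * r) * w) * r⁻¹ := by group
      _ = r * (w * (r⁻¹ * y * r)) * r⁻¹ := by rw [h4]
      _ = r * w * r⁻¹ * y := by group
  -- `R` centralises `Q / W`
  let S : Subgroup G :=
    { carrier := {x | x ∈ Q ∧ ∀ r ∈ R, x⁻¹ * (r * x * r⁻¹) ∈ W}
      one_mem' := ⟨one_mem Q, fun r _ => by simp⟩
      mul_mem' := by
        rintro a b ⟨ha, ha'⟩ ⟨hb, hb'⟩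
        refine ⟨mul_mem ha hb, fun r hr => ?_⟩
        have e1 : (a * b)⁻¹ * (r * (a * b) * r⁻¹) = b⁻¹ * (a⁻¹ * (r * a * r⁻¹)) * (r * b * r⁻¹) := by group
        rw [e1, hWc _ (ha' r hr) _ (inv_mem hb), mul_assoc]
        exact mul_mem (ha' r hr) (hb' r hr)
      inv_mem' := by
        rintro a ⟨ha, ha'⟩
        refine ⟨inv_mem ha, fun r hr => ?_⟩
        have e1 : a⁻¹⁻¹ * (r * a⁻¹ * r⁻¹) = a * (a⁻¹ * (r * a * r⁻¹))⁻¹ * a⁻¹ := by group
        rw [e1, hWc _ (inv_mem (ha' r hr)) _ ha, mul_inv_cancel_right]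
        exact inv_mem (ha' r hr) }
  have hSQ : S = Q := by
    refine (hirrQ S (fun w hw => ⟨hWQ hw, fun r hr => mul_mem (inv_mem hw) (hWr r hr w hw)⟩)
      (fun x hx => hx.1) ?_).resolve_left ?_
    · refine Subgroup.le_normalizer_iff.2 fun e he x hx => ?_
      refine ⟨(Subgroup.mem_normalizer_iff.1 (hn he) x).1 hx.1, fun r hr => ?_⟩
      have hr' : e⁻¹ * r * e ∈ R := by simpa using hRn.conj_mem r hr e⁻¹
      have e1 : (e * x * e⁻¹)⁻¹ * (r * (e * x * e⁻¹) * r⁻¹) =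
          e * (x⁻¹ * ((e⁻¹ * r * e) * x * (e⁻¹ * r * e)⁻¹)) * e⁻¹ := by group
      rw [e1]
      exact (Subgroup.mem_normalizer_iff.1 (hWn he) _).1 (hx.2 _ hr')
    · intro hS
      obtain ⟨x, hx, hxW, hfix⟩ := fixed_mod hRp (hRp.to_le hQR) (lt_of_le_of_ne hWQ hne)
        (Subgroup.le_normalizer_iff.2 hQc)
      refine hxW (hS ▸ ⟨hx, fun r hr => ?_⟩)
      have := hfix r hr
      rw [commutatorElement_def] at this
      have e1 : x⁻¹ * (r * x * r⁻¹) = x⁻¹ * (r * x * r⁻¹ * x⁻¹) * x := by group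
      rw [e1, hWc _ this _ (inv_mem hx), inv_mul_cancel_right]
      exact this
  have hWV : W ≤ vSub p G := by
    refine hcov.trans (sup_le ?_ ?_)
    · haveI : (vSub p G).Normal := vSub_normal
      exact Subgroup.commutator_le_left _ _
    · intro z hz
      obtain ⟨h1, -, h3⟩ := omegaOneCenter_props hz.1
      have hzR : z ∈ Subgroup.centralizer (R : Set G) := by
        rw [← hzeq] at hz
        refine (Subgroup.commutator_le.2 fun a ha b hb => Subgroup.mem_centralizer_iff.2 fun r hr => ?_) hz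
        have hc : r * ⁅a, b⁆ * r⁻¹ = ⁅a, b⁆ := by
          set w := a⁻¹ * (r * a * r⁻¹) with hw
          set w' := b⁻¹ * (r * b * r⁻¹) with hw'
          have hwW : w ∈ W := ((hSQ.symm ▸ ha : a ∈ S)).2 r hr
          have hw'W : w' ∈ W := ((hSQ.symm ▸ hb : b ∈ S)).2 r hr
          calc r * ⁅a, b⁆ * r⁻¹ = ⁅a * w, b * w'⁆ := by
                rw [hw, hw', mul_inv_cancel_left, mul_inv_cancel_left, commutatorElement_def,
                  commutatorElement_def]; group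
            _ = a * (w * b) * (w' * w⁻¹) * a⁻¹ * (w'⁻¹ * b⁻¹) := by rw [commutatorElement_def]; group
            _ = a * b * (w * w' * w⁻¹) * a⁻¹ * (w'⁻¹ * b⁻¹) := by
                rw [← hWc w hwW b hb]; group
            _ = a * b * (w' * a⁻¹) * (w'⁻¹ * b⁻¹) := by
                rw [omega_comm _ hwW _ hw'W, mul_inv_cancel_right]; group
            _ = _ := by rw [← hWc w' hw'W a⁻¹ (inv_mem ha), commutatorElement_def]; group
        calc r * ⁅a, b⁆ = r * ⁅a, b⁆ * r⁻¹ * r := by group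
          _ = ⁅a, b⁆ * r := by rw [hc]
      exact mem_omegaOneCenter (hQR h1) hzR h3
  exact ⟨hp3, hWV, hcov, hWn, hzeq, hzne, hcent, hirrQ, hne, hwit h3F, hsmall, hquad⟩

theorem shape_of_block (hG : Subgroup.centralizer (pCore p G : Set G) ≤ pCore p G) (T : Sylow p G)
    (hE : IsBaumannBlock p (T : Subgroup G) E) (hs : E.IsSubnormal) : Shape p E := by
  obtain ⟨hsup, hWV, -⟩ := S2984.result hG T E hE
  obtain ⟨hWn, hnc, hirr⟩ := block_section hE
  obtain ⟨hres, hEB, hQE, hΩ, hcase⟩ := hE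
  have hE' : IsBaumannBlock p (T : Subgroup G) E := ⟨hres, hEB, hQE, hΩ, hcase⟩
  haveI hRn : (pCore p G).Normal := inferInstance
  have hRp : IsPGroup p ↥(pCore p G) := Fusion.isPGroup_pCore p G
  set R := pCore p G with hR
  set Q := pCoreOf p E with hQ
  set W := omegaOneCenter p Q with hW
  set Z := W ⊓ Subgroup.centralizer (E : Set G) with hZ
  haveI hVn : (vSub p G).Normal := vSub_normal
  have hnR : R ≤ Subgroup.normalizer (E : Set G) := normal_le_normalizer T hE' hRp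
  have hEnR : E ≤ Subgroup.normalizer (R : Set G) := Subgroup.normalizer_eq_top (H := R) ▸ le_top
  have hEnV : E ≤ Subgroup.normalizer (vSub p G : Set G) :=
    Subgroup.normalizer_eq_top (H := vSub p G) ▸ le_top
  have hQR : Q ≤ R := subnormal_pCoreOf_le hs
  have hinter : Q = E ⊓ R :=
    le_antisymm (le_inf (Block.pCoreOf_le E) hQR)
      (Fusion.le_pCoreOf inf_le_left (le_normalizer_inf Subgroup.le_normalizer hEnR) (hRp.to_le inf_le_right))
  have hQp : IsPGroup p ↥Q := hRp.to_le hQR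
  have hWQ : W ≤ Q := fun x hx => (omegaOneCenter_props hx).1
  have hWp : IsPGroup p ↥W := isPGroup_omegaOneCenter _
  have hVE : mov p E ≤ W := Subgroup.commutator_le.2 fun v hv e he => by
    obtain ⟨h1, h2, -⟩ := omegaOneCenter_props hv
    have hcV : ⁅v, e⁆ ∈ vSub p G := (comm_mem hv (hEnV he)).1
    have hcE : ⁅v, e⁆ ∈ E := (comm_mem he (hnR h1)).2
    obtain ⟨h3, h4, h5⟩ := omegaOneCenter_props hcV
    refine mem_omegaOneCenter (hinter.symm ▸ Subgroup.mem_inf.2 ⟨hcE, h3⟩) ?_ h5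
    exact Subgroup.centralizer_le hQR h4
  have hmovE : ⁅mov p E, E⁆ = mov p E :=
    comm_comm_eq hres (isPGroup_omegaOneCenter _) omega_comm hEnV
  have hmov : mov p E = ⁅W, E⁆ := by
    refine le_antisymm ?_ ?_
    · rw [← hmovE]
      exact Subgroup.commutator_mono hVE le_rfl
    · rw [← comm_comm_eq hres hWp omega_comm hWn]
      exact Subgroup.commutator_mono hWV le_rfl
  have hmovn : E ≤ Subgroup.normalizer (mov p E : Set G) := Subgroup.normalizer_commutator_ge_right _ _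
  have hne : ¬ mov p E ≤ Subgroup.centralizer (E : Set G) := fun h => by
    have h1 : ⁅mov p E, E⁆ = ⊥ := Subgroup.commutator_eq_bot_iff_le_centralizer.2 h
    rw [hmovE, hmov, Subgroup.commutator_eq_bot_iff_le_centralizer] at h1
    exact hnc h1
  have hZn : E ≤ Subgroup.normalizer (Z : Set G) := le_normalizer_inf hWn
    (Subgroup.le_normalizer_iff.2 fun e he x hx => by
      rw [Subgroup.mem_centralizer_iff.1 hx e he, mul_inv_cancel_right]; exact hx)
  have hirr' : ∀ S : Subgroup G, S ≤ mov p E → E ≤ Subgroup.normalizer (S : Set G) →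
      S ≤ Subgroup.centralizer (E : Set G) ∨ S = mov p E := by
    intro S hS hSn
    rcases hirr (S ⊔ Z) le_sup_right (sup_le (hS.trans hVE) inf_le_left)
      (le_normalizer_sup hSn hZn) with h | h
    · exact Or.inl ((le_sup_left.trans_eq h).trans inf_le_right)
    · refine Or.inr (le_antisymm hS ?_)
      rw [hmov, ← h]
      refine (Subgroup.commutator_le.2 fun x hx e he => ?_)
      obtain ⟨s, hs', z, hz, rfl⟩ := mem_sup_abelian (A := S) (B := Z)
        (fun a ha b hb => omega_comm _ hb.1 _ (hVE (hS ha))) hx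
      have hze : z * e = e * z := (Subgroup.mem_centralizer_iff.1 hz.2 e he).symm
      have e1 : ⁅s * z, e⁆ = ⁅s, e⁆ := by
        calc ⁅s * z, e⁆ = s * (z * e) * z⁻¹ * s⁻¹ * e⁻¹ := by simp [commutatorElement_def]; group
          _ = _ := by rw [hze, commutatorElement_def]; group
      rw [e1]
      exact (comm_mem hs' (hSn he)).1
  -- the cover `W = [W, E] C_W(E)`
  have hcov : W ≤ mov p E ⊔ Z := by
    rcases hirr (mov p E ⊔ Z) le_sup_right (sup_le hVE inf_le_left) (le_normalizer_sup hmovn hZn) with h | h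
    · exact absurd ((le_sup_left.trans_eq h).trans inf_le_right) hne
    · exact h.ge
  have hcov' : ∀ w ∈ W, ∃ s ∈ mov p E, s⁻¹ * w ∈ Z := by
    intro w hw
    obtain ⟨s, hs', z, hz, rfl⟩ := mem_sup_abelian (A := mov p E) (B := Z)
      (fun a ha b hb => omega_comm _ hb.1 _ (hVE ha)) (hcov hw)
    exact ⟨s, hs', by rwa [inv_mul_cancel_left]⟩
  have hQn : (Q.subgroupOf E).Normal := (Subgroup.normal_subgroupOf_iff_le_normalizer (Block.pCoreOf_le E)).2
    (by show E ≤ Subgroup.normalizer (Q : Set G); rw [hinter]; exact le_normalizer_inf Subgroup.le_normalizer hEnR)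
  have hQsub : Q.subgroupOf E = pCore p ↥E := Subgroup.comap_map_eq_self_of_injective E.subtype_injective _
  have hkerπ : ((QuotientGroup.mk' R).comp E.subtype).ker = pCore p ↥E := by
    rw [← hQsub]
    ext x
    simp [hinter, Subgroup.mem_subgroupOf]
  have hbar : Nonempty (↥E ⧸ pCore p ↥E ≃* ↥(bar p E)) := by
    refine ⟨((QuotientGroup.quotientMulEquivOfEq hkerπ.symm).trans
      (QuotientGroup.quotientKerEquivRange _)).trans (MulEquiv.subgroupCongr ?_)⟩
    rw [MonoidHom.range_eq_map, ← Subgroup.map_map, ← MonoidHom.range_eq_map, Subgroup.range_subtype]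
  obtain ⟨ebar⟩ := hbar
  have hfix : ∀ q : ℕ, [Fact q.Prime] → IsPGroup q ↥(bar p E) → q ≠ p →
      mov p E ⊓ Subgroup.centralizer (E : Set G) = ⊥ := by
    intro q _ hq hqp
    rw [Subgroup.eq_bot_iff_forall]
    rintro z ⟨hz, hzc⟩
    obtain ⟨k, hk⟩ := hq.exists_card_eq
    refine fixed_comm_eq_one (E := E) (W := W) (Q := Q) (Block.pCoreOf_le E) hQn hWn omega_comm
      (fun a ha w hw => Subgroup.mem_centralizer_iff.1 (omegaOneCenter_props hw).2.1 a ha) ?_
      (hmov ▸ hz) (fun e he => Subgroup.mem_centralizer_iff.1 hzc e he) (omegaOneCenter_props (hVE hz)).2.2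
    rw [Subgroup.relIndex, hQsub, Subgroup.index, Nat.card_congr ebar.toEquiv, hk]
    exact Nat.Coprime.pow_left k ((Nat.coprime_primes (Fact.out) hp.out).2 hqp)
  have hcardmov : ∀ c : ℕ, mov p E ⊓ Subgroup.centralizer (E : Set G) = ⊥ → Nat.card W = Nat.card Z * c →
      Nat.card ↥(mov p E) = c := by
    intro c hd hc
    have h1 : Nat.card ↥(mov p E) * Nat.card Z = Nat.card W := by
      rw [← Nat.card_prod]
      refine Nat.card_eq_of_bijective
        (fun x : ↥(mov p E) × ↥Z => (⟨(x.1 : G) * x.2, mul_mem (hVE x.1.2) x.2.2.1⟩ : ↥W)) ⟨?_, ?_⟩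
      · rintro ⟨a, b⟩ ⟨a', b'⟩ h
        have h' : (a : G) * b = a' * b' := congrArg Subtype.val h
        have h2 : (a' : G)⁻¹ * a = b' * (b : G)⁻¹ := by
          rw [inv_mul_eq_iff_eq_mul, ← mul_assoc, eq_mul_inv_iff_mul_eq]; exact h'
        have h3 : (a' : G)⁻¹ * a ∈ mov p E ⊓ Subgroup.centralizer (E : Set G) :=
          Subgroup.mem_inf.2 ⟨mul_mem (inv_mem a'.2) a.2, h2 ▸ mul_mem b'.2.2 (inv_mem b.2.2)⟩
        rw [hd, Subgroup.mem_bot] at h3
        have ha : (a : G) = a' := (inv_mul_eq_one.1 h3).symm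
        rw [ha] at h'
        exact Prod.ext (Subtype.ext ha) (Subtype.ext (mul_left_cancel h'))
      · rintro ⟨w, hw⟩
        obtain ⟨s, hs', hz⟩ := hcov' w hw
        exact ⟨(⟨s, hs'⟩, ⟨_, hz⟩), Subtype.ext (mul_inv_cancel_left s w)⟩
    rw [hc, mul_comm] at h1
    exact Nat.eq_of_mul_eq_mul_left Nat.card_pos h1
  have hZc : ∀ e ∈ E, ∀ z ∈ Z, e * z * e⁻¹ = z := fun e he z hz => by
    rw [Subgroup.mem_centralizer_iff.1 hz.2 e he, mul_inv_cancel_right]
  have hdZ : mov p E ⊓ Subgroup.centralizer (E : Set G) = ⊥ → mov p E ⊓ Z = ⊥ := fun h =>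
    le_bot_iff.1 (h ▸ inf_le_inf_left _ inf_le_right)
  have hnct : Noncomm E W Z → Noncomm E (mov p E) (Subgroup.centralizer (E : Set G)) :=
    noncomm_transfer hcov' hWn hVE
  have hft : Faith E W Z Q → Faith E (mov p E) ⊥ R := by
    intro hf e he h
    refine hQR (hf e he fun w hw => ?_)
    obtain ⟨s, hs', hz⟩ := hcov' w hw
    have h1 : e * s * e⁻¹ = s := by
      have := h s hs'
      rw [Subgroup.mem_bot, inv_mul_eq_one] at this
      exact this.symm
    have e1 : e * w * e⁻¹ = w := by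
      calc e * w * e⁻¹ = (e * s * e⁻¹) * (e * (s⁻¹ * w) * e⁻¹) := by group
        _ = w := by rw [h1, hZc e he _ hz, mul_inv_cancel_left]
    rw [e1, inv_mul_cancel]
    exact one_mem Z
  have hplain : Q = W → Q = mov p E := fun h => by rw [← hQE, h, hmov]
  rcases hcase with ⟨F, _, _, n, hF, ⟨iso⟩, hact, hrest⟩ | ⟨hp2, m, ⟨iso⟩, hact, hQW⟩
  · obtain ⟨hwit, hquat, hcube, hWcard, -, hfaith⟩ := linear_facts (p := p) hact
    set K := commutator (Matrix.SpecialLinearGroup (Fin 2) F) with hK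
    by_cases h4 : 4 ≤ Fintype.card F
    · -- the large case
      obtain ⟨htop, hqs⟩ := sl2_quasisimple h4
      have hqb : Cfsg.IsQuasisimple ↥(bar p E) := Local.isQuasisimple_congr
        (((MulEquiv.subgroupCongr htop).trans Subgroup.topEquiv).symm.trans (iso.symm.trans ebar)) hqs
      refine ⟨hres, hs, hnR, hsup, hinter, hQE, hmovE, hVE, hirr', hne,
        Or.inl ⟨hqb, hnct (hwit (by omega))⟩, ?_⟩
      rcases hrest with h | ⟨hp3, hact', hzeq, hfr, hcent, hzcard, hquad⟩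
      · exact Or.inl (hplain h)
      refine Or.inr (exc_of hG T hE' hs hp3 hF hact' hzeq hcent hzcard hcov ⟨T, hEB, hquad⟩ ?_)
      intro h2
      exfalso
      haveI : Group.IsNilpotent ↥(bar p E) := h2.isNilpotent
      haveI := Solv.qs_nontrivial hqb
      haveI := hqb.1
      exact Group.IsPerfect.not_isSolvable (G := ↥(bar p E)) inferInstance
    · have hc2 : Fintype.card F = 2 ∨ Fintype.card F = 3 := by
        have := Fintype.one_lt_card (α := F); omega
      have hn1 : Fintype.card F = p := by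
        have h1 : n ≠ 0 := fun h => by
          have := Fintype.one_lt_card (α := F); rw [hF, h, pow_zero] at this; omega
        have h2 : (Fintype.card F).Prime := by
          rcases hc2 with h | h <;> rw [h] <;> norm_num
        rw [hF] at h2 ⊢
        rw [Nat.Prime.eq_one_of_pow h2, pow_one]
      rcases hc2 with hc | hc
      · have hp2 : p = 2 := hn1.symm.trans hc
        have hexp : ∀ x ∈ K, x ^ 3 = 1 := fun x hx => by
          rw [pow_succ', pow_two]; exact two_facts hc x hx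
        have h3g : IsPGroup 3 ↥(bar p E) := by
          refine IsPGroup.of_equiv ?_ (iso.symm.trans ebar)
          exact fun x => ⟨1, Subtype.ext (by simpa using hexp x x.2)⟩
        haveI : Fact (Nat.Prime 3) := ⟨Nat.prime_three⟩
        have hd := hfix 3 h3g (by omega)
        refine ⟨hres, hs, hnR, hsup, hinter, hQE, hmovE, hVE, hirr', hne, Or.inr ⟨?_, hd,
          hft (hfaith 3 (by subst hp2; decide) hexp ⟨iso⟩),
          Or.inl ⟨hp2, cube_transfer hZc hmovn hVE (hdZ hd) hcov' (hcube hc), h3g⟩⟩, ?_⟩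
        · exact hcardmov _ hd (by rw [← hn1]; exact hWcard)
        · exact Or.inl (hplain (hrest.resolve_right fun h => by omega))
      · have hp3 : p = 3 := hn1.symm.trans hc
        have hexp : ∀ x ∈ K, x ^ 4 = 1 := fun x hx => by
          refine Subtype.ext ?_
          rw [Matrix.SpecialLinearGroup.coe_pow, Matrix.SpecialLinearGroup.coe_one,
            show (4 : ℕ) = 2 * 2 from rfl, pow_mul]
          rcases (three_facts hc).1 x hx with h | h | h
          · simp [h]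
          · simp [h]
          · rw [← sq] at h; rw [h]; simp
        have h2g : IsPGroup 2 ↥(bar p E) := by
          refine IsPGroup.of_equiv ?_ (iso.symm.trans ebar)
          exact fun x => ⟨2, Subtype.ext (by simpa using hexp x x.2)⟩
        haveI : Fact (Nat.Prime 2) := ⟨Nat.prime_two⟩
        have hd := hfix 2 h2g (by omega)
        refine ⟨hres, hs, hnR, hsup, hinter, hQE, hmovE, hVE, hirr', hne, Or.inr ⟨?_, hd,
          hft (hfaith 4 (by subst hp3; decide) hexp ⟨iso⟩),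
          Or.inr ⟨hp3, quat_transfer hZc hmovn hVE (hdZ hd) hcov' (hquat hc), h2g,
            hnct (hwit (by omega))⟩⟩, ?_⟩
        · exact hcardmov _ hd (by rw [← hn1]; exact hWcard)
        · rcases hrest with h | ⟨-, hact', hzeq, hfr, hcent, hzcard, hquad⟩
          · exact Or.inl (hplain h)
          refine Or.inr (exc_of hG T hE' hs hp3 hF hact' hzeq hcent hzcard hcov ⟨T, hEB, hquad⟩ ?_)
          intro _
          obtain ⟨-, hquat', -, -, hidx, hfaith'⟩ := linear_facts (p := p) hact'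
          refine ⟨hquat' hc, fun e he h => hQR (hfaith' 4 (by subst hp3; decide) hexp ⟨iso⟩ e he h), ?_⟩
          rw [hidx, hc]
          norm_num
  · subst hp2
    have hm0 : m ≠ 0 := by
      rintro rfl
      obtain ⟨-, -, ρ, ψ, -, hev, -, hker, -⟩ := hact
      refine hnc fun u hu => ((hker ⟨u, hu⟩).1 ?_).2
      refine Multiplicative.toAdd.injective (funext fun i => ?_)
      have := hev ⟨u, hu⟩
      haveI hsub : Subsingleton (Fin (2 * 0 + 1)) := ⟨fun a b => Fin.ext (by omega)⟩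
      rw [Fintype.sum_subsingleton _ i] at this
      simpa using this
    obtain ⟨hwit, hthree⟩ := perm_facts (p := 2) (show 3 ≤ 2 * m + 1 by omega) hact
    by_cases hm : m = 1
    · subst hm
      obtain ⟨hcube, hWcard, hfaith⟩ := hthree rfl
      have h3g : IsPGroup 3 ↥(bar 2 E) := by
        refine IsPGroup.of_equiv ?_ (iso.symm.trans ebar)
        exact fun x => ⟨1, Subtype.ext (by
          show (x : Equiv.Perm (Fin 3)) ^ (3 ^ 1) = 1
          rw [pow_one, pow_succ', pow_two]; exact alt_three_cube _ x.2)⟩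
      haveI : Fact (Nat.Prime 3) := ⟨Nat.prime_three⟩
      have hd := hfix 3 h3g (by omega)
      refine ⟨hres, hs, hnR, hsup, hinter, hQE, hmovE, hVE, hirr', hne, Or.inr ⟨?_, hd,
        hft (hfaith rfl ⟨iso⟩),
        Or.inl ⟨rfl, cube_transfer hZc hmovn hVE (hdZ hd) hcov' hcube, h3g⟩⟩, Or.inl (hplain hQW)⟩
      exact hcardmov _ hd hWcard
    · refine ⟨hres, hs, hnR, hsup, hinter, hQE, hmovE, hVE, hirr', hne,
        Or.inl ⟨?_, hnct (hwit (by omega))⟩, Or.inl (hplain hQW)⟩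
      exact Local.isQuasisimple_congr (iso.symm.trans ebar) (alt_quasisimple (by omega))

end Cfsg.Agent.LocalEven.SubnBlock
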