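import Cfsg.Agent.Lib.LocalEven.Subnormal.Levels

/-!
An exceptional small block admits no element centralising `[V, E]` and inverting `Q / W`.
-/

set_option autoImplicit false

open scoped commutatorElement

namespace Cfsg.Agent.LocalEven.SubnBlock

open Cfsg Cfsg.Agent.Fusion Cfsg.Agent.LocalEven.Block

variable {G : Type*} [Group G] [Finite G] {p : ℕ} [hp : Fact p.Prime] {E F : Subgroup G}

omit [Finite G] in
theorem le_normalizer_of_conj {H X : Subgroup G} (h : ∀ g ∈ H, ∀ x ∈ X, g * x * g⁻¹ ∈ X) :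
    H ≤ Subgroup.normalizer (X : Set G) := fun g hg =>
  Subgroup.mem_normalizer_iff.2 fun x => ⟨h g hg x, fun hx => by
    simpa [mul_assoc] using h g⁻¹ (inv_mem hg) _ hx⟩

omit [Finite G] in
theorem mem_normalizer_pCore (g : G) : g ∈ Subgroup.normalizer (pCore p G : Set G) := by
  rw [Subgroup.normalizer_eq_top]; trivial

/-! ### General facts on a subnormal block -/

omit [Finite G] hp in
theorem mov_le (E : Subgroup G) : mov p E ≤ vSub p G :=
  haveI := vSub_normal (p := p) (G := G)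
  Subgroup.commutator_le_left _ _

omit [Finite G] hp in
theorem mov_normalizer (E : Subgroup G) : E ≤ Subgroup.normalizer (mov p E : Set G) :=
  Subgroup.normalizer_commutator_ge_right _ _

omit [Finite G] hp in
theorem vSub_fixed {r v : G} (hr : r ∈ pCore p G) (hv : v ∈ vSub p G) : r * v = v * r :=
  Subgroup.mem_centralizer_iff.1 (omegaOneCenter_props hv).2.1 r hr

namespace Shape

theorem Q_le (hs : Shape p E) : pCoreOf p E ≤ pCore p G := by rw [hs.inter]; exact inf_le_right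

theorem Q_normalizer (hs : Shape p E) : E ≤ Subgroup.normalizer (pCoreOf p E : Set G) := by
  rw [hs.inter]
  exact le_normalizer_inf Subgroup.le_normalizer fun g _ => mem_normalizer_pCore g

theorem R_normalizer (hs : Shape p E) : pCore p G ≤ Subgroup.normalizer (pCoreOf p E : Set G) := by
  rw [hs.inter]
  exact le_normalizer_inf hs.normR fun g _ => mem_normalizer_pCore g

theorem comm_mem_Q (hs : Shape p E) {e r : G} (he : e ∈ E) (hr : r ∈ pCore p G) :
    ⁅e, r⁆ ∈ pCoreOf p E := by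
  rw [hs.inter]
  exact Subgroup.mem_inf.2 ⟨(comm_mem he (hs.normR hr)).1, (comm_mem hr (mem_normalizer_pCore e)).2⟩

/-- What commutes with `E` modulo `O_p(G)` normalises `E`. -/
theorem normalize_of_commute (hs : Shape p E) {g : G}
    (h : ∀ a ∈ bar p E, (QuotientGroup.mk g : G ⧸ pCore p G) * a = a * QuotientGroup.mk g) :
    g ∈ Subgroup.normalizer (E : Set G) := by
  have h1 : g ∈ Subgroup.normalizer ((E ⊔ pCore p G : Subgroup G) : Set G) := by
    rw [sup_comm, ← QuotientGroup.comap_map_mk' (pCore p G) E]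
    refine Subgroup.mem_normalizer_iff.2 fun x => ?_
    rw [Subgroup.mem_comap, Subgroup.mem_comap, map_mul, map_mul, map_inv]
    simp only [QuotientGroup.mk'_apply]
    constructor
    · intro hx
      rw [h _ hx, mul_inv_cancel_right]
      exact hx
    · intro hx
      have h2 : (QuotientGroup.mk x : G ⧸ pCore p G) =
          (QuotientGroup.mk g)⁻¹ * (QuotientGroup.mk g * QuotientGroup.mk x * (QuotientGroup.mk g)⁻¹) *
            QuotientGroup.mk g := by group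
      rw [h2, mul_assoc, ← h _ hx, inv_mul_cancel_left]
      exact hx
  have h2 := Res.normalizer_le (p := p) (E ⊔ pCore p G) h1
  rwa [show (pResidual p ↥(E ⊔ pCore p G)).map (E ⊔ pCore p G).subtype = E from hs.sup] at h2

theorem act2_trivial (hs : Shape p E) (hQ : pCoreOf p E = mov p E) {a : G ⧸ pCore p G}
    (ha : a ∈ bar p E) : act2 p G a = 1 := by
  obtain ⟨e, he, rfl⟩ := ha
  refine MulEquiv.ext fun ⟨_, r, hr, rfl⟩ => ?_
  show act2 p G (QuotientGroup.mk e) (cls hr) = cls hr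
  rw [act2_cls, cls_eq]
  have h1 : ⁅e, r⁆⁻¹ ∈ nz p G :=
    inv_mem (Subgroup.mem_sup_right (mov_le E (hQ ▸ hs.comm_mem_Q he hr)))
  have e1 : (e * r * e⁻¹)⁻¹ * r = r⁻¹ * ⁅e, r⁆⁻¹ * r := by simp only [commutatorElement_def]; group
  rw [e1]
  exact (nz_normal p G).conj_mem' _ h1 r

end Shape

namespace Exc

theorem W_le_Q (E : Subgroup G) : omegaOneCenter p (pCoreOf p E) ≤ pCoreOf p E := fun _ hx =>
  (omegaOneCenter_props hx).1

omit [Finite G] hp in
theorem W_central {a w : G} (ha : a ∈ pCoreOf p E) (hw : w ∈ omegaOneCenter p (pCoreOf p E)) :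
    a * w = w * a :=
  Subgroup.mem_centralizer_iff.1 (omegaOneCenter_props hw).2.1 a ha

theorem Z_le (hx : Exc p E) : ⁅pCoreOf p E, pCoreOf p E⁆ ≤ omegaOneCenter p (pCoreOf p E) := by
  rw [hx.zeq]; exact inf_le_left

theorem R_fix (hx : Exc p E) {r w : G} (hr : r ∈ pCore p G) (hw : w ∈ omegaOneCenter p (pCoreOf p E)) :
    r * w = w * r := vSub_fixed hr (hx.W_le hw)

/-- `O_p(G)` centralises `Q / W`. -/
theorem comm_Q_R (hx : Exc p E) (hs : Shape p E) {a r : G} (ha : a ∈ pCoreOf p E) (hr : r ∈ pCore p G) :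
    ⁅a, r⁆ ∈ omegaOneCenter p (pCoreOf p E) := by
  set Q := pCoreOf p E with hQ
  set W := omegaOneCenter p Q with hW
  have hfix : ∀ x ∈ Q, ∀ w ∈ W, x * w * x⁻¹ = w := fun x hx' w hw => by
    rw [W_central hx' hw, mul_inv_cancel_right]
  let S : Subgroup G :=
    { carrier := {x | x ∈ Q ∧ ∀ r ∈ pCore p G, ⁅x, r⁆ ∈ W}
      one_mem' := ⟨one_mem _, fun r _ => by simp⟩
      mul_mem' := by
        rintro x y ⟨hx', hx''⟩ ⟨hy, hy'⟩
        refine ⟨mul_mem hx' hy, fun r hr => ?_⟩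
        rw [show ⁅x * y, r⁆ = x * ⁅y, r⁆ * x⁻¹ * ⁅x, r⁆ by simp only [commutatorElement_def]; group,
          hfix x hx' _ (hy' r hr)]
        exact mul_mem (hy' r hr) (hx'' r hr)
      inv_mem' := by
        rintro x ⟨hx', hx''⟩
        refine ⟨inv_mem hx', fun r hr => ?_⟩
        rw [show ⁅x⁻¹, r⁆ = x⁻¹ * ⁅x, r⁆⁻¹ * x⁻¹⁻¹ by simp only [commutatorElement_def]; group,
          hfix _ (inv_mem hx') _ (inv_mem (hx'' r hr))]
        exact inv_mem (hx'' r hr) }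
  have hWS : W ≤ S := fun w hw => ⟨W_le_Q E hw, fun r hr => by
    rw [commutatorElement_eq_one_iff_mul_comm.2 (hx.R_fix hr hw).symm]; exact one_mem _⟩
  have hEn : E ≤ Subgroup.normalizer (S : Set G) := le_normalizer_of_conj fun e he x hxS => by
    refine ⟨(Subgroup.mem_normalizer_iff.1 (hs.Q_normalizer he) x).1 hxS.1, fun r hr => ?_⟩
    have h1 := hxS.2 (e⁻¹ * r * e) ((inferInstance : (pCore p G).Normal).conj_mem' r hr e)
    rw [show ⁅e * x * e⁻¹, r⁆ = e * ⁅x, e⁻¹ * r * e⁆ * e⁻¹ by simp only [commutatorElement_def]; group]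
    exact (Subgroup.mem_normalizer_iff.1 (hx.normW he) _).1 h1
  rcases hx.irrQ S hWS (fun x hxS => hxS.1) hEn with h | h
  · exfalso
    obtain ⟨w, hwQ, hwW, hfw⟩ := fixed_mod (Fusion.isPGroup_pCore p G) (Fusion.pCoreOf_isPGroup (p := p) E)
      (lt_of_le_of_ne (W_le_Q E) hx.W_ne) hs.R_normalizer
    refine hwW (h.le ⟨hwQ, fun r hr => ?_⟩)
    rw [← commutatorElement_inv]
    exact inv_mem (hfw r hr)
  · exact (h.ge ha).2 r hr

/-- `Φ(R) V` centralises `Q`. -/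
theorem nz_central (hx : Exc p E) (hs : Shape p E) {n a : G} (hn : n ∈ nz p G) (ha : a ∈ pCoreOf p E) :
    n * a = a * n := by
  set Q := pCoreOf p E with hQ
  set R := pCore p G with hR
  have hlam : ∀ r ∈ R, ∀ a ∈ Q, ∃ w ∈ omegaOneCenter p Q, r * a * r⁻¹ = a * w := fun r hr a ha =>
    ⟨⁅a⁻¹, r⁆, hx.comm_Q_R hs (inv_mem ha) hr, by simp [commutatorElement_def, mul_assoc]⟩
  have hmul : ∀ r ∈ R, ∀ s ∈ R, ∀ a x y : G, x ∈ omegaOneCenter p Q → y ∈ omegaOneCenter p Q →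
      r * a * r⁻¹ = a * x → s * a * s⁻¹ = a * y → r * s * a * (r * s)⁻¹ = a * x * y := by
    intro r hr s _ a x y _ hy h1 h2
    calc r * s * a * (r * s)⁻¹ = r * (s * a * s⁻¹) * r⁻¹ := by group
      _ = (r * a * r⁻¹) * (r * y * r⁻¹) := by rw [h2]; group
      _ = a * x * y := by rw [h1, hx.R_fix hr hy, mul_inv_cancel_right]
  suffices h : nz p G ≤ Subgroup.centralizer (Q : Set G) from
    (Subgroup.mem_centralizer_iff.1 (h hn) a ha).symm
  refine sup_le ?_ fun v hv => Subgroup.mem_centralizer_iff.2 fun b hb => vSub_fixed (hs.Q_le hb) hv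
  let C : Subgroup ↥R := (Subgroup.centralizer (Q : Set G)).subgroupOf R
  haveI : C.Normal := ⟨fun c hc g => Subgroup.mem_centralizer_iff.2 fun b hb => by
    have hb' : (g : G)⁻¹ * b * g ∈ Q :=
      (Subgroup.mem_normalizer_iff''.1 (hs.R_normalizer g.2) b).1 hb
    have h1 := Subgroup.mem_centralizer_iff.1 hc _ hb'
    show b * ((g : G) * c * (g : G)⁻¹) = ((g : G) * c * (g : G)⁻¹) * b
    calc b * ((g : G) * c * (g : G)⁻¹) = g * ((g : G)⁻¹ * b * g * c) * (g : G)⁻¹ := by group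
      _ = g * ((c : G) * ((g : G)⁻¹ * b * g)) * (g : G)⁻¹ :=
          congrArg (fun t => (g : G) * t * (g : G)⁻¹) h1
      _ = _ := by group⟩
  have hC : frattini ↥R ≤ C := by
    refine Solv.frattini_le (p := p) C (fun r s => ?_) fun r => ?_
    · refine Subgroup.mem_centralizer_iff.2 fun b hb => ?_
      show b * ⁅(r : G), (s : G)⁆ = ⁅(r : G), (s : G)⁆ * b
      set t := (s : G) * r with ht
      obtain ⟨a, ha', rfl⟩ : ∃ a ∈ Q, t * a * t⁻¹ = b :=
        ⟨t⁻¹ * b * t, (Subgroup.mem_normalizer_iff''.1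
          (hs.R_normalizer (mul_mem s.2 r.2)) b).1 hb, by group⟩
      obtain ⟨x, hx', h1⟩ := hlam r r.2 a ha'
      obtain ⟨y, hy, h2⟩ := hlam s s.2 a ha'
      have e1 := hmul r r.2 s s.2 a x y hx' hy h1 h2
      have e2 := hmul s s.2 r r.2 a y x hy hx' h2 h1
      rw [mul_assoc a y x, omega_comm _ hy _ hx', ← mul_assoc, ← e1, ← ht] at e2
      have e3 : ⁅(r : G), (s : G)⁆ = (r : G) * s * t⁻¹ := by
        rw [ht, commutatorElement_def]; group
      rw [e3]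
      calc t * a * t⁻¹ * ((r : G) * s * t⁻¹) = ((r : G) * s * a * ((r : G) * s)⁻¹) * ((r : G) * s * t⁻¹) := by
            rw [← e2]
        _ = (r : G) * s * t⁻¹ * (t * a * t⁻¹) := by group
    · refine Subgroup.mem_centralizer_iff.2 fun b hb => ?_
      show b * ((r : G) ^ p) = (r : G) ^ p * b
      obtain ⟨x, hx', h1⟩ := hlam r r.2 b hb
      have hpow : ∀ k : ℕ, (r : G) ^ k * b * ((r : G) ^ k)⁻¹ = b * x ^ k := by
        intro k
        induction k with
        | zero => simp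
        | succ k ih =>
          rw [pow_succ, hmul _ (pow_mem r.2 k) r r.2 b (x ^ k) x (pow_mem hx' k) hx' ih h1, pow_succ,
            mul_assoc]
      have h2 := hpow p
      rw [(omegaOneCenter_props hx').2.2, mul_one] at h2
      calc b * (r : G) ^ p = (r : G) ^ p * b * ((r : G) ^ p)⁻¹ * (r : G) ^ p := by rw [h2]
        _ = (r : G) ^ p * b := by group
  rintro _ ⟨x, hxΦ, rfl⟩
  exact hC hxΦ

theorem Q_inf_nz (hx : Exc p E) (hs : Shape p E) {a : G} (ha : a ∈ pCoreOf p E) :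
    a ∈ nz p G ↔ a ∈ omegaOneCenter p (pCoreOf p E) := by
  refine ⟨fun han => ?_, fun hw => Subgroup.mem_sup_right (hx.W_le hw)⟩
  set Q := pCoreOf p E with hQ
  let S : Subgroup G := Q ⊓ Subgroup.centralizer (Q : Set G)
  have hEn : E ≤ Subgroup.normalizer (S : Set G) := le_normalizer_of_conj fun e he x hxS => by
    refine Subgroup.mem_inf.2 ⟨(Subgroup.mem_normalizer_iff.1 (hs.Q_normalizer he) x).1 hxS.1,
      Subgroup.mem_centralizer_iff.2 fun b hb => ?_⟩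
    have hb' : e⁻¹ * b * e ∈ Q := (Subgroup.mem_normalizer_iff''.1 (hs.Q_normalizer he) b).1 hb
    have h1 := Subgroup.mem_centralizer_iff.1 hxS.2 _ hb'
    calc b * (e * x * e⁻¹) = e * ((e⁻¹ * b * e) * x) * e⁻¹ := by group
      _ = e * (x * (e⁻¹ * b * e)) * e⁻¹ := by rw [h1]
      _ = e * x * e⁻¹ * b := by group
  rcases hx.irrQ S (fun w hw => Subgroup.mem_inf.2 ⟨W_le_Q E hw, (omegaOneCenter_props hw).2.1⟩)
      inf_le_left hEn with h | h
  · exact h.le (Subgroup.mem_inf.2 ⟨ha, Subgroup.mem_centralizer_iff.2 fun b hb =>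
      (hx.nz_central hs han hb).symm⟩)
  · exact absurd (Subgroup.commutator_eq_bot_iff_le_centralizer.2 (h.ge.trans inf_le_right)) hx.zne

end Exc

/-! ### The two levels of a small block -/

variable (p) in
/-- `[V, E]` in `V`. -/
abbrev U1 (E : Subgroup G) : Subgroup ↥(vSub p G) := (mov p E).subgroupOf (vSub p G)

variable (p) in
/-- The image of `O_p(E)` in `R / Φ(R) V`. -/
abbrev U2 (E : Subgroup G) : Subgroup ↥(top2 p G) :=
  ((pCoreOf p E).map (QuotientGroup.mk' (nz p G))).subgroupOf (top2 p G)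

theorem good1 (hs : Shape p E) (hk : SmallKind p E) : Good (act1 p G) p (bar p E) (U1 p E) := by
  set μ : ↥(mov p E) →* ↥(vSub p G) := Subgroup.inclusion (mov_le E) with hμ
  have hr : μ.range = U1 p E := Subgroup.inclusion_range _
  have hker : ∀ u : ↥(mov p E), μ u = 1 ↔ (u : G) ∈ (⊥ : Subgroup G) := fun u => by
    rw [Subgroup.mem_bot, ← map_one μ, (Subgroup.inclusion_injective _).eq_iff]
    exact Subtype.ext_iff
  have heq : ∀ (e : ↥E) (u w : ↥(mov p E)), (w : G) = (e : G) * u * (e : G)⁻¹ →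
      act1 p G (QuotientGroup.mk (e : G)) (μ u) = μ w := fun e u w hw => Subtype.ext hw.symm
  have hcomm : ∀ e ∈ E, ∀ x : ↥(vSub p G), act1 p G (QuotientGroup.mk e) x / x ∈ μ.range := by
    intro e he x
    rw [hr, Subgroup.mem_subgroupOf, Subgroup.coe_div, act1_coe, div_eq_mul_inv, mov,
      Subgroup.commutator_comm, ← commutatorElement_def]
    exact Subgroup.commutator_mem_commutator he x.2
  have hcard : Nat.card μ.range = p ^ 2 := by
    rw [hr, Nat.card_congr (Subgroup.subgroupOfEquivOfLe (mov_le E)).toEquiv, hk.card]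
  rw [← hr]
  rcases hk.kind with ⟨h2, hc, -⟩ | ⟨h3, hc, -, -⟩
  · exact good_of_cube h2 (vSub_exp p G) (mov_normalizer E) μ hker heq hcomm hcard hk.faith hc
  · exact good_of_quat h3 (vSub_exp p G) (mov_normalizer E) μ hker heq hcomm hcard hk.faith hc

theorem good2 (hs : Shape p E) (hx : Exc p E) (h2 : IsPGroup 2 ↥(bar p E)) :
    Good (act2 p G) p (bar p E) (U2 p E) := by
  obtain ⟨hquat, hfaith, hidx⟩ := hx.small h2
  set μ : ↥(pCoreOf p E) →* ↥(top2 p G) :=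
    { toFun := fun a => cls (hs.Q_le a.2)
      map_one' := Subtype.ext (map_one (QuotientGroup.mk' (nz p G)))
      map_mul' := fun a b => Subtype.ext (map_mul (QuotientGroup.mk' (nz p G)) _ _) } with hμ
  have hr : μ.range = U2 p E := by
    ext x
    constructor
    · rintro ⟨a, rfl⟩; exact ⟨a, a.2, rfl⟩
    · rintro ⟨a, ha, h⟩; exact ⟨⟨a, ha⟩, Subtype.ext h⟩
  have hker : ∀ u : ↥(pCoreOf p E), μ u = 1 ↔ (u : G) ∈ omegaOneCenter p (pCoreOf p E) := fun u => by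
    rw [← hx.Q_inf_nz hs u.2, ← QuotientGroup.eq_one_iff]
    exact Subtype.ext_iff
  have heq : ∀ (e : ↥E) (u w : ↥(pCoreOf p E)), (w : G) = (e : G) * u * (e : G)⁻¹ →
      act2 p G (QuotientGroup.mk (e : G)) (μ u) = μ w := fun e u w hw =>
    Subtype.ext (congrArg (QuotientGroup.mk' (nz p G)) hw.symm)
  have hcomm : ∀ e ∈ E, ∀ x : ↥(top2 p G), act2 p G (QuotientGroup.mk e) x / x ∈ μ.range := by
    rintro e he ⟨_, r, hr', rfl⟩
    refine ⟨⟨⁅e, r⁆, hs.comm_mem_Q he hr'⟩, Subtype.ext ?_⟩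
    show QuotientGroup.mk' (nz p G) ⁅e, r⁆ =
      QuotientGroup.mk' (nz p G) (e * r * e⁻¹) / QuotientGroup.mk' (nz p G) r
    rw [← map_div, div_eq_mul_inv, commutatorElement_def]
  have hcard : Nat.card μ.range = p ^ 2 := by
    rw [← (section_card (Exc.W_le_Q E) μ hker).1, hidx, hx.three]
    norm_num
  rw [← hr]
  exact good_of_quat hx.three (top2_exp p G) hs.Q_normalizer μ hker heq hcomm hcard hfaith hquat

theorem U1_inj (h : U1 p E = U1 p F) : mov p E = mov p F :=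
  le_antisymm (fun x hx => (h.le (show (⟨x, mov_le E hx⟩ : ↥(vSub p G)) ∈ U1 p E from hx) : _))
    (fun x hx => (h.ge (show (⟨x, mov_le F hx⟩ : ↥(vSub p G)) ∈ U1 p F from hx) : _))

theorem cls_mem_U2 {a : G} (ha : a ∈ pCoreOf p E) (haR : a ∈ pCore p G) : cls haR ∈ U2 p E :=
  ⟨a, ha, rfl⟩

theorem exists_of_U2 {b : G} (hbR : b ∈ pCore p G) (h : cls hbR ∈ U2 p E) :
    ∃ a ∈ pCoreOf p E, ∃ n ∈ nz p G, b = a * n := by
  obtain ⟨a, ha, h'⟩ := h
  exact ⟨a, ha, a⁻¹ * b, QuotientGroup.eq.1 h', by group⟩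

/-- An element inverting `[V, E]`, and `Q / W` in the exceptional case. -/
theorem exists_inverting (hs : Shape p E) (hk : SmallKind p E) (hp3 : p = 3) :
    ∃ z ∈ E, (∀ m ∈ mov p E, z * m * z⁻¹ = m⁻¹) ∧
      (Exc p E → ∀ a ∈ pCoreOf p E, a * (z * a * z⁻¹) ∈ omegaOneCenter p (pCoreOf p E)) := by
  obtain ⟨hquat, h2⟩ : Quat E (mov p E) ⊥ ∧ IsPGroup 2 ↥(bar p E) := by
    rcases hk.kind with ⟨h, -⟩ | ⟨-, h1, h2, -⟩
    · omega
    · exact ⟨h1, h2⟩
  obtain ⟨g, hg, u, hu, hne⟩ := hquat.2.2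
  have hgR : g * g ∉ pCore p G := fun h => hne (by
    rw [vSub_fixed h (mov_le E hu), mul_inv_cancel_right, inv_mul_cancel]; exact one_mem _)
  have h1 : ∀ m ∈ mov p E, (g * g) * m * (g * g)⁻¹ = m⁻¹ := by
    rcases hquat.1 g hg with h | h | h
    · exfalso
      apply hne
      have e1 := h u hu
      rw [Subgroup.mem_bot, inv_mul_eq_one] at e1 ⊢
      calc u = g * u * g⁻¹ := e1
        _ = g * (g * u * g⁻¹) * g⁻¹ := by rw [← e1]; exact e1
        _ = g * g * u * (g * g)⁻¹ := by group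
    · exfalso
      apply hne
      have e1 : g * u * g⁻¹ = u⁻¹ := eq_inv_of_mul_eq_one_right (Subgroup.mem_bot.1 (h u hu))
      rw [Subgroup.mem_bot, inv_mul_eq_one]
      calc u = (u⁻¹)⁻¹ := (inv_inv u).symm
        _ = (g * u * g⁻¹)⁻¹ := by rw [e1]
        _ = g * u⁻¹ * g⁻¹ := by group
        _ = g * (g * u * g⁻¹) * g⁻¹ := by rw [e1]
        _ = g * g * u * (g * g)⁻¹ := by group
    · exact fun m hm => eq_inv_of_mul_eq_one_right (Subgroup.mem_bot.1 (h m hm))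
  refine ⟨g * g, mul_mem hg hg, h1, fun hx => ?_⟩
  obtain ⟨hq2, hf2, -⟩ := hx.small h2
  rcases hq2.1 g hg with h | h | h
  · exact absurd (mul_mem (hf2 g hg h) (hf2 g hg h)) hgR
  · refine absurd (hf2 _ (mul_mem hg hg) fun a ha => ?_) hgR
    have hw := h a ha
    set w := a * (g * a * g⁻¹) with hwdef
    have hgw := (Subgroup.mem_normalizer_iff.1 (hx.normW hg) w).1 hw
    have hga : g * a * g⁻¹ = a⁻¹ * w := by rw [hwdef]; group
    have e2 : a⁻¹ * ((g * g) * a * (g * g)⁻¹) = a⁻¹ * w⁻¹ * a * (g * w * g⁻¹) := by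
      calc a⁻¹ * ((g * g) * a * (g * g)⁻¹) = a⁻¹ * (g * (g * a * g⁻¹) * g⁻¹) := by group
        _ = a⁻¹ * (g * (a⁻¹ * w) * g⁻¹) := by rw [hga]
        _ = a⁻¹ * ((g * a * g⁻¹)⁻¹ * (g * w * g⁻¹)) := by group
        _ = a⁻¹ * ((a⁻¹ * w)⁻¹ * (g * w * g⁻¹)) := by rw [hga]
        _ = a⁻¹ * w⁻¹ * a * (g * w * g⁻¹) := by group
    rw [e2, show a⁻¹ * w⁻¹ * a = w⁻¹ by rw [Exc.W_central (inv_mem ha) (inv_mem hw), inv_mul_cancel_right]]
    exact mul_mem (inv_mem hw) hgw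
  · exact h

omit hp in
/-- Inverting `U` and stabilising `U` and `V / U` commutes with all that stabilises both. -/
theorem neg_commute {Γ V : Type*} [Group Γ] [CommGroup V] {φ : Γ →* MulAut V} {q : ℕ} {P : Subgroup Γ}
    (hP : IsPGroup q P) (hq : q.Coprime p) (hexp : ∀ v : V, v ^ p = 1) {U : Subgroup V} {z a : Γ}
    (hz : z ∈ P) (ha : a ∈ P) (hzc : ∀ v, φ z v / v ∈ U) (hac : ∀ v, φ a v / v ∈ U)
    (hinv : ∀ u ∈ U, φ z u = u⁻¹) : φ z * φ a = φ a * φ z := by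
  let H : Subgroup Γ :=
    { carrier := {g | ∀ v, φ g v / v ∈ U}
      one_mem' := fun v => by simp
      mul_mem' := by
        intro g g' hg hg' v
        rw [map_mul, MulAut.mul_apply, ← div_mul_div_cancel (φ g (φ g' v)) (φ g' v) v]
        exact mul_mem (hg _) (hg' v)
      inv_mem' := by
        intro g hg v
        have h := inv_mem (hg (φ g⁻¹ v))
        rwa [← MulAut.mul_apply, ← map_mul, mul_inv_cancel, map_one, MulAut.one_apply, inv_div] at h }
  have hpres : ∀ g ∈ H, ∀ u ∈ U, φ g u ∈ U := fun g hg u hu => by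
    have := mul_mem (hg u) hu
    rwa [div_mul_cancel] at this
  have hzH : z ∈ H := hzc
  have haH : a ∈ H := hac
  have h1 : φ (z * a * z⁻¹ * a⁻¹) = 1 := by
    refine Good.eq_one_of_series hP hq hexp (U := U)
      (mul_mem (mul_mem (mul_mem hz ha) (inv_mem hz)) (inv_mem ha)) (fun u hu => ?_)
      (mul_mem (mul_mem (mul_mem hzH haH) (inv_mem hzH)) (inv_mem haH))
    set u₁ := φ (z⁻¹ * a⁻¹) u with hu₁
    have hu₁U : u₁ ∈ U := hpres _ (mul_mem (inv_mem hzH) (inv_mem haH)) u hu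
    have e1 : φ a (φ z u₁) = u := by
      rw [hu₁, ← MulAut.mul_apply, ← MulAut.mul_apply, ← map_mul, ← map_mul,
        show a * z * (z⁻¹ * a⁻¹) = 1 by group, map_one, MulAut.one_apply]
    calc φ (z * a * z⁻¹ * a⁻¹) u = φ z (φ a u₁) := by
          rw [hu₁, ← MulAut.mul_apply, ← MulAut.mul_apply, ← map_mul, ← map_mul]
          congr 2; group
      _ = u := by rw [hinv _ (hpres a haH _ hu₁U), ← map_inv, ← hinv _ hu₁U, e1]
  rw [map_mul, map_mul, map_mul, map_inv, map_inv] at h1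
  calc φ z * φ a = (φ z * φ a * (φ z)⁻¹ * (φ a)⁻¹) * (φ a * φ z) := by group
    _ = φ a * φ z := by rw [h1, one_mul]

/-! ### The section argument -/

/-- The elements of `X` fixed by `B` modulo `L`. -/
def fixMod (B X L : Subgroup G) (hXL : X ≤ Subgroup.normalizer (L : Set G)) : Subgroup G where
  carrier := {x | x ∈ X ∧ ∀ c ∈ B, ⁅c, x⁆ ∈ L}
  one_mem' := ⟨one_mem _, fun c _ => by simp⟩
  mul_mem' := by
    rintro x y ⟨hx, hx'⟩ ⟨hy, hy'⟩
    refine ⟨mul_mem hx hy, fun c hc => ?_⟩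
    rw [show ⁅c, x * y⁆ = ⁅c, x⁆ * (x * ⁅c, y⁆ * x⁻¹) by simp only [commutatorElement_def]; group]
    exact mul_mem (hx' c hc) ((Subgroup.mem_normalizer_iff.1 (hXL hx) _).1 (hy' c hc))
  inv_mem' := by
    rintro x ⟨hx, hx'⟩
    refine ⟨inv_mem hx, fun c hc => ?_⟩
    rw [show ⁅c, x⁻¹⁆ = x⁻¹ * ⁅c, x⁆⁻¹ * x⁻¹⁻¹ by simp only [commutatorElement_def]; group]
    exact (Subgroup.mem_normalizer_iff.1 (hXL (inv_mem hx)) _).1 (inv_mem (hx' c hc))

/-- A `p`-group acts quadratically on a section of order `p²`. -/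
theorem quad_mod {B X Z : Subgroup G} (hB : IsPGroup p B) (hX : IsPGroup p X) (hZX : Z ≤ X)
    (hidx : Z.relIndex X = p ^ 2) (hab : ⁅X, X⁆ ≤ Z) (hBX : B ≤ Subgroup.normalizer (X : Set G))
    (hBZ : B ≤ Subgroup.normalizer (Z : Set G)) :
    ∃ L : Subgroup G, L ≤ X ∧ (∀ x ∈ X, ∀ c ∈ B, ⁅c, x⁆ ∈ L) ∧ ∀ x ∈ L, ∀ c ∈ B, ⁅c, x⁆ ∈ Z := by
  have hXZ : ∀ L : Subgroup G, Z ≤ L → L ≤ X → X ≤ Subgroup.normalizer (L : Set G) := fun L hL hLX =>
    le_normalizer_of_conj fun g hg x hx => by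
      have : g * x * g⁻¹ = ⁅g, x⁆ * x := by simp [commutatorElement_def]
      rw [this]
      exact mul_mem (hL (hab (Subgroup.commutator_mem_commutator hg (hLX hx)))) hx
  set L := fixMod B X Z (hXZ Z le_rfl hZX) with hL
  have hLX : L ≤ X := fun x hx => hx.1
  have hZL : Z ≤ L := fun z hz => ⟨hZX hz, fun c hc => (comm_mem hz (hBZ hc)).2⟩
  refine ⟨L, hLX, ?_, fun x hx => hx.2⟩
  by_cases hLe : L = X
  · intro x hx c hc
    exact hZL ((hLe.ge hx).2 c hc)
  have hZne : Z ≠ X := fun h => by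
    rw [h, Subgroup.relIndex_self] at hidx
    exact absurd hidx.symm (Nat.one_lt_pow two_ne_zero hp.out.one_lt).ne'
  obtain ⟨w, hw, hwZ, hwf⟩ := fixed_mod hB hX (lt_of_le_of_ne hZX hZne) hBX
  have hwL : w ∈ L := ⟨hw, hwf⟩
  have hLB : B ≤ Subgroup.normalizer (L : Set G) := le_normalizer_of_conj fun g hg x hx => by
    have : g * x * g⁻¹ = ⁅g, x⁆ * x := by simp [commutatorElement_def]
    rw [this]
    exact mul_mem (hZL (hx.2 g hg)) hx
  obtain ⟨v, hv, hvL, hvf⟩ := fixed_mod hB hX (lt_of_le_of_ne hLX hLe) hBX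
  set L' := fixMod B X L (hXZ L hZL hLX) with hL'
  have hLL' : L ≤ L' := fun x hx => ⟨hx.1, fun c hc => hZL (hx.2 c hc)⟩
  have hL'X : L' ≤ X := fun x hx => hx.1
  suffices h : L' = X by
    intro x hx c hc
    exact (h.ge hx).2 c hc
  by_contra hne
  have h1 := Subgroup.relIndex_mul_relIndex Z L L' hZL hLL'
  have h2 := Subgroup.relIndex_mul_relIndex Z L' X (hZL.trans hLL') hL'X
  rw [hidx, ← h1] at h2
  have a1 : Z.relIndex L ≠ 1 := fun h => hwZ (Subgroup.relIndex_eq_one.1 h hwL)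
  have a2 : L.relIndex L' ≠ 1 := fun h => hvL (Subgroup.relIndex_eq_one.1 h ⟨hv, hvf⟩)
  have a3 : L'.relIndex X ≠ 1 := fun h => hne (le_antisymm hL'X (Subgroup.relIndex_eq_one.1 h))
  have di : Z.relIndex L ∣ p ^ 2 := ⟨L.relIndex L' * L'.relIndex X, by rw [← h2]; ring⟩
  have dj : L.relIndex L' ∣ p ^ 2 := ⟨Z.relIndex L * L'.relIndex X, by rw [← h2]; ring⟩
  have dk : L'.relIndex X ∣ p ^ 2 := ⟨Z.relIndex L * L.relIndex L', by rw [← h2]; ring⟩
  obtain ⟨i, -, hi⟩ := (Nat.dvd_prime_pow hp.out).1 di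
  obtain ⟨j, -, hj⟩ := (Nat.dvd_prime_pow hp.out).1 dj
  obtain ⟨k, -, hk⟩ := (Nat.dvd_prime_pow hp.out).1 dk
  rw [hi] at a1
  rw [hj] at a2
  rw [hk] at a3
  rw [hi, hj, hk, ← pow_add, ← pow_add] at h2
  have h3 := Nat.pow_right_injective hp.out.two_le h2
  have : i ≠ 0 := fun h => a1 (by rw [h, pow_zero])
  have : j ≠ 0 := fun h => a2 (by rw [h, pow_zero])
  have : k ≠ 0 := fun h => a3 (by rw [h, pow_zero])
  omega

omit hp in
theorem relIndex_compl {A X Y : Subgroup G} (hAY : A ≤ Y) (hXY : X ≤ Y)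
    (hn : Y ≤ Subgroup.normalizer (A : Set G)) (hcov : ∀ y ∈ Y, ∃ x ∈ X, x⁻¹ * y ∈ A) :
    A.relIndex Y = (X ⊓ A).relIndex X := by
  haveI : (A.subgroupOf Y).Normal := (Subgroup.normal_subgroupOf_iff_le_normalizer hAY).2 hn
  set ψ : ↥X →* ↥Y ⧸ A.subgroupOf Y := (QuotientGroup.mk' _).comp (Subgroup.inclusion hXY) with hψ
  have hker : ∀ u : ↥X, ψ u = 1 ↔ (u : G) ∈ X ⊓ A := fun u => by
    rw [hψ, MonoidHom.comp_apply, QuotientGroup.mk'_apply, QuotientGroup.eq_one_iff]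
    exact ⟨fun h => Subgroup.mem_inf.2 ⟨u.2, h⟩, fun h => h.2⟩
  have hsur : ψ.range = ⊤ := by
    refine eq_top_iff.2 fun y _ => ?_
    obtain ⟨⟨y, hy⟩, rfl⟩ := QuotientGroup.mk_surjective y
    obtain ⟨x, hx, hxy⟩ := hcov y hy
    exact ⟨⟨x, hx⟩, QuotientGroup.eq.2 hxy⟩
  rw [(section_card inf_le_left ψ hker).1, hsur, Subgroup.card_top]
  rfl

/-! ### No twist -/

theorem no_twist (hG : Subgroup.centralizer (pCore p G : Set G) ≤ pCore p G) (hs : Shape p E)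
    (hk : SmallKind p E) (hx : Exc p E) {y : G} (hyE : y ∈ Subgroup.normalizer (E : Set G))
    (hyM : ∀ m ∈ mov p E, y * m * y⁻¹ = m)
    (hyQ : ∀ a ∈ pCoreOf p E, a * (y * a * y⁻¹) ∈ omegaOneCenter p (pCoreOf p E))
    (hyP : (QuotientGroup.mk y : G ⧸ pCore p G) ∈ pCore 2 (G ⧸ pCore p G))
    (hyR : ∀ r ∈ pCore p G, ∀ a ∈ pCoreOf p E,
      a⁻¹ * (⁅y, r⁆ * a * ⁅y, r⁆⁻¹) ∈ ⁅pCoreOf p E, pCoreOf p E⁆) : False := by
  obtain rfl := hx.three
  set Q := pCoreOf 3 E with hQ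
  set W := omegaOneCenter 3 Q with hW
  set Z := ⁅Q, Q⁆ with hZ
  have hZW : Z ≤ W := hx.Z_le
  have hWQ : W ≤ Q := Exc.W_le_Q E
  have hcen : ∀ {a w : G}, a ∈ Q → w ∈ W → a * w = w * a := fun ha hw => Exc.W_central ha hw
  have hconjW : ∀ {a w : G}, a ∈ Q → w ∈ W → a * w * a⁻¹ = w := fun ha hw => by
    rw [hcen ha hw, mul_inv_cancel_right]
  have hyN : y ∈ Subgroup.normalizer (Q : Set G) := by
    rw [hQ, hs.inter]
    exact Subgroup.mem_normalizer_iff.2 fun x => by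
      simp only [SetLike.mem_coe, Subgroup.mem_inf]
      exact and_congr (Subgroup.mem_normalizer_iff.1 hyE x)
        (Subgroup.mem_normalizer_iff.1 (mem_normalizer_pCore y) x)
  -- `y` centralises `W`
  have hyW : ∀ w ∈ W, y * w * y⁻¹ = w := by
    have hZy : Z ≤ Subgroup.centralizer {y} := by
      refine Subgroup.commutator_le.2 fun a ha b hb => Subgroup.mem_centralizer_singleton_iff.2 ?_
      have hwa := hyQ a ha
      have hwb := hyQ b hb
      set w := a * (y * a * y⁻¹) with hw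
      set w' := b * (y * b * y⁻¹) with hw'
      have e1 : y * ⁅a, b⁆ * y⁻¹ = ⁅a⁻¹ * w, b⁻¹ * w'⁆ := by
        rw [hw, hw', inv_mul_cancel_left, inv_mul_cancel_left]
        simp only [commutatorElement_def]; group
      have e2 : ⁅a⁻¹ * w, b⁻¹ * w'⁆ = ⁅a⁻¹, b⁻¹⁆ := by
        have i1 : w * (b⁻¹ * w') * w⁻¹ = b⁻¹ * w' := by
          rw [← hcen (mul_mem (inv_mem hb) (hWQ hwb)) hwa, mul_inv_cancel_right]
        have i2 : w' * a * w'⁻¹ = a := by rw [← hcen ha hwb, mul_inv_cancel_right]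
        calc ⁅a⁻¹ * w, b⁻¹ * w'⁆ = a⁻¹ * (w * (b⁻¹ * w') * w⁻¹) * a * w'⁻¹ * b := by
              simp only [commutatorElement_def]; group
          _ = a⁻¹ * b⁻¹ * (w' * a * w'⁻¹) * b := by rw [i1]; group
          _ = ⁅a⁻¹, b⁻¹⁆ := by rw [i2, commutatorElement_def]; group
      have hu : ⁅a, b⁆ ∈ W := hZW (Subgroup.commutator_mem_commutator ha hb)
      have e3 : ⁅a⁻¹, b⁻¹⁆ = ⁅a, b⁆ := by
        rw [show ⁅a⁻¹, b⁻¹⁆ = (b * a)⁻¹ * ⁅a, b⁆ * (b * a) by simp only [commutatorElement_def]; group,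
          hcen (inv_mem (mul_mem hb ha)) hu, inv_mul_cancel_right]
      rw [e2, e3] at e1
      calc ⁅a, b⁆ * y = (y * ⁅a, b⁆ * y⁻¹) * y := by rw [e1]
        _ = y * ⁅a, b⁆ := by group
    have hMy : mov 3 E ≤ Subgroup.centralizer {y} := fun m hm =>
      Subgroup.mem_centralizer_singleton_iff.2 (by
        calc m * y = (y * m * y⁻¹) * y := by rw [hyM m hm]
          _ = y * m := by group)
    intro w hw
    have h1 := (hx.W_cover.trans (sup_le hMy (hx.zeq ▸ hZy))) hw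
    rw [← Subgroup.mem_centralizer_singleton_iff.1 h1, mul_inv_cancel_right]
  let D : Subgroup G :=
    { carrier := {a | a ∈ Q ∧ a * (y * a * y⁻¹) ∈ Z}
      one_mem' := ⟨one_mem _, by simp⟩
      mul_mem' := by
        rintro a b ⟨ha, ha'⟩ ⟨hb, hb'⟩
        refine ⟨mul_mem ha hb, ?_⟩
        set z := a * (y * a * y⁻¹) with hz
        set z' := b * (y * b * y⁻¹) with hz'
        have e1 : a * b * (y * (a * b) * y⁻¹) = a * (b * (a⁻¹ * z) * b⁻¹) * z' := by
          rw [hz, hz', inv_mul_cancel_left]; group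
        have e2 : b * (a⁻¹ * z) * b⁻¹ = (b * a⁻¹ * b⁻¹) * z := by
          calc b * (a⁻¹ * z) * b⁻¹ = (b * a⁻¹ * b⁻¹) * (b * z * b⁻¹) := by group
            _ = _ := by rw [hconjW hb (hZW ha')]
        rw [e1, e2, show a * (b * a⁻¹ * b⁻¹ * z) * z' = ⁅a, b⁆ * z * z' by
          simp only [commutatorElement_def]; group]
        exact mul_mem (mul_mem (Subgroup.commutator_mem_commutator ha hb) ha') hb'
      inv_mem' := by
        rintro a ⟨ha, ha'⟩
        refine ⟨inv_mem ha, ?_⟩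
        set z := a * (y * a * y⁻¹) with hz
        rw [show y * a⁻¹ * y⁻¹ = z⁻¹ * a by rw [hz]; group, ← mul_assoc,
          hcen (inv_mem ha) (inv_mem (hZW ha')), inv_mul_cancel_right]
        exact inv_mem ha' }
  have hZQ : Z ≤ Q := hZW.trans hWQ
  have hthree : ∀ w ∈ W, w * w * w = 1 := fun w hw => by
    have := (omegaOneCenter_props hw).2.2
    rwa [pow_succ, pow_two] at this
  have hhalf : ∀ w ∈ W, w * w ∈ Z → w ∈ Z := fun w hw h => by
    have h1 : w = (w * w) * (w * w) := by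
      calc w = (w * w * w) * w := by rw [hthree w hw, one_mul]
        _ = _ := by group
    rw [h1]; exact mul_mem h h
  have hDW : D ⊓ W = Z := by
    refine le_antisymm (fun w hw => ?_) fun z hz => Subgroup.mem_inf.2 ⟨⟨hZQ hz, ?_⟩, hZW hz⟩
    · refine hhalf w hw.2 ?_
      have := hw.1.2
      rwa [hyW w hw.2] at this
    · rw [hyW z (hZW hz)]; exact mul_mem hz hz
  have hcov : ∀ a ∈ Q, ∃ d ∈ D, d⁻¹ * a ∈ W := by
    intro a ha
    have hw := hyQ a ha
    set w := a * (y * a * y⁻¹) with hwdef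
    refine ⟨a * w, ⟨mul_mem ha (hWQ hw), ?_⟩, ?_⟩
    · have e1 : a * w * (y * (a * w) * y⁻¹) = w * w * w := by
        calc a * w * (y * (a * w) * y⁻¹) = a * w * ((a⁻¹ * w) * (y * w * y⁻¹)) := by
              rw [hwdef]; group
          _ = a * (w * a⁻¹) * w * w := by rw [hyW w hw]; group
          _ = w * w * w := by rw [← hcen (inv_mem ha) hw, mul_inv_cancel_left]
      rw [e1, hthree w hw]
      exact one_mem _
    · rw [mul_inv_rev, inv_mul_cancel_right]; exact inv_mem hw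
  -- the Baumann subgroup
  obtain ⟨T, hEB, hnq⟩ := hx.quadratic
  set B := baumannSubgroupOf 3 (T : Subgroup G) with hB
  have hBE : B ≤ Subgroup.normalizer (E : Set G) := le_normalizer_of_conj fun c hc e he => by
    have h1 : ⁅e, c⁆ ∈ E := hEB.le (Subgroup.commutator_mem_commutator he hc)
    rw [show c * e * c⁻¹ = ⁅e, c⁆⁻¹ * e by simp only [commutatorElement_def]; group]
    exact mul_mem (inv_mem h1) he
  have hBQ : B ≤ Subgroup.normalizer (Q : Set G) := by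
    rw [hQ, hs.inter]
    exact le_normalizer_inf hBE fun g _ => mem_normalizer_pCore g
  have hconjQ : ∀ {c a : G}, c ∈ B → a ∈ Q → c * a * c⁻¹ ∈ Q := fun hc ha =>
    (Subgroup.mem_normalizer_iff.1 (hBQ hc) _).1 ha
  have hBZ : B ≤ Subgroup.normalizer (Z : Set G) := le_normalizer_of_conj fun c hc z hz => by
    refine (Subgroup.commutator_le.2 fun a ha b hb => ?_ :
      Z ≤ Z.comap (MulAut.conj c).toMonoidHom) hz
    rw [Subgroup.mem_comap, map_commutatorElement]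
    exact Subgroup.commutator_mem_commutator (hconjQ hc ha) (hconjQ hc hb)
  have hBW : B ≤ Subgroup.normalizer (W : Set G) := le_normalizer_of_conj fun c hc w hw => by
    obtain ⟨h1, h2, h3⟩ := omegaOneCenter_props hw
    refine mem_omegaOneCenter (hconjQ hc h1) (Subgroup.mem_centralizer_iff.2 fun x hxQ => ?_)
      (by rw [conj_pow, h3, mul_one, mul_inv_cancel])
    have h4 := Subgroup.mem_centralizer_iff.1 h2 (c⁻¹ * x * c) (by simpa using hconjQ (inv_mem hc) hxQ)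
    calc x * (c * w * c⁻¹) = c * ((c⁻¹ * x * c) * w) * c⁻¹ := by group
      _ = c * (w * (c⁻¹ * x * c)) * c⁻¹ := by rw [h4]
      _ = c * w * c⁻¹ * x := by group
  have hBD : B ≤ Subgroup.normalizer (D : Set G) := le_normalizer_of_conj fun c hc a ha => by
    set a' := c * a * c⁻¹ with ha'
    have ha'Q : a' ∈ Q := hconjQ hc ha.1
    refine ⟨ha'Q, ?_⟩
    have hw := hyQ a' ha'Q
    set w := a' * (y * a' * y⁻¹) with hwdef
    have hz := (Subgroup.mem_normalizer_iff.1 (hBZ hc) _).1 ha.2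
    set z := c * (a * (y * a * y⁻¹)) * c⁻¹ with hzdef
    set y' := c * y * c⁻¹ with hy'
    set t := y⁻¹ * y' with ht
    have hyW' : ∀ v ∈ W, y' * v * y'⁻¹ = v := fun v hv => by
      have h1 := hyW (c⁻¹ * v * c) (by simpa using (Subgroup.mem_normalizer_iff.1 (hBW (inv_mem hc)) v).1 hv)
      calc y' * v * y'⁻¹ = c * (y * (c⁻¹ * v * c) * y⁻¹) * c⁻¹ := by rw [hy']; group
        _ = v := by rw [h1]; group
    have htW : ∀ v ∈ W, t * v * t⁻¹ = v := fun v hv => by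
      calc t * v * t⁻¹ = y⁻¹ * (y' * v * y'⁻¹) * y := by rw [ht]; group
        _ = y⁻¹ * (y * v * y⁻¹) * y := by rw [hyW' v hv, hyW v hv]
        _ = v := by group
    have hyback : y⁻¹ * a' * y = w * a'⁻¹ := by
      calc y⁻¹ * a' * y = y⁻¹ * (a' * (y * a' * y⁻¹)) * y * a'⁻¹ := by group
        _ = y⁻¹ * (y * w * y⁻¹) * y * a'⁻¹ := by rw [← hwdef, hyW w hw]
        _ = w * a'⁻¹ := by group
    have hta : t * a' * t⁻¹ = a' * (w⁻¹ * z) := by
      calc t * a' * t⁻¹ = y⁻¹ * (a'⁻¹ * z) * y := by rw [ht, hy', ha', hzdef]; group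
        _ = (y⁻¹ * a' * y)⁻¹ * (y⁻¹ * (y * z * y⁻¹) * y) := by rw [hyW z (hZW hz)]; group
        _ = a' * (w⁻¹ * z) := by rw [hyback]; group
    set v := w⁻¹ * z with hvdef
    have hvW : v ∈ W := mul_mem (inv_mem hw) (hZW hz)
    have hpow : ∀ k : ℕ, t ^ k * a' * (t ^ k)⁻¹ = a' * v ^ k := by
      intro k
      induction k with
      | zero => simp
      | succ k ih =>
        calc t ^ (k + 1) * a' * (t ^ (k + 1))⁻¹ = t * (t ^ k * a' * (t ^ k)⁻¹) * t⁻¹ := by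
              rw [pow_succ']; group
          _ = (t * a' * t⁻¹) * (t * v ^ k * t⁻¹) := by rw [ih]; group
          _ = a' * v ^ (k + 1) := by rw [hta, htW _ (pow_mem hvW k), mul_assoc, ← pow_succ']
    have htP : (QuotientGroup.mk t : G ⧸ pCore 3 G) ∈ pCore 2 (G ⧸ pCore 3 G) := by
      rw [ht, hy', QuotientGroup.mk_mul, QuotientGroup.mk_inv, QuotientGroup.mk_mul, QuotientGroup.mk_mul,
        QuotientGroup.mk_inv]
      exact mul_mem (inv_mem hyP) ((inferInstance : (pCore 2 (G ⧸ pCore 3 G)).Normal).conj_mem _ hyP _)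
    obtain ⟨k, hk'⟩ := Fusion.isPGroup_pCore 2 (G ⧸ pCore 3 G) ⟨_, htP⟩
    have hr : t ^ 2 ^ k ∈ pCore 3 G :=
      (QuotientGroup.eq_one_iff _).1 (by rw [QuotientGroup.mk_pow]; exact congrArg Subtype.val hk')
    set d := v ^ 2 ^ k with hd
    have hdW : d ∈ W := pow_mem hvW _
    set r := t ^ 2 ^ k with hrdef
    have hra : r * a' * r⁻¹ = a' * d := hpow _
    have hrd : r * d * r⁻¹ = d := by rw [hx.R_fix hr hdW, mul_inv_cancel_right]
    have hra' : r⁻¹ * a' * r = a' * d⁻¹ := by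
      calc r⁻¹ * a' * r = r⁻¹ * (r * a' * r⁻¹ * (r * d * r⁻¹)⁻¹) * r := by
            rw [hrd, hra, mul_inv_cancel_right]
        _ = a' * d⁻¹ := by group
    have hrw : r * w * r⁻¹ = w := by rw [hx.R_fix hr hw, mul_inv_cancel_right]
    have hcc : ⁅y, r⁆ * a' * ⁅y, r⁆⁻¹ = a' * (d⁻¹ * d⁻¹) := by
      have s1 : y⁻¹ * (a' * d⁻¹) * y = w * a'⁻¹ * d⁻¹ := by
        calc y⁻¹ * (a' * d⁻¹) * y = (y⁻¹ * a' * y) * (y⁻¹ * (y * d⁻¹ * y⁻¹) * y) := by
              rw [hyW _ (inv_mem hdW)]; group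
          _ = w * a'⁻¹ * d⁻¹ := by rw [hyback]; group
      have s2 : r * (w * a'⁻¹ * d⁻¹) * r⁻¹ = w * a'⁻¹ * (d⁻¹ * d⁻¹) := by
        calc r * (w * a'⁻¹ * d⁻¹) * r⁻¹ = (r * w * r⁻¹) * (r * a' * r⁻¹)⁻¹ * (r * d * r⁻¹)⁻¹ := by group
          _ = w * (d⁻¹ * a'⁻¹) * d⁻¹ := by rw [hrw, hra, hrd, mul_inv_rev]
          _ = w * a'⁻¹ * (d⁻¹ * d⁻¹) := by rw [← hcen (inv_mem ha'Q) (inv_mem hdW)]; group
      have s3 : y * (w * a'⁻¹ * (d⁻¹ * d⁻¹)) * y⁻¹ = a' * (d⁻¹ * d⁻¹) := by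
        calc y * (w * a'⁻¹ * (d⁻¹ * d⁻¹)) * y⁻¹
            = (y * w * y⁻¹) * (y * a' * y⁻¹)⁻¹ * (y * (d⁻¹ * d⁻¹) * y⁻¹) := by group
          _ = w * (a'⁻¹ * w)⁻¹ * (d⁻¹ * d⁻¹) := by
              rw [hyW w hw, hyW _ (mul_mem (inv_mem hdW) (inv_mem hdW)),
                show y * a' * y⁻¹ = a'⁻¹ * w by rw [hwdef]; group]
          _ = a' * (d⁻¹ * d⁻¹) := by
              rw [mul_inv_rev, inv_inv, ← mul_assoc w w⁻¹, mul_inv_cancel, one_mul]
      calc ⁅y, r⁆ * a' * ⁅y, r⁆⁻¹ = y * (r * (y⁻¹ * (r⁻¹ * a' * r) * y) * r⁻¹) * y⁻¹ := by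
            simp only [commutatorElement_def]; group
        _ = a' * (d⁻¹ * d⁻¹) := by rw [hra', s1, s2, s3]
    have h1 := hyR r hr a' ha'Q
    rw [hcc, inv_mul_cancel_left] at h1
    have h2 : d⁻¹ ∈ Z := hhalf _ (inv_mem hdW) h1
    have h3 : v ^ 2 ^ k ∈ Z := by simpa using inv_mem h2
    have h4 : v ∈ Z := by
      obtain ⟨j, hj⟩ : ∃ j : ℕ, (v ^ 2 ^ k) ^ j = v := exists_pow_eq_self_of_coprime
        ((Nat.Coprime.pow_left k (by decide : Nat.Coprime 2 3)).coprime_dvd_right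
          (orderOf_dvd_of_pow_eq_one (omegaOneCenter_props hvW).2.2))
      rw [← hj]; exact pow_mem h3 j
    have h5 : w = z * v⁻¹ := by rw [hvdef]; group
    show w ∈ Z
    rw [h5]; exact mul_mem hz (inv_mem h4)
  -- `b` outside `C(W)`
  obtain ⟨b, hbB, hbW⟩ : ∃ b ∈ B, b ∉ Subgroup.centralizer (W : Set G) := by
    by_contra hno
    push Not at hno
    have hBW0 : ⁅B, W⁆ = ⊥ := Subgroup.commutator_eq_bot_iff_le_centralizer.2 hno
    have h2 : ⁅⁅E, B⁆, W⁆ = ⊥ := by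
      refine Subgroup.commutator_commutator_eq_bot_of_rotate ?_ ?_
      · rw [hBW0, Subgroup.commutator_bot_left]
      · refine le_bot_iff.1 ((Subgroup.commutator_mono
          (Subgroup.le_normalizer_iff_commutator_le_left.1 hx.normW) le_rfl).trans ?_)
        rw [Subgroup.commutator_comm, hBW0]
    rw [hEB, Subgroup.commutator_comm, Subgroup.commutator_eq_bot_iff_le_centralizer] at h2
    exact hs.ne (hs.movW.trans h2)
  refine hnq b hbB hbW ?_
  set B' := Subgroup.zpowers b with hB'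
  have hB'B : B' ≤ B := by rwa [hB', Subgroup.zpowers_le]
  have hB'p : IsPGroup 3 B' := by
    refine T.isPGroup'.to_le (hB'B.trans ?_)
    rw [hB, LocalEven.Block.baumann_eq]; exact inf_le_left
  have hQp : IsPGroup 3 Q := Fusion.pCoreOf_isPGroup E
  obtain ⟨hquat, -, hidx⟩ := hx.small (by
    rcases hk.kind with ⟨h, -⟩ | ⟨-, -, h, -⟩
    · omega
    · exact h)
  have hidD : Z.relIndex D = 3 ^ 2 := by
    have h := relIndex_compl (A := W) (X := D) hWQ (fun a ha => ha.1)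
      (le_normalizer_of_conj fun g hg w hw => by rw [hconjW hg hw]; exact hw) hcov
    rw [hidx, hDW] at h
    omega
  have hidW : Z.relIndex W = 3 ^ 2 := by
    have hmW : mov 3 E ≤ W := hs.movW
    have h := relIndex_compl (A := Z) (X := mov 3 E) hZW hmW
      (le_normalizer_of_conj fun g hg z hz => by rw [omega_comm _ hg _ (hZW hz), mul_inv_cancel_right]; exact hz)
      (fun w hw => by
        obtain ⟨m, hm, z, hz, rfl⟩ := mem_sup_abelian (A := mov 3 E) (B := Z)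
          (fun a ha b hb => omega_comm _ (hZW hb) _ (hmW ha)) (hx.W_cover.trans (sup_le_sup_left hx.zeq.ge _) hw)
        exact ⟨m, hm, by rwa [inv_mul_cancel_left]⟩)
    have h0 : mov 3 E ⊓ Z = ⊥ := le_bot_iff.1
      ((inf_le_inf_left _ (fun x hx' => (hx.zeq.le hx').2)).trans_eq hk.disj)
    rwa [h0, Subgroup.relIndex_bot_left, hk.card] at h
  have hDQ : D ≤ Q := fun a ha => ha.1
  have hZD : Z ≤ D := hDW ▸ inf_le_left
  obtain ⟨L₁, hL₁, hup₁, hdown₁⟩ := quad_mod hB'p (hQp.to_le hDQ) hZD hidD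
    (Subgroup.commutator_mono hDQ hDQ) (hB'B.trans hBD) (hB'B.trans hBZ)
  obtain ⟨L₂, hL₂, hup₂, hdown₂⟩ := quad_mod hB'p (hQp.to_le hWQ) hZW hidW
    (Subgroup.commutator_mono hWQ hWQ) (hB'B.trans hBW) (hB'B.trans hBZ)
  have hinvm : ∀ (L : Subgroup G) (c x : G), ⁅c, x⁆ ∈ L → ⁅x, c⁆ ∈ L := fun L c x h => by
    rw [← commutatorElement_inv]; exact inv_mem h
  have htop : ⁅Q, B'⁆ ≤ L₁ ⊔ L₂ := by
    refine Subgroup.commutator_le.2 fun a ha c hc => ?_
    obtain ⟨d, hd, hda⟩ := hcov a ha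
    set w := d⁻¹ * a
    have e : a = d * w := by simp [w]
    have hwc : ⁅w, c⁆ ∈ W := (comm_mem hda (hBW (hB'B hc))).1
    rw [e, show ⁅d * w, c⁆ = d * ⁅w, c⁆ * d⁻¹ * ⁅d, c⁆ by simp only [commutatorElement_def]; group,
      hconjW hd.1 hwc]
    exact mul_mem (Subgroup.mem_sup_right (hinvm _ _ _ (hup₂ w hda c hc)))
      (Subgroup.mem_sup_left (hinvm _ _ _ (hup₁ d hd c hc)))
  have hlow : ⁅L₁ ⊔ L₂, B'⁆ ≤ Z := by
    refine Subgroup.commutator_le.2 fun x hx' c hc => ?_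
    obtain ⟨l, hl, l', hl', rfl⟩ := mem_sup_abelian (A := L₁) (B := L₂)
      (fun u hu v hv => (hcen (hDQ (hL₁ hu)) (hL₂ hv)).symm) hx'
    have hwc : ⁅l', c⁆ ∈ W := (comm_mem (hL₂ hl') (hBW (hB'B hc))).1
    rw [show ⁅l * l', c⁆ = l * ⁅l', c⁆ * l⁻¹ * ⁅l, c⁆ by simp only [commutatorElement_def]; group,
      hconjW (hDQ (hL₁ hl)) hwc]
    exact mul_mem (hinvm _ _ _ (hdown₂ l' hl' c hc)) (hinvm _ _ _ (hdown₁ l hl c hc))
  refine (Subgroup.commutator_mono htop le_rfl).trans (hlow.trans ?_)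
  rw [hx.cent, hZ, hx.zeq]

/-- If `O_p(F)` centralises `Q / Z`, so do the commutators of `⟨E, F⟩` with `O_p(G)`. -/
theorem comm_acts_trivially (hs : Shape p E) (hf : Shape p F) (hx : Exc p E)
    (hab : ∀ a ∈ pCoreOf p E, ∀ b ∈ pCoreOf p F, ⁅a, b⁆ ∈ ⁅pCoreOf p E, pCoreOf p E⁆)
    {y : G} (hy : y ∈ E ⊔ F) {r : G} (hr : r ∈ pCore p G) {a : G} (ha : a ∈ pCoreOf p E) :
    a⁻¹ * (⁅y, r⁆ * a * ⁅y, r⁆⁻¹) ∈ ⁅pCoreOf p E, pCoreOf p E⁆ := by
  set Q := pCoreOf p E with hQ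
  set R := pCore p G with hR
  set Z := ⁅Q, Q⁆ with hZ
  have hconj : ∀ {d a : G}, d ∈ R → a ∈ Q → d * a * d⁻¹ ∈ Q := fun hd ha =>
    (Subgroup.mem_normalizer_iff.1 (hs.R_normalizer hd) _).1 ha
  let C : Subgroup G :=
    { carrier := {d | d ∈ R ∧ ∀ a ∈ Q, a⁻¹ * (d * a * d⁻¹) ∈ Z}
      one_mem' := ⟨one_mem _, fun a _ => by simp⟩
      mul_mem' := by
        rintro d d' ⟨hd, hd'⟩ ⟨he, he'⟩
        refine ⟨mul_mem hd he, fun a ha => ?_⟩
        have hz := he' a ha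
        have e1 : a⁻¹ * (d * d' * a * (d * d')⁻¹) =
            a⁻¹ * (d * a * d⁻¹) * (d * (a⁻¹ * (d' * a * d'⁻¹)) * d⁻¹) := by group
        rw [e1, hx.R_fix hd (hx.Z_le hz), mul_inv_cancel_right]
        exact mul_mem (hd' a ha) hz
      inv_mem' := by
        rintro d ⟨hd, hd'⟩
        refine ⟨inv_mem hd, fun a ha => ?_⟩
        have h1 := inv_mem (hd' _ (hconj (inv_mem hd) ha))
        rwa [show ((d⁻¹ * a * d⁻¹⁻¹)⁻¹ * (d * (d⁻¹ * a * d⁻¹⁻¹) * d⁻¹))⁻¹ =
          a⁻¹ * (d⁻¹ * a * d⁻¹⁻¹) by group] at h1 }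
  have hEC : Q ≤ C := fun b hb => ⟨hs.Q_le hb, fun a ha => by
    rw [show a⁻¹ * (b * a * b⁻¹) = ⁅a⁻¹, b⁆ by simp only [commutatorElement_def]; group]
    exact Subgroup.commutator_mem_commutator (inv_mem ha) hb⟩
  have hFC : pCoreOf p F ≤ C := fun b hb => ⟨hf.Q_le hb, fun a ha => by
    rw [show a⁻¹ * (b * a * b⁻¹) = ⁅a⁻¹, b⁆ by simp only [commutatorElement_def]; group]
    exact hab _ (inv_mem ha) _ hb⟩
  set L := ⁅E, R⁆ ⊔ ⁅F, R⁆ with hL
  have hLC : L ≤ C := sup_le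
    (Subgroup.commutator_le.2 fun e he r hr => hEC (hs.comm_mem_Q he hr))
    (Subgroup.commutator_le.2 fun e he r hr => hFC (hf.comm_mem_Q he hr))
  suffices h : ∀ r ∈ R, ⁅y, r⁆ ∈ L from (hLC (h r hr)).2 a ha
  have hgen : ∀ x, x ∈ E ∨ x ∈ F → ∀ r ∈ R, ⁅x, r⁆ ∈ L := fun x hx' r hr => by
    rcases hx' with h | h
    · exact Subgroup.mem_sup_left (Subgroup.commutator_mem_commutator h hr)
    · exact Subgroup.mem_sup_right (Subgroup.commutator_mem_commutator h hr)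
  rw [Subgroup.sup_eq_closure] at hy
  induction hy using Subgroup.closure_induction with
  | mem x hx' => exact hgen x hx'
  | one => intro r _; simp
  | mul u v _ _ hu hv =>
    intro r hr
    rw [show ⁅u * v, r⁆ = ⁅u, ⁅v, r⁆⁆ * ⁅v, r⁆ * ⁅u, r⁆ by simp only [commutatorElement_def]; group]
    exact mul_mem (mul_mem (hu _ ((hLC (hv r hr)).1)) (hv r hr)) (hu r hr)
  | inv u _ hu =>
    intro r hr
    rw [show ⁅u⁻¹, r⁆ = ⁅u, u⁻¹ * r * u⁆⁻¹ by simp only [commutatorElement_def]; group]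
    exact inv_mem (hu _ ((inferInstance : R.Normal).conj_mem' r hr u))

end Cfsg.Agent.LocalEven.SubnBlock
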